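import Cfsg.Agent.Lib.Char.SmallDegree.Image
import Cfsg.Agent.Lib.Char.HalfDegree.Eigen

/-!
# Restriction to the subgroup generated by the elements of order `p`
-/

set_option autoImplicit false
set_option linter.unusedSectionVars false

namespace CfsgLib.Char.SmallDegree

open Cfsg CfsgLib.Char CfsgLib.Char.HalfDegree Module

universe u v

variable {p : ℕ} [hpf : Fact p.Prime] {L : Type u} [Group L] [Finite L]
  {V : Type v} [AddCommGroup V] [Module ℂ V] [FiniteDimensional ℂ V]

/-- A small representation of a perfect group generated by the conjugates of `x` is trivial. -/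
theorem eq_one_of_small (hperf : commutator L = ⊤) (hsq : ¬ p ^ 2 ∣ Nat.card L) {x : L}
    (hx : orderOf x = p) (hgen : Subgroup.normalClosure {x} = ⊤) (τ : Representation ℂ L V)
    (hn : 2 * finrank ℂ V + 1 < p) (g : L) : τ g = 1 := by
  have h := trivial_of_small hperf hsq hx (toCoord τ) hn
  have hτx : τ x = 1 := by
    refine LinearMap.ext fun v => (Module.finBasis ℂ V).equivFun.injective ?_
    rw [← conjRep_apply τ _ x v]
    show toCoord τ x _ = _
    rw [h]
    rfl
  have hle : Subgroup.normalClosure {x} ≤ τ.toHomUnits.ker :=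
    Subgroup.normalClosure_le_normal (Set.singleton_subset_iff.mpr (MonoidHom.mem_ker.mpr (Units.ext hτx)))
  exact congrArg Units.val (MonoidHom.mem_ker.mp (hle (hgen ▸ Subgroup.mem_top g)))

/-- An invariant subspace of small dimension or codimension gives a fixed vector. -/
theorem exists_fixed (hperf : commutator L = ⊤) (hsq : ¬ p ^ 2 ∣ Nat.card L) {x : L}
    (hx : orderOf x = p) (hgen : Subgroup.normalClosure {x} = ⊤) (τ : Representation ℂ L V)
    (U : Submodule ℂ V) (hU : ∀ g, ∀ v ∈ U, τ g v ∈ U) (hbot : U ≠ ⊥) (htop : U ≠ ⊤)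
    (hd : finrank ℂ V + 2 ≤ p) (hp2 : p ≠ 2) : ∃ w : V, w ≠ 0 ∧ ∀ g, τ g w = w := by
  classical
  have := Fintype.ofFinite L
  have hodd := hpf.out.odd_of_ne_two hp2
  have hsum := Submodule.finrank_quotient_add_finrank U
  rcases Nat.lt_or_ge (2 * finrank ℂ U + 1) p with h | h
  · let τ₁ : Representation ℂ L U :=
      { toFun := fun g => (τ g).restrict (hU g)
        map_one' := LinearMap.ext fun v => Subtype.ext (by simp)
        map_mul' := fun a b => LinearMap.ext fun v => Subtype.ext (by simp) }
    obtain ⟨w, hw, hw0⟩ := (Submodule.ne_bot_iff U).mp hbot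
    exact ⟨w, hw0, fun g => congrArg Subtype.val
      (LinearMap.congr_fun (eq_one_of_small hperf hsq hx hgen τ₁ h g) ⟨w, hw⟩)⟩
  · let τ₂ : Representation ℂ L (V ⧸ U) :=
      { toFun := fun g => U.mapQ U (τ g) (hU g)
        map_one' := Submodule.linearMap_qext _ (LinearMap.ext fun v => by simp)
        map_mul' := fun a b => Submodule.linearMap_qext _ (LinearMap.ext fun v => by simp) }
    have h2 : 2 * finrank ℂ (V ⧸ U) + 1 < p := by
      obtain ⟨m, hm⟩ := hodd
      omega
    obtain ⟨v, hv⟩ : ∃ v, v ∉ U := by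
      by_contra hall
      push Not at hall
      exact htop (eq_top_iff.mpr fun v _ => hall v)
    have hmem : ∀ g, τ g v - v ∈ U := fun g => by
      rw [← Submodule.Quotient.eq]
      exact LinearMap.congr_fun (eq_one_of_small hperf hsq hx hgen τ₂ h2 g) (Submodule.Quotient.mk v)
    refine ⟨∑ g, τ g v, fun h0 => hv ?_, fun g => ?_⟩
    · have h1 : ∑ g, (τ g v - v) ∈ U := Submodule.sum_mem _ fun g _ => hmem g
      rw [Finset.sum_sub_distrib, h0, zero_sub, Finset.sum_const, Finset.card_univ,
        ← Nat.cast_smul_eq_nsmul ℂ, neg_mem_iff, Submodule.smul_mem_iff U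
          (Nat.cast_ne_zero.mpr Fintype.card_ne_zero)] at h1
      exact h1
    · rw [map_sum]
      refine Fintype.sum_equiv (Equiv.mulLeft g) _ _ fun k => ?_
      rw [← Module.End.mul_apply, ← map_mul]
      rfl

/-- Clifford's theorem for a character of small degree. -/
theorem no_invariant_restrict {G : Type u} [Group G] [Finite G] (ρ : Representation ℂ G V)
    [ρ.IsIrreducible] (H : Subgroup G) [hH : H.Normal] (hperf : commutator H = ⊤)
    (hsq : ¬ p ^ 2 ∣ Nat.card H) {x : H} (hx : orderOf x = p) (hgen : Subgroup.normalClosure {x} = ⊤)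
    (hd : finrank ℂ V + 2 ≤ p) (hp2 : p ≠ 2) (hne : ρ (x : G) ≠ 1) :
    ∀ U : Submodule ℂ V, (∀ g : H, ∀ v ∈ U, ρ (g : G) v ∈ U) → U = ⊥ ∨ U = ⊤ := by
  intro U hU
  by_contra h
  push Not at h
  obtain ⟨w, hw0, hw⟩ := exists_fixed hperf hsq hx hgen (ρ.comp H.subtype) U hU h.1 h.2 hd hp2
  let W : Subrepresentation ρ :=
    ⟨⨅ g : H, LinearMap.ker (ρ (g : G) - 1), fun a v hv => by
      rw [Submodule.mem_iInf] at hv ⊢
      intro g
      have h1 := hv ⟨a⁻¹ * g * a, by simpa using hH.conj_mem _ g.2 a⁻¹⟩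
      rw [LinearMap.mem_ker, LinearMap.sub_apply, Module.End.one_apply, sub_eq_zero] at h1 ⊢
      calc ρ (g : G) (ρ a v) = ρ a (ρ (a⁻¹ * g * a) v) := by
            rw [← Module.End.mul_apply, ← Module.End.mul_apply, ← map_mul, ← map_mul, mul_assoc a⁻¹,
              mul_inv_cancel_left]
        _ = ρ a v := by rw [h1]⟩
  have hwW : w ∈ W.toSubmodule := by
    refine (Submodule.mem_iInf _).mpr fun g => ?_
    rw [LinearMap.mem_ker, LinearMap.sub_apply, Module.End.one_apply, sub_eq_zero]
    exact hw g
  rcases IsSimpleOrder.eq_bot_or_eq_top W with hW | hW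
  · rw [hW] at hwW
    exact hw0 ((Submodule.mem_bot ℂ).mp hwW)
  · refine hne (LinearMap.ext fun v => ?_)
    have hv : v ∈ W.toSubmodule := by rw [hW]; exact Submodule.mem_top
    have := (Submodule.mem_iInf _).mp hv x
    rwa [LinearMap.mem_ker, LinearMap.sub_apply, sub_eq_zero] at this

/-- A representation of degree at most `(p - 1) / 2` of a perfect group is irreducible. -/
theorem no_invariant_half (hperf : commutator L = ⊤) (hsq : ¬ p ^ 2 ∣ Nat.card L) {x : L}
    (hx : orderOf x = p) (hgen : Subgroup.normalClosure {x} = ⊤) (τ : Representation ℂ L V)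
    (hne : τ x ≠ 1) (hd : 2 * finrank ℂ V < p) :
    ∀ U : Submodule ℂ V, (∀ g : L, ∀ v ∈ U, τ g v ∈ U) → U = ⊥ ∨ U = ⊤ := by
  intro U hU
  by_contra h
  push Not at h
  have hsum := Submodule.finrank_quotient_add_finrank U
  have h0 : 0 < finrank ℂ U := Nat.pos_of_ne_zero fun e => h.1 (Submodule.finrank_eq_zero.1 e)
  have h0' : finrank ℂ U < finrank ℂ V := Submodule.finrank_lt h.2
  let τ₁ : Representation ℂ L U :=
    { toFun := fun g => (τ g).restrict (hU g)
      map_one' := LinearMap.ext fun v => Subtype.ext (by simp)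
      map_mul' := fun a b => LinearMap.ext fun v => Subtype.ext (by simp) }
  let τ₂ : Representation ℂ L (V ⧸ U) :=
    { toFun := fun g => U.mapQ U (τ g) (hU g)
      map_one' := Submodule.linearMap_qext _ (LinearMap.ext fun v => by simp)
      map_mul' := fun a b => Submodule.linearMap_qext _ (LinearMap.ext fun v => by simp) }
  refine hne (eq_one_of_unipotent hpf.out.ne_zero (by rw [← map_pow, ← hx, pow_orderOf_eq_one, map_one])
    fun v => ?_)
  have hmem : τ x v - v ∈ U := by
    rw [← Submodule.Quotient.eq]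
    exact LinearMap.congr_fun (eq_one_of_small hperf hsq hx hgen τ₂ (by omega) x) (Submodule.Quotient.mk v)
  exact congrArg Subtype.val
    (LinearMap.congr_fun (eq_one_of_small hperf hsq hx hgen τ₁ (by omega) x) ⟨_, hmem⟩)

/-- The restriction is irreducible. -/
theorem isIrreducible_of_no_invariant [Nontrivial V] (τ : Representation ℂ L V)
    (h : ∀ U : Submodule ℂ V, (∀ g : L, ∀ v ∈ U, τ g v ∈ U) → U = ⊥ ∨ U = ⊤) : τ.IsIrreducible where
  exists_pair_ne := ⟨⊥, ⊤, fun e => bot_ne_top (α := Submodule ℂ V) (congrArg Subrepresentation.toSubmodule e)⟩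
  eq_bot_or_eq_top S := (h S.toSubmodule fun g _ hv => S.apply_mem_toSubmodule g hv).imp
    (fun e => Subrepresentation.toSubmodule_injective e) fun e => Subrepresentation.toSubmodule_injective e

end CfsgLib.Char.SmallDegree
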