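import Cfsg.Agent.Lib.Char.SmallDegree.Cases

/-!
# The exterior square of a small character
-/

set_option autoImplicit false
set_option linter.unusedSectionVars false

namespace CfsgLib.Char.SmallDegree

open Cfsg CfsgLib.Block CfsgLib.Block.Cyclic CfsgLib.Char Finset
open scoped ComplexConjugate

universe u

variable {p : ℕ} [hpf : Fact p.Prime] {L : Type u} [Group L] [Fintype L] {e d t : ℕ}
  {x y : L} {r : ZMod p}

/-- A sum over an orbit does not change under a rotation. -/
theorem sum_rot {M : Type*} [AddCommMonoid M] (hr : r ^ e = 1) (g : ZMod p → M) (m : ℕ) :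
    ∑ l ∈ range e, g (r ^ l * r ^ m) = ∑ l ∈ range e, g (r ^ l) := by
  induction m with
  | zero => simp
  | succ m ih =>
    rw [← ih]
    rcases Nat.eq_zero_or_pos e with rfl | he
    · simp
    obtain ⟨e', rfl⟩ : ∃ e', e = e' + 1 := ⟨e - 1, by omega⟩
    rw [Finset.sum_range_succ, Finset.sum_range_succ' (fun l => g (r ^ l * r ^ m))]
    congr 1
    · exact Finset.sum_congr rfl fun l _ => by rw [pow_succ r l, pow_succ' r m, mul_assoc]
    · rw [pow_succ' r m, ← mul_assoc, ← pow_succ, hr, pow_zero]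

variable (D : NData p e x y r) {χ : IrrCharacter L} {a : ZMod p} {ν : ℂ} {μ lam : L → ℂ}

include D in
/-- A family of positive sign over the exterior square is impossible for odd `e ≥ t - 2`. -/
theorem Small.alt_false (h : Small x y r e d χ a ν μ) (hde : d + e = p) (ht : t * e = p - 1)
    (F : Fam x r e lam) (hlam : ∀ z ∈ Subgroup.center L, lam z = μ z * μ z)
    (hδ : F.δ = 1) (hm : 0 < F.m0) (hodd : Odd e) (het : e < t) (hte : t ≤ e + 2) : False := by
  classical
  have hp : p.Prime := hpf.out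
  have he0 := D.e_ne_zero
  have hd0 : (d : ℂ) ≠ 0 := Nat.cast_ne_zero.mpr (h.deg ▸ (charDegree_eq χ).2)
  have ha := h.a_ne_zero D hde
  have hp2 : (2 : ZMod p) ≠ 0 := fun h2 => by
    have h2' : ((2 : ℕ) : ZMod p) = 0 := by exact_mod_cast h2
    rw [ZMod.natCast_eq_zero_iff] at h2'
    have := Nat.le_of_dvd two_pos h2'
    have := D.e_lt
    have := D.two_le
    omega
  -- the exponents
  set w : ℕ × ℕ → ZMod p := fun q => a * r ^ q.1 + a * r ^ q.2 with hw
  have hw0 : ∀ q : ℕ × ℕ, w q ≠ 0 := by
    intro q hq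
    have h1 : r ^ q.1 = -r ^ q.2 := by
      rw [eq_neg_iff_add_eq_zero]
      exact (mul_eq_zero.mp (by rw [mul_add]; exact hq)).resolve_left ha
    have h2 := congrArg (· ^ e) h1
    simp only [← pow_mul, mul_comm _ e, hodd.neg_pow] at h2
    rw [pow_mul, pow_mul, D.prim.pow_eq_one, one_pow, one_pow] at h2
    apply hp2
    linear_combination h2
  set W : ℕ × ℕ → (ZMod p)ˣ := fun q => Units.mk0 _ (hw0 q) with hW
  set Λ : L → ℂ := fun g => ((χ : L → ℂ) g * (χ : L → ℂ) g - (χ : L → ℂ) (g * g)) / 2 with hΛ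
  have hΛchar : IsCharacter L Λ := isCharacter_altSquare (isCharacter_irr χ)
  have hcen : ∀ z ∈ Subgroup.center L, ∀ g, Λ (z * g) = μ z * μ z * Λ g := by
    intro z hz g
    have hzz : z * g * (z * g) = (z * z) * (g * g) := by
      rw [mul_assoc z g, ← mul_assoc g z, Subgroup.mem_center_iff.mp hz g]; group
    have hmu : μ (z * z) = μ z * μ z := by
      have h1 := h.central_mul D hz z
      rw [h.cen z hz, h.cen _ (mul_mem hz hz)] at h1
      exact mul_left_cancel₀ hd0 (by rw [h1]; ring)
    simp only [hΛ]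
    rw [hzz, h.central_mul D hz, h.central_mul D (mul_mem hz hz), hmu]
    ring
  set P : Finset (ℕ × ℕ) := range e ×ˢ range e with hP
  have hval : ∀ j : ZMod p, j ≠ 0 →
      2 * Λ (x ^ j.val) = ∑ q ∈ P, stdPsi p (j * w q) + ∑ l ∈ range e, stdPsi p (j * w (l, l)) := by
    intro j hj
    have h2j : 2 * j ≠ 0 := mul_ne_zero hp2 hj
    have hsq : x ^ j.val * x ^ j.val = x ^ (2 * j).val := by
      rw [← pow_add, two_mul j, ZMod.val_add, ← pow_eq_pow_mod _ D.pow_p]
    simp only [hΛ, hsq]
    rw [h.val j hj, h.val _ h2j, mul_div_cancel₀ _ (two_ne_zero' ℂ), neg_mul_neg, Finset.sum_mul_sum,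
      sub_neg_eq_add, hP, Finset.sum_product]
    congr 1
    · refine Finset.sum_congr rfl fun l _ => Finset.sum_congr rfl fun l' _ => ?_
      rw [← AddChar.map_add_eq_mul]
      congr 1
      simp only [hw]; ring
    · refine Finset.sum_congr rfl fun l _ => ?_
      congr 1
      simp only [hw]; ring
  -- the virtual character
  set Φ : L → ℂ := (2 * (e : ℂ)) • Λ - (∑ q ∈ P, (F.θ (W q) : L → ℂ) +
    ∑ l ∈ range e, (F.θ (W (l, l)) : L → ℂ)) with hΦ
  have hsing : ∀ g, p ∣ orderOf g → Φ g = 0 := by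
    intro g hg
    obtain ⟨c, z, i, hz, hi, hcg⟩ := D.sing g hg
    have hj : (i : ZMod p) ≠ 0 := by rwa [Ne, ZMod.natCast_eq_zero_iff]
    set j : ZMod p := (i : ZMod p) with hjd
    have hxi : x ^ i = x ^ j.val := by rw [hjd, ZMod.val_natCast, ← pow_eq_pow_mod _ D.pow_p]
    have hcl : ∀ f : L → ℂ, IsClassFunction L f → f g = f (z * x ^ j.val) := fun f hf => by
      rw [← hf g c, hcg, hxi, Subgroup.mem_center_iff.mp hz]
    have hθ : ∀ u, (F.θ u : L → ℂ) g = lam z * ∑ l ∈ range e, stdPsi p (j * ((u : ZMod p) * r ^ l)) :=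
      fun u => by
        rw [hcl _ (isClassFunction_irr _), F.central_mul D u hz, F.val u j hj, hδ]
        push_cast
        ring
    simp only [hΦ, Pi.sub_apply, Pi.add_apply, Pi.smul_apply, Finset.sum_apply, smul_eq_mul, hθ]
    rw [hcl Λ (isClassFunction_of_isCharacter hΛchar), hcen z hz, ← hlam z hz,
      show 2 * (e : ℂ) * (lam z * Λ (x ^ j.val)) = lam z * ((e : ℂ) * (2 * Λ (x ^ j.val))) by ring,
      hval j hj, ← Finset.mul_sum, ← Finset.mul_sum, ← mul_add, sub_eq_zero]
    congr 1
    conv_rhs =>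
      rw [Finset.sum_comm (s := P) (t := range e), Finset.sum_comm (s := range e) (t := range e),
        ← Finset.sum_add_distrib]
    refine ((Finset.sum_congr rfl fun m _ => ?_).trans
      (by rw [Finset.sum_const, card_range, nsmul_eq_mul])).symm
    simp only [hW, Units.val_mk0, hw, hP, Finset.sum_product, add_mul, mul_assoc a, ← mul_add]
    congr 1
    · rw [sum_rot D.prim.pow_eq_one (fun z => ∑ l' ∈ range e, stdPsi p (j * (a * (z + r ^ l' * r ^ m)))) m]
      exact Finset.sum_congr rfl fun l _ =>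
        sum_rot D.prim.pow_eq_one (fun z => stdPsi p (j * (a * (r ^ l + z)))) m
    · exact (Finset.sum_congr rfl fun l _ => by rw [mul_add (r ^ l)]).trans
        (sum_rot D.prim.pow_eq_one (fun z => stdPsi p (j * (a * (z + z)))) m)
  -- its inner products with the members
  choose R hR using fun θ : IrrCharacter L => classInner_char_irr_nat hΛchar θ
  set N : (ZMod p)ˣ → ℕ := fun v => (P.filter fun q => F.θ (W q) = F.θ v).card +
    ((range e).filter fun l => F.θ (W (l, l)) = F.θ v).card with hN
  have hinner : ∀ v, classInner Φ (F.θ v : L → ℂ) = 2 * (e : ℂ) * R (F.θ v) - N v := by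
    intro v
    rw [hΦ, classInner_sub_left, classInner_smul_left, classInner_add_left, classInner_sum_left,
      classInner_sum_left, hR]
    simp only [classInner_irr, Finset.sum_boole, hN, Nat.cast_add]
  have hconst : ∀ v v', classInner Φ (F.θ v : L → ℂ) = classInner Φ (F.θ v' : L → ℂ) := by
    intro v v'
    simp only [classInner]
    congr 1
    refine Finset.sum_congr rfl fun g _ => ?_
    by_cases hg : p ∣ orderOf g
    · rw [hsing g hg, zero_mul, zero_mul]
    · rw [F.reg v v' g hg]
  obtain ⟨v0, hv0⟩ : ∃ v0 : (ZMod p)ˣ, N v0 = 0 := by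
    have hlt : (P.image W).card < (univ : Finset (ZMod p)ˣ).card := by
      refine card_image_le.trans_lt ?_
      rw [hP, card_product, card_range, Finset.card_univ, ZMod.card_units, ← ht]
      exact Nat.mul_lt_mul_of_pos_right het (Nat.pos_of_ne_zero he0)
    obtain ⟨v0, -, hv0⟩ := exists_mem_notMem_of_card_lt_card hlt
    refine ⟨v0, ?_⟩
    have hno : ∀ q ∈ P, F.θ (W q) ≠ F.θ v0 := by
      rintro ⟨q₁, q₂⟩ hq heq
      obtain ⟨l, hl, hl'⟩ := (F.fib _ _).mp heq
      refine hv0 (mem_image.mpr ⟨((q₁ + l) % e, (q₂ + l) % e), ?_, Units.ext ?_⟩)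
      · rw [hP, mem_product, mem_range, mem_range]
        exact ⟨Nat.mod_lt _ (Nat.pos_of_ne_zero he0), Nat.mod_lt _ (Nat.pos_of_ne_zero he0)⟩
      · rw [hl']
        simp only [hW, hw, Units.val_mk0, ← pow_eq_pow_mod _ D.prim.pow_eq_one, pow_add]
        ring
    rw [hN, add_eq_zero, card_eq_zero, card_eq_zero, filter_eq_empty_iff, filter_eq_empty_iff]
    exact ⟨hno, fun l hl => hno _ (by simp [hP, mem_range.mp hl])⟩
  have hle : ∀ v, N v ≤ 2 * e * R (F.θ v) := by
    intro v
    have h1 := hconst v v0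
    rw [hinner, hinner, hv0, Nat.cast_zero, sub_zero] at h1
    have h2 : ((2 * e * R (F.θ v) : ℕ) : ℂ) = ((2 * e * R (F.θ v0) + N v : ℕ) : ℂ) := by
      push_cast; linear_combination h1
    have h3 : 2 * e * R (F.θ v) = 2 * e * R (F.θ v0) + N v := by exact_mod_cast h2
    omega
  have hNsum : ∑ v, N v = e * (e * e + e) := by
    have hc : ∀ u : (ZMod p)ˣ, (univ.filter fun v => F.θ u = F.θ v).card = e := fun u => by
      conv_rhs => rw [← card_coset_filter D.prim he0 u]
      congr 1
      exact filter_congr fun v _ => F.fib u v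
    simp only [hN, Finset.sum_add_distrib, card_filter]
    rw [Finset.sum_comm, Finset.sum_comm (s := univ) (t := range e)]
    simp only [← card_filter, hc, Finset.sum_const, smul_eq_mul, hP, card_product, card_range]
    ring
  -- the weight
  obtain ⟨b, hb, hbe, hwt⟩ := F.exists_b D hm
  rw [hlam _ D.pow_mem] at hbe
  obtain ⟨s, hs⟩ : Even t := by
    have h1 : Even (t * e) := by
      rw [ht]
      exact (hp.odd_of_ne_two (by have := D.e_lt; have := D.two_le; omega)).tsub_odd odd_one
    rcases Nat.even_mul.mp h1 with h2 | h2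
    · exact h2
    · exact absurd h2 (Nat.not_even_iff_odd.mpr hodd)
  have hY : ∀ l ∈ Ico 1 e, Λ (y ^ l) = 0 := by
    intro l hl
    rw [mem_Ico] at hl
    have hne : 2 * l ≠ e := fun h2 => Nat.not_even_iff_odd.mpr hodd ⟨l, by omega⟩
    simp only [hΛ]
    rw [← pow_add, ← two_mul, h.valY l hl.1 hl.2, ← pow_two, ← pow_mul, mul_comm l 2]
    rcases lt_or_gt_of_ne hne with h2 | h2
    · rw [h.valY _ (by omega) h2, sub_self, zero_div]
    · rw [show 2 * l = e + (2 * l - e) by omega, pow_add, pow_add, h.central_mul D D.pow_mem,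
        h.valY _ (by omega) (by omega), h.nuE, sub_self, zero_div]
  have hk : wt x y p e b Λ = (e : ℂ) * ((s - 1 : ℕ) : ℂ) := by
    have hp0 : (p : ℂ) ≠ 0 := Nat.cast_ne_zero.mpr hp.ne_zero
    rw [wt, Finset.sum_eq_zero (s := Ico 1 e) fun l hl => by rw [hY l hl, zero_mul], add_zero,
      ← Finset.add_sum_erase _ _ (mem_univ (0 : ZMod p)), ZMod.val_zero, pow_zero,
      Finset.sum_congr rfl (g := fun j => (∑ q ∈ P, stdPsi p (j * w q) +
        ∑ l ∈ range e, stdPsi p (j * w (l, l))) / 2) fun j hj => by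
          rw [← hval j (mem_erase.mp hj).1]; ring,
      ← Finset.sum_div, Finset.sum_add_distrib, Finset.sum_comm,
      Finset.sum_comm (s := univ.erase (0 : ZMod p)) (t := range e),
      Finset.sum_congr rfl fun q _ => sum_stdPsi_erase _,
      Finset.sum_congr rfl fun l _ => sum_stdPsi_erase _]
    simp only [hw0, if_false, zero_sub, Finset.sum_const, hP, card_product, card_range, nsmul_eq_mul,
      hΛ, one_mul, h.apply_one]
    have h2 := D.two_le
    have hpe : (p : ℂ) = 2 * s * e + 1 := by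
      have h1 : p = 2 * s * e + 1 := by
        have := hp.two_le
        rw [hs] at ht
        rw [two_mul]
        omega
      exact_mod_cast h1
    have hd : (d : ℂ) = p - e := by
      have h1 : (p : ℂ) = d + e := by exact_mod_cast hde.symm
      linear_combination -h1
    rw [Nat.cast_sub (by omega : 1 ≤ s), hd]
    field_simp
    push_cast
    rw [hpe]
    ring
  have hbud := budget D hΛchar hb (fun g => by rw [hcen _ D.pow_mem, hbe]) hk (univ.image F.θ)
    (fun θ hθ => by obtain ⟨u, -, rfl⟩ := mem_image.mp hθ; exact hwt u) R (fun θ _ => hR θ)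
  have h1 : e * (e * e + e) ≤ 2 * e * (e * (s - 1)) := by
    rw [← hNsum]
    refine (Finset.sum_le_sum fun v _ => hle v).trans ?_
    rw [← Finset.mul_sum, F.sum_image D R]
    exact Nat.mul_le_mul_left _ (Nat.mul_le_mul_left e hbud)
  have h2 : e * e * (e + 1) ≤ e * e * (2 * (s - 1)) := by
    calc e * e * (e + 1) = e * (e * e + e) := by ring
      _ ≤ _ := h1
      _ = _ := by ring
  have := Nat.le_of_mul_le_mul_left h2 (Nat.mul_pos (by omega) (by omega))
  omega

end CfsgLib.Char.SmallDegree
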