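import Cfsg.Agent.Lib.Char.HalfDegree.Main

/-!
# Classes of elements of order `p` when the Sylow subgroup has order `p`
-/

set_option autoImplicit false
set_option linter.unusedSectionVars false

namespace CfsgLib.Char.SmallDegree

open Cfsg CfsgLib.Char CfsgLib.Char.HalfDegree CfsgLib.Perm.Dickson CfsgLib.AutPSL

universe u

variable {p : ℕ} [hpf : Fact p.Prime] {G : Type u} [Group G]

theorem pow_val_mul_eq {x : G} (hx : x ^ p = 1) (r s : ZMod p) :
    (x ^ r.val) ^ s.val = x ^ (r * s).val := by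
  rw [← pow_mul, ZMod.val_mul, ← pow_eq_pow_mod _ hx]

/-- The exponents by which `x` is conjugated to its powers. -/
def autom (x : G) (hx : x ^ p = 1) : Subgroup (ZMod p)ˣ where
  carrier := {s | ∃ g : G, g * x * g⁻¹ = x ^ (s : ZMod p).val}
  one_mem' := ⟨1, by simp [ZMod.val_one]⟩
  mul_mem' := by
    rintro r s ⟨g, hg⟩ ⟨h, hh⟩
    refine ⟨h * g, ?_⟩
    rw [show h * g * x * (h * g)⁻¹ = h * (g * x * g⁻¹) * h⁻¹ by group, hg, ← conj_pow, hh,
      pow_val_mul_eq hx, Units.val_mul, mul_comm (r : ZMod p)]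
  inv_mem' := by
    rintro s ⟨g, hg⟩
    refine ⟨g⁻¹, ?_⟩
    have h1 : x = (g⁻¹ * x * g⁻¹⁻¹) ^ (s : ZMod p).val := by
      rw [conj_pow, ← hg]; group
    have hp1 : (g⁻¹ * x * g⁻¹⁻¹) ^ p = 1 := by rw [conj_pow, hx, mul_one, mul_inv_cancel]
    calc g⁻¹ * x * g⁻¹⁻¹ = (g⁻¹ * x * g⁻¹⁻¹) ^ ((s : ZMod p) * ((s⁻¹ : (ZMod p)ˣ) : ZMod p)).val := by
          rw [Units.mul_inv, ZMod.val_one, pow_one]
      _ = _ := by rw [← pow_val_mul_eq hp1, ← h1]

theorem mem_autom {x : G} {hx : x ^ p = 1} {s : (ZMod p)ˣ} :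
    s ∈ autom x hx ↔ ∃ g : G, g * x * g⁻¹ = x ^ (s : ZMod p).val := Iff.rfl

variable [Finite G]

/-- The number of classes of elements of order `p` times the order of the automizer is `p - 1`. -/
theorem card_classes {x : G} (D : LocData p x) :
    Nat.card {c : ConjClasses G // ∃ g : G, ConjClasses.mk g = c ∧ orderOf g = p} *
      Nat.card (autom x D.pow_eq_one) = p - 1 := by
  classical
  have hp : p.Prime := hpf.out
  have hord : ∀ s : (ZMod p)ˣ, orderOf (x ^ (s : ZMod p).val) = p := fun s => by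
    refine orderOf_eq_prime (by rw [← pow_mul, mul_comm, pow_mul, D.pow_eq_one, one_pow]) fun h => ?_
    rw [← orderOf_dvd_iff_pow_eq_one, D.order] at h
    exact s.ne_zero (by rw [← ZMod.natCast_zmod_val (s : ZMod p), ZMod.natCast_eq_zero_iff]; exact h)
  set A := autom x D.pow_eq_one with hA
  let f : (ZMod p)ˣ → {c : ConjClasses G // ∃ g : G, ConjClasses.mk g = c ∧ orderOf g = p} :=
    fun s => ⟨ConjClasses.mk (x ^ (s : ZMod p).val), _, rfl, hord s⟩
  have hf : ∀ r s : (ZMod p)ˣ, f r = f s ↔ r⁻¹ * s ∈ A := by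
    intro r s
    simp only [f, Subtype.mk.injEq, ConjClasses.mk_eq_mk_iff_isConj, isConj_iff, hA, mem_autom]
    refine exists_congr fun g => ⟨fun h => ?_, fun h => ?_⟩
    · have h1 := congrArg (fun y => y ^ ((r⁻¹ : (ZMod p)ˣ) : ZMod p).val) h
      simp only [conj_pow, pow_val_mul_eq D.pow_eq_one, Units.mul_inv, ZMod.val_one, pow_one] at h1
      rw [h1, Units.val_mul, mul_comm]
    · rw [← conj_pow, h, pow_val_mul_eq D.pow_eq_one, ← Units.val_mul, mul_comm (r⁻¹) s, inv_mul_cancel_right]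
  have hsurj : ∀ c, ∃ s, f s = c := by
    rintro ⟨c, g, rfl, hg⟩
    obtain ⟨a, ha⟩ := D.conj_zpowers hg
    obtain ⟨i, hi⟩ := (mem_powers_iff_mem_zpowers.mpr ha : a * g * a⁻¹ ∈ Submonoid.powers x)
    have hi0 : (i : ZMod p) ≠ 0 := fun h0 => by
      rw [ZMod.natCast_eq_zero_iff] at h0
      have : a * g * a⁻¹ = 1 := by
        rw [← hi]; exact orderOf_dvd_iff_pow_eq_one.mp (D.order.symm ▸ h0)
      rw [mul_inv_eq_one, mul_eq_left] at this
      rw [this, orderOf_one] at hg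
      exact hp.one_lt.ne hg
    refine ⟨Units.mk0 _ hi0, Subtype.ext (ConjClasses.mk_eq_mk_iff_isConj.mpr (isConj_iff.mpr ⟨a⁻¹, ?_⟩))⟩
    show a⁻¹ * x ^ ((i : ZMod p)).val * a⁻¹⁻¹ = g
    rw [ZMod.val_natCast, ← pow_eq_pow_mod _ D.pow_eq_one, show x ^ i = a * g * a⁻¹ from hi]
    group
  let F : (ZMod p)ˣ ⧸ A → {c : ConjClasses G // ∃ g : G, ConjClasses.mk g = c ∧ orderOf g = p} :=
    Quotient.lift f fun r s h => (hf r s).mpr (QuotientGroup.leftRel_apply.mp h)
  have hF : Function.Bijective F := by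
    refine ⟨fun a b => ?_, fun c => ?_⟩
    · induction a using QuotientGroup.induction_on with | _ r =>
      induction b using QuotientGroup.induction_on with | _ s =>
      exact fun h => QuotientGroup.eq.mpr ((hf r s).mp h)
    · obtain ⟨s, hs⟩ := hsurj c
      exact ⟨(s : (ZMod p)ˣ ⧸ A), hs⟩
  rw [← Nat.card_congr (Equiv.ofBijective F hF), ← Subgroup.card_eq_card_quotient_mul_card_subgroup,
    Nat.card_eq_fintype_card, ZMod.card_units]

/-- A faithful representation bounds the automizer. -/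
theorem card_autom_le {x : G} (D : LocData p x) {n : ℕ} (ρ : Representation ℂ G (Fin n → ℂ))
    (hne : ρ x ≠ 1) : Nat.card (autom x D.pow_eq_one) ≤ n := by
  classical
  have := card_le_finrank (p := p) (T := ρ x) (by rw [← map_pow, D.pow_eq_one, map_one]) hne
    (Finset.univ.filter fun r => r ∈ autom x D.pow_eq_one) (fun r hr => by
      obtain ⟨g, hg⟩ := (Finset.mem_filter.mp hr).2
      refine ⟨LinearEquiv.ofLinearMap (ρ g) (ρ g⁻¹) (by rw [← Module.End.mul_eq_comp, ← map_mul, mul_inv_cancel, map_one]; rfl)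
        (by rw [← Module.End.mul_eq_comp, ← map_mul, inv_mul_cancel, map_one]; rfl), fun v => ?_⟩
      show ρ g (ρ x v) = (ρ x ^ (r : ZMod p).val) (ρ g v)
      rw [← map_pow, ← hg, ← Module.End.mul_apply, ← map_mul, ← Module.End.mul_apply, ← map_mul, inv_mul_cancel_right])
  rw [Module.finrank_fin_fun] at this
  rwa [Nat.card_eq_fintype_card, Fintype.card_subtype]

/-- If the central quotient is `PSL(2, p)`, the squares lie in the automizer. -/
theorem squares_le_autom (h5 : 5 ≤ p) {x : G} (D : LocData p x)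
    (hcen : x ∉ Subgroup.center G)
    (E : (G ⧸ Subgroup.center G) ≃* Matrix.ProjectiveSpecialLinearGroup (Fin 2) (ZMod p))
    (s : (ZMod p)ˣ) : s * s ∈ autom x D.pow_eq_one := by
  classical
  let φ : G →* S2P (ZMod p) := E.toMonoidHom.comp (QuotientGroup.mk' (Subgroup.center G))
  have hφs : Function.Surjective φ := E.surjective.comp (QuotientGroup.mk'_surjective _)
  have hker : ∀ g, φ g = 1 ↔ g ∈ Subgroup.center G := fun g => by
    show E (g : G ⧸ Subgroup.center G) = 1 ↔ _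
    rw [MulEquiv.map_eq_one_iff, QuotientGroup.eq_one_iff]
  have hpC : ¬ p ∣ Nat.card (Subgroup.center G) := fun h => hcen (D.mem_of_dvd _ h)
  have himg : ∀ a b : G, a ^ p = 1 → b ^ p = 1 → φ a = φ b → a = b := by
    intro a b ha hb hab
    have hc : a⁻¹ * b ∈ Subgroup.center G := (hker _).mp (by rw [map_mul, map_inv, hab, inv_mul_cancel])
    have hcp : (a⁻¹ * b) ^ p = 1 := by
      have hcom : Commute a (a⁻¹ * b) := Subgroup.mem_center_iff.1 hc a
      have h2 := hcom.mul_pow p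
      rw [mul_inv_cancel_left, hb, ha, one_mul] at h2
      exact h2.symm
    have h1 : orderOf (⟨a⁻¹ * b, hc⟩ : Subgroup.center G) ∣ Nat.card (Subgroup.center G) :=
      orderOf_dvd_natCard _
    rw [Subgroup.orderOf_mk] at h1
    rcases (Nat.dvd_prime hpf.out).1 (orderOf_dvd_of_pow_eq_one hcp) with h | h
    · exact inv_mul_eq_one.1 (orderOf_eq_one_iff.1 h)
    · exact absurd (h ▸ h1) hpC
  obtain ⟨y₁, hy₁⟩ := hφs (uu (Multiplicative.ofAdd (1 : ZMod p)))
  have huup : uu (Multiplicative.ofAdd (1 : ZMod p)) ^ p = 1 := by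
    rw [← map_pow, ← ofAdd_nsmul, nsmul_one, CharP.cast_eq_zero, ofAdd_zero, map_one]
  have hy₁p : y₁ ^ p ∈ Subgroup.center G := (hker _).mp (by rw [map_pow, hy₁, huup])
  set m := Nat.card (Subgroup.center G) with hm
  have hmz : (m : ZMod p) ≠ 0 := by rw [Ne, CharP.cast_eq_zero_iff (ZMod p) p]; exact hpC
  set x₀ : G := y₁ ^ (m * ((m : ZMod p)⁻¹).val) with hx₀def
  have hx₀φ : φ x₀ = uu (Multiplicative.ofAdd (1 : ZMod p)) := by
    rw [hx₀def, map_pow, hy₁, ← map_pow, ← ofAdd_nsmul, nsmul_one, Nat.cast_mul, ZMod.natCast_zmod_val,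
      mul_inv_cancel₀ hmz]
  have hx₀p : x₀ ^ p = 1 := by
    rw [hx₀def, ← pow_mul, mul_comm, pow_mul]
    have h1 : ((⟨y₁ ^ p, hy₁p⟩ : Subgroup.center G)) ^ m = 1 := pow_card_eq_one'
    have h2 : (y₁ ^ p) ^ m = 1 := by simpa using congrArg Subtype.val h1
    rw [pow_mul, h2, one_pow]
  have hx₀ord : orderOf x₀ = p :=
    orderOf_eq_prime hx₀p fun h => uu_ne_one (F := ZMod p) one_ne_zero (by rw [← hx₀φ, h, map_one])
  have hx₀pow : ∀ r : ZMod p, φ (x₀ ^ r.val) = uu (Multiplicative.ofAdd r) := fun r => by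
    rw [map_pow, hx₀φ, ← map_pow, ← ofAdd_nsmul, nsmul_one, ZMod.natCast_zmod_val]
  obtain ⟨w, hw⟩ := ind_square (F := ZMod p)
    (m := Matrix.GeneralLinearGroup.mkOfDetNeZero !![((s * s : (ZMod p)ˣ) : ZMod p), 0; 0, ((1 : (ZMod p)ˣ) : ZMod p)]
      (by simp [Matrix.det_fin_two]))
    ⟨(s : ZMod p), by simp [Matrix.det_fin_two]⟩
  obtain ⟨l, rfl⟩ := hφs w
  have hl : l * x₀ * l⁻¹ = x₀ ^ ((s * s : (ZMod p)ˣ) : ZMod p).val := by
    refine himg _ _ ?_ ?_ ?_
    · rw [conj_pow, hx₀p, mul_one, mul_inv_cancel]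
    · rw [← pow_mul, mul_comm, pow_mul, hx₀p, one_pow]
    · rw [hx₀pow, map_mul, map_mul, map_inv, hx₀φ, ← hw, ind_diag_uu]
      simp
  obtain ⟨g, hg⟩ := (⟨hx₀ord, D.sq⟩ : LocData p x₀).conj_zpowers D.order
  obtain ⟨i, hi⟩ := (mem_powers_iff_mem_zpowers.mpr hg : g * x * g⁻¹ ∈ Submonoid.powers x₀)
  refine ⟨g⁻¹ * l * g, ?_⟩
  have hi' : g * x * g⁻¹ = x₀ ^ i := hi.symm
  calc g⁻¹ * l * g * x * (g⁻¹ * l * g)⁻¹ = g⁻¹ * (l * (g * x * g⁻¹) * l⁻¹) * g := by group
    _ = g⁻¹ * (g * x * g⁻¹) ^ ((s * s : (ZMod p)ˣ) : ZMod p).val * g := by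
      rw [hi', ← conj_pow, hl, pow_right_comm]
    _ = x ^ ((s * s : (ZMod p)ˣ) : ZMod p).val := by rw [conj_pow]; group

end CfsgLib.Char.SmallDegree
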