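import Mathlib

/-!
# Fixed spaces of operators of finite order

The dimension of a fixed space is the averaged trace.
-/

set_option autoImplicit false
set_option linter.unusedSectionVars false

namespace CfsgLib.Char.SmallDegree

open Finset

variable {F : Type*} [Field F] {V : Type*} [AddCommGroup V] [Module F V]

/-- The average of the first `n` powers. -/
noncomputable def avgPow (T : Module.End F V) (n : ℕ) : Module.End F V :=
  (n : F)⁻¹ • ∑ i ∈ range n, T ^ i

theorem avgPow_fixed {T : Module.End F V} {n : ℕ} (hn : (n : F) ≠ 0) {v : V} (hv : T v = v) :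
    avgPow T n v = v := by
  have h : ∀ i, (T ^ i) v = v := fun i => by
    induction i with
    | zero => rfl
    | succ i ih => rw [pow_succ, Module.End.mul_apply, hv, ih]
  rw [avgPow, LinearMap.smul_apply, LinearMap.sum_apply, Finset.sum_congr rfl fun i _ => h i,
    Finset.sum_const, card_range, ← Nat.cast_smul_eq_nsmul F, smul_smul, inv_mul_cancel₀ hn, one_smul]

theorem mul_avgPow {T : Module.End F V} {n : ℕ} (hT : T ^ n = 1) : T * avgPow T n = avgPow T n := by
  have h1 : T * (∑ i ∈ range n, T ^ i) = ∑ i ∈ range n, T ^ i := by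
    have h := mul_geom_sum T n
    rw [hT, sub_self, sub_mul, one_mul, sub_eq_zero] at h
    exact h
  rw [avgPow, mul_smul_comm, h1]

theorem avgPow_mem {T : Module.End F V} {n : ℕ} (hT : T ^ n = 1) (v : V) :
    T (avgPow T n v) = avgPow T n v := by
  rw [← Module.End.mul_apply, mul_avgPow hT]

theorem mem_ker_sub_one {T : Module.End F V} {v : V} :
    v ∈ LinearMap.ker (T - 1) ↔ T v = v := by
  rw [LinearMap.mem_ker, LinearMap.sub_apply, Module.End.one_apply, sub_eq_zero]

variable [FiniteDimensional F V]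

/-- The fixed space of one operator. -/
theorem finrank_fix {T : Module.End F V} {n : ℕ} (hn : (n : F) ≠ 0) (hT : T ^ n = 1) :
    (Module.finrank F (LinearMap.ker (T - 1)) : F) =
      (n : F)⁻¹ * ∑ i ∈ range n, LinearMap.trace F V (T ^ i) := by
  have h : LinearMap.IsProj (LinearMap.ker (T - 1)) (avgPow T n) :=
    ⟨fun v => mem_ker_sub_one.2 (avgPow_mem hT v), fun v hv => avgPow_fixed hn (mem_ker_sub_one.1 hv)⟩
  rw [← h.trace, avgPow, map_smul, map_sum, smul_eq_mul]

variable {p : ℕ} [hp : Fact p.Prime]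

theorem pow_val_mul {X : Module.End F V} (hX : X ^ p = 1) (r i : ZMod p) :
    X ^ (r * i).val = (X ^ r.val) ^ i.val := by
  rw [ZMod.val_mul, ← pow_mul, ← pow_eq_pow_mod _ hX]

theorem sum_range_eq_zmod {M : Type*} [AddCommMonoid M] (f : ℕ → M) :
    ∑ i ∈ range p, f i = ∑ i : ZMod p, f i.val := by
  refine Finset.sum_bij' (fun i _ => (i : ZMod p)) (fun i _ => i.val) (fun i _ => mem_univ _)
    (fun i _ => mem_range.2 (ZMod.val_lt i))
    (fun i hi => ZMod.val_natCast_of_lt (mem_range.1 hi)) (fun i _ => ZMod.natCast_zmod_val i) ?_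
  intro i hi
  rw [ZMod.val_natCast_of_lt (mem_range.1 hi)]

/-- An operator conjugating `X` to a power commutes with the average. -/
theorem comm_avgPow {X Y : Module.End F V} (hX : X ^ p = 1) {r : ZMod p} (hr : r ≠ 0)
    (h : Y * X = X ^ r.val * Y) : Y * avgPow X p = avgPow X p * Y := by
  have hpow : ∀ i : ℕ, Y * X ^ i = (X ^ r.val) ^ i * Y := fun i => by
    induction i with
    | zero => simp
    | succ i ih => rw [pow_succ, ← mul_assoc, ih, mul_assoc, h, ← mul_assoc, ← pow_succ]
  rw [avgPow, mul_smul_comm, smul_mul_assoc]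
  congr 1
  rw [Finset.mul_sum, Finset.sum_mul, sum_range_eq_zmod, sum_range_eq_zmod]
  refine Fintype.sum_equiv (Equiv.mulLeft₀ r hr) _ _ fun i => ?_
  rw [Equiv.mulLeft₀_apply, hpow, pow_val_mul hX]

/-- The common fixed space of two operators. -/
theorem finrank_fix_two {X Y : Module.End F V} (hX : X ^ p = 1) {e : ℕ} (hY : Y ^ e = 1)
    (hpF : (p : F) ≠ 0) (he : (e : F) ≠ 0) {r : ZMod p} (hr : r ≠ 0) (h : Y * X = X ^ r.val * Y) :
    (Module.finrank F (LinearMap.ker (X - 1) ⊓ LinearMap.ker (Y - 1) : Submodule F V) : F) =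
      (p : F)⁻¹ * (e : F)⁻¹ *
        ∑ i : ZMod p, ∑ l ∈ range e, LinearMap.trace F V (X ^ i.val * Y ^ l) := by
  have hc : avgPow X p * avgPow Y e = avgPow Y e * avgPow X p := by
    show Commute (avgPow X p) _
    show Commute (avgPow X p) ((e : F)⁻¹ • ∑ i ∈ range e, Y ^ i)
    exact (Commute.sum_right _ _ _ fun l _ =>
      ((show Commute Y (avgPow X p) from comm_avgPow hX hr h).pow_left l).symm).smul_right _
  have hproj : LinearMap.IsProj (LinearMap.ker (X - 1) ⊓ LinearMap.ker (Y - 1))
      (avgPow X p * avgPow Y e) := by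
    refine ⟨fun v => ⟨mem_ker_sub_one.2 ?_, mem_ker_sub_one.2 ?_⟩, fun v hv => ?_⟩
    · rw [Module.End.mul_apply]; exact avgPow_mem hX _
    · rw [hc, Module.End.mul_apply]; exact avgPow_mem hY _
    · rw [Module.End.mul_apply, avgPow_fixed he (mem_ker_sub_one.1 hv.2),
        avgPow_fixed hpF (mem_ker_sub_one.1 hv.1)]
  rw [← hproj.trace, avgPow, avgPow, smul_mul_assoc, mul_smul_comm, map_smul, map_smul, smul_eq_mul,
    smul_eq_mul, ← mul_assoc, Finset.sum_mul, map_sum, sum_range_eq_zmod]
  congr 1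
  refine Finset.sum_congr rfl fun i _ => ?_
  rw [Finset.mul_sum, map_sum]

end CfsgLib.Char.SmallDegree
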