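import Cfsg.Agent.Lib.Char.SmallDegree.DOp
import Cfsg.Agent.Lib.Char.HalfDegree.RelTrace

/-!
# Blocks of a module for a metacyclic group with a local endomorphism ring

`X` has order `p` and `Y` induces a power map on it and is semisimple. If of two complementary
invariant subspaces one is always free, the module is a free one plus one short block.
-/

set_option autoImplicit false
set_option linter.unusedSectionVars false

namespace CfsgLib.Char.SmallDegree

open Finset CfsgLib.Char

variable {k : Type*} [Field k] [IsAlgClosed k] {p : ℕ} [hp : Fact p.Prime] [CharP k p]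
  {V : Type*} [AddCommGroup V] [Module k V] [FiniteDimensional k V]

/-- Invariance under a pair of operators. -/
def Inv (T Y : Module.End k V) (W : Submodule k V) : Prop :=
  (∀ v ∈ W, T v ∈ W) ∧ ∀ v ∈ W, Y v ∈ W

theorem Inv.pow_mem {T Y : Module.End k V} {W : Submodule k V} (h : Inv T Y W) (n : ℕ) {v : V}
    (hv : v ∈ W) : (T ^ n) v ∈ W := by
  induction n with
  | zero => simpa using hv
  | succ n ih => rw [pow_succ', Module.End.mul_apply]; exact h.1 _ ih

theorem Inv.pow_mem' {T Y : Module.End k V} {W : Submodule k V} (h : Inv T Y W) (n : ℕ) {v : V}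
    (hv : v ∈ W) : (Y ^ n) v ∈ W := by
  induction n with
  | zero => simpa using hv
  | succ n ih => rw [pow_succ', Module.End.mul_apply]; exact h.2 _ ih

theorem Inv.sup {T Y : Module.End k V} {U W : Submodule k V} (h : Inv T Y U) (h' : Inv T Y W) :
    Inv T Y (U ⊔ W) := by
  constructor <;> intro v hv <;> obtain ⟨a, ha, b, hb, rfl⟩ := Submodule.mem_sup.mp hv <;>
    rw [map_add]
  · exact Submodule.add_mem_sup (h.1 a ha) (h'.1 b hb)
  · exact Submodule.add_mem_sup (h.2 a ha) (h'.2 b hb)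

/-- The first `m` iterates of a vector. -/
def cyc (T : Module.End k V) (v : V) (m : ℕ) : Submodule k V :=
  Submodule.span k (Set.range fun j : Fin m => (T ^ (j : ℕ)) v)

theorem cyc_pow_apply {T Y : Module.End k V} {c μ : k} (h : Y * T = c • (T * Y)) {v : V}
    (hv : Y v = μ • v) (j : ℕ) : Y ((T ^ j) v) = (c ^ j * μ) • (T ^ j) v := by
  induction j with
  | zero => simpa using hv
  | succ j ih =>
    rw [pow_succ', Module.End.mul_apply, ← Module.End.mul_apply Y T, h, LinearMap.smul_apply,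
      Module.End.mul_apply, ih, map_smul, smul_smul, pow_succ', mul_assoc]

theorem inv_cyc {T Y : Module.End k V} {c μ : k} (h : Y * T = c • (T * Y)) {v : V}
    (hv : Y v = μ • v) {m : ℕ} (hm : (T ^ m) v = 0) : Inv T Y (cyc T v m) := by
  constructor <;> intro w hw <;> induction hw using Submodule.span_induction with
  | mem w hw =>
    obtain ⟨j, rfl⟩ := hw
    dsimp only
    first
      | (rw [← Module.End.mul_apply, ← pow_succ']
         rcases Nat.lt_or_ge ((j : ℕ) + 1) m with hlt | hge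
         · exact Submodule.subset_span ⟨⟨_, hlt⟩, rfl⟩
         · rw [show (j : ℕ) + 1 = m by omega, hm]; exact zero_mem _)
      | (rw [cyc_pow_apply h hv]; exact Submodule.smul_mem _ _ (Submodule.subset_span ⟨j, rfl⟩))
  | zero => rw [map_zero]; exact zero_mem _
  | add a b _ _ ha hb => rw [map_add]; exact add_mem ha hb
  | smul a b _ hb => rw [map_smul]; exact Submodule.smul_mem _ _ hb

theorem exists_eigen_not_ker {Y F : Module.End k V} {n : ℕ} (hn : (n : k) ≠ 0) (hY : Y ^ n = 1)
    {W : Submodule k V} (hW : ∀ v ∈ W, Y v ∈ W) {w : V} (hw : w ∈ W) (hF : F w ≠ 0) :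
    ∃ v ∈ W, ∃ μ : k, μ ^ n = 1 ∧ Y v = μ • v ∧ F v ≠ 0 := by
  set T : Module.End k W := Y.restrict hW with hT
  have hTpow : ∀ l (u : W), ((T ^ l) u : V) = (Y ^ l) u := fun l u => by
    induction l with
    | zero => rfl
    | succ l ih => rw [pow_succ', pow_succ', Module.End.mul_apply, Module.End.mul_apply, ← ih]; rfl
  have hT1 : T ^ n = 1 := LinearMap.ext fun u => Subtype.ext (by rw [hTpow, hY]; rfl)
  have hss : Module.End.IsSemisimple T := by
    refine Module.End.isSemisimple_of_squarefree_aeval_eq_zero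
      (Polynomial.separable_X_pow_sub_C (1 : k) hn one_ne_zero).squarefree ?_
    simp [hT1]
  by_contra hall
  push Not at hall
  have hle : ⨆ μ : k, Module.End.eigenspace T μ ≤ LinearMap.ker (F.comp W.subtype) :=
    iSup_le fun μ u hu => by
      rw [Module.End.mem_eigenspace_iff] at hu
      rw [LinearMap.mem_ker, LinearMap.comp_apply, Submodule.subtype_apply]
      by_cases hu0 : (u : V) = 0
      · rw [hu0, map_zero]
      have hpow : ∀ l, (Y ^ l) (u : V) = μ ^ l • (u : V) := fun l => by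
        induction l with
        | zero => simp
        | succ l ih =>
          rw [pow_succ', Module.End.mul_apply, ih, map_smul,
            show Y (u : V) = μ • (u : V) from congrArg Subtype.val hu, smul_smul, pow_succ]
      have hμ : μ ^ n = 1 := by
        have h1 := hpow n
        rw [hY, Module.End.one_apply] at h1
        have h2 : (μ ^ n - 1) • (u : V) = 0 := by rw [sub_smul, one_smul, ← h1, sub_self]
        exact sub_eq_zero.mp ((smul_eq_zero.mp h2).resolve_right hu0)
      exact hall u u.2 μ hμ (congrArg Subtype.val hu)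
  rw [hss.iSup_eigenspace_eq_top] at hle
  exact hF (hle (Submodule.mem_top (x := (⟨w, hw⟩ : W))))

/-- A longest block splits off. -/
theorem exists_compl {T Y : Module.End k V} {c : k} (hc : c ≠ 0) (hcomm : Y * T = c • (T * Y))
    {n : ℕ} (hn : (n : k) ≠ 0) (hY : Y ^ n = 1) (hcn : c ^ n = 1) {W : Submodule k V} (hW : Inv T Y W)
    {m : ℕ} (hTm : ∀ v ∈ W, (T ^ m) v = 0) {w : V} (hw : w ∈ W) (hne : (T ^ (m - 1)) w ≠ 0) :
    ∃ (v : V) (μ : k) (U : Submodule k V), v ∈ W ∧ Y v = μ • v ∧ (T ^ (m - 1)) v ≠ 0 ∧ U ≤ W ∧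
      Inv T Y U ∧ Disjoint (cyc T v m) U ∧ cyc T v m ⊔ U = W ∧
      Module.finrank k (cyc T v m) = m := by
  obtain ⟨v, hv, μ, hμ, hYv, hvne⟩ := exists_eigen_not_ker hn hY hW.2 hw hne
  have hm : m ≠ 0 := fun h => hvne (by
    have := hTm v hv
    rw [h] at this
    simpa [h] using this)
  set s := (T ^ (m - 1)) v with hs
  set ν := c ^ (m - 1) * μ with hν
  have hYs : Y s = ν • s := cyc_pow_apply hcomm hYv _
  have hνn : ν ^ n = 1 := by rw [hν, mul_pow, ← pow_mul, mul_comm (m - 1) n, pow_mul, hcn, one_pow, hμ, one_mul]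
  have hn0 : n ≠ 0 := fun h => hn (by rw [h, Nat.cast_zero])
  have hν0 : ν ≠ 0 := fun h => by rw [h, zero_pow hn0] at hνn; exact zero_ne_one hνn
  obtain ⟨φ₀, hφ₀⟩ : ∃ φ₀ : V →ₗ[k] k, φ₀ s = 1 := by
    obtain ⟨g, hg⟩ := LinearMap.exists_extend ((LinearEquiv.toSpanNonzeroSingleton k V s hvne).symm.toLinearMap)
    refine ⟨g, ?_⟩
    have h1 := LinearMap.congr_fun hg ⟨s, Submodule.mem_span_singleton_self s⟩
    rw [LinearMap.comp_apply, Submodule.subtype_apply, LinearEquiv.coe_coe] at h1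
    rw [h1, LinearEquiv.symm_apply_eq]
    exact Subtype.ext (one_smul k s).symm
  set φ : V →ₗ[k] k := (n : k)⁻¹ • ∑ l ∈ range n, ν⁻¹ ^ l • φ₀.comp (Y ^ l) with hφ
  have hφapp : ∀ u, φ u = (n : k)⁻¹ * ∑ l ∈ range n, ν⁻¹ ^ l * φ₀ ((Y ^ l) u) := fun u => by
    simp [hφ, LinearMap.sum_apply]
  clear_value φ
  have hφs : φ s = 1 := by
    have hpow : ∀ l, (Y ^ l) s = ν ^ l • s := fun l => by
      induction l with
      | zero => simp
      | succ l ih => rw [pow_succ', Module.End.mul_apply, ih, map_smul, hYs, smul_smul, pow_succ]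
    rw [hφapp, Finset.sum_congr rfl fun l _ => by
      rw [hpow, map_smul, hφ₀, smul_eq_mul, mul_one, ← mul_pow, inv_mul_cancel₀ hν0, one_pow],
      Finset.sum_const, card_range, nsmul_eq_mul, mul_one, inv_mul_cancel₀ hn]
  have hφY : ∀ u, φ (Y u) = ν * φ u := fun u => by
    have hmul : ∀ l, (Y ^ l) (Y u) = (Y ^ (l + 1)) u := fun l => by
      rw [pow_succ, Module.End.mul_apply]
    have hsum : ∑ l ∈ range n, ν⁻¹ ^ (l + 1) * φ₀ ((Y ^ (l + 1)) u) =
        ∑ l ∈ range n, ν⁻¹ ^ l * φ₀ ((Y ^ l) u) := by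
      rw [← sub_eq_zero, ← Finset.sum_sub_distrib, Finset.sum_range_sub
        (fun l => ν⁻¹ ^ l * φ₀ ((Y ^ l) u)), hY, inv_pow, hνn, inv_one, pow_zero, pow_zero, sub_self]
    rw [hφapp, hφapp, ← hsum, mul_left_comm ν, Finset.mul_sum _ _ ν]
    congr 1
    refine Finset.sum_congr rfl fun l _ => ?_
    rw [hmul, pow_succ' ν⁻¹, ← mul_assoc ν, ← mul_assoc ν, mul_inv_cancel₀ hν0, one_mul]
  let Ψ : V →ₗ[k] (Fin m → k) := LinearMap.pi fun j => φ.comp (T ^ (j : ℕ))
  let U := W ⊓ LinearMap.ker Ψ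
  have hmemU : ∀ u, u ∈ U ↔ u ∈ W ∧ ∀ j < m, φ ((T ^ j) u) = 0 := fun u => by
    simp only [U, Submodule.mem_inf, LinearMap.mem_ker, funext_iff, Ψ, LinearMap.pi_apply,
      LinearMap.comp_apply, Pi.zero_apply, Fin.forall_iff]
  let S : (Fin m → k) →ₗ[k] V := Fintype.linearCombination k fun j : Fin m => (T ^ (j : ℕ)) v
  have hSr : LinearMap.range S = cyc T v m := Fintype.range_linearCombination k _
  have hkill : ∀ j, m ≤ j → (T ^ j) v = 0 := fun j hj => by
    obtain ⟨t, rfl⟩ := Nat.exists_eq_add_of_le hj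
    rw [add_comm, pow_add, Module.End.mul_apply, hTm v hv, map_zero]
  have hinj : Function.Injective (Ψ.comp S) := by
    rw [injective_iff_map_eq_zero]
    intro a ha
    funext i
    induction i using WellFoundedLT.induction with
    | _ i ih =>
      have h1 : φ ((T ^ (m - 1 - (i : ℕ))) (S a)) = 0 :=
        congrFun ha ⟨m - 1 - i, by omega⟩
      rw [Fintype.linearCombination_apply, map_sum, map_sum, Finset.sum_eq_single i] at h1
      · rw [map_smul, map_smul, ← Module.End.mul_apply, ← pow_add,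
          show m - 1 - (i : ℕ) + i = m - 1 by omega, ← hs, hφs, smul_eq_mul, mul_one] at h1
        exact h1
      · intro b _ hb
        rcases lt_or_gt_of_ne hb with hlt | hgt
        · rw [show a b = 0 from ih b hlt, zero_smul, map_zero, map_zero]
        · rw [map_smul, ← Module.End.mul_apply, ← pow_add, hkill _ (by
            have : (i : ℕ) < b := hgt
            omega), smul_zero, map_zero]
      · simp
  have hsurj : Function.Surjective (Ψ.comp S) := LinearMap.injective_iff_surjective.mp hinj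
  have hcycW : cyc T v m ≤ W := Submodule.span_le.mpr (by
    rintro _ ⟨j, rfl⟩
    exact hW.pow_mem _ hv)
  refine ⟨v, μ, U, hv, hYv, hvne, inf_le_left, ⟨fun u hu => ?_, fun u hu => ?_⟩, ?_, ?_, ?_⟩
  · rw [hmemU] at hu ⊢
    refine ⟨hW.1 u hu.1, fun j hj => ?_⟩
    rw [← Module.End.mul_apply, ← pow_succ]
    rcases Nat.lt_or_ge (j + 1) m with h | h
    · exact hu.2 _ h
    · rw [show j + 1 = m by omega, hTm u hu.1, map_zero]
  · rw [hmemU] at hu ⊢
    refine ⟨hW.2 u hu.1, fun j hj => ?_⟩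
    have hjY : ∀ j, Y * T ^ j = c ^ j • (T ^ j * Y) := fun j => by
      induction j with
      | zero => simp
      | succ j ih =>
        rw [pow_succ T, ← mul_assoc, ih, smul_mul_assoc, mul_assoc, hcomm, mul_smul_comm, smul_smul,
          ← mul_assoc, ← pow_succ, ← pow_succ]
    have h1 := congrArg φ (LinearMap.congr_fun (hjY j) u)
    rw [LinearMap.smul_apply, map_smul, Module.End.mul_apply, Module.End.mul_apply, hφY, hu.2 j hj,
      mul_zero, smul_eq_mul] at h1
    exact (mul_eq_zero.mp h1.symm).resolve_left (pow_ne_zero _ hc)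
  · rw [Submodule.disjoint_def]
    intro u hu hu'
    rw [← hSr] at hu
    obtain ⟨a, rfl⟩ := hu
    rw [show a = 0 from hinj (by rw [map_zero]; exact (Submodule.mem_inf.mp hu').2), map_zero]
  · refine le_antisymm (sup_le hcycW inf_le_left) fun u hu => ?_
    obtain ⟨a, ha⟩ := hsurj (Ψ u)
    have hSa : S a ∈ cyc T v m := hSr ▸ LinearMap.mem_range_self S a
    rw [← add_sub_cancel (S a) u]
    refine Submodule.add_mem_sup hSa (Submodule.mem_inf.mpr ⟨sub_mem hu (hcycW hSa), ?_⟩)
    rw [LinearMap.mem_ker, map_sub, ← ha, LinearMap.comp_apply, sub_self]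
  · rw [← hSr, LinearMap.finrank_range_of_inj (Function.Injective.of_comp (f := Ψ) hinj),
      Module.finrank_fin_fun]

/-- The trace from the trivial group to the group generated by `X`. -/
noncomputable def trOp (p : ℕ) (X : Module.End k V) (ψ : Module.End k V) : Module.End k V :=
  ∑ i ∈ range p, X ^ i * ψ * X ^ ((p - 1) * i)

/-- The endomorphisms which are traces. -/
def IsTr (p : ℕ) (X : Module.End k V) (π : Module.End k V) : Prop := ∃ ψ, π = trOp p X ψ

/-- Every vector killed by `T` is a highest power. -/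
def Free (p : ℕ) (T : Module.End k V) (W : Submodule k V) : Prop :=
  ∀ s ∈ W, T s = 0 → ∃ u ∈ W, (T ^ (p - 1)) u = s

variable {X Y : Module.End k V}

theorem sub_one_dop (h2 : p ≠ 2) (hX : X ^ p = 1) {s : V} (hs : dop k p X s = 0) : X s = s := by
  obtain ⟨U, W, -, h, -, hW⟩ := exists_dop_pow_eq (k := k) h2 hX 1
  rw [pow_one, pow_one] at h
  have hWX : Commute W X := by simpa using hW.add_right (Commute.one_right W)
  rw [← sub_eq_zero, show X s - s = (X - 1) s from rfl, h, ← (commute_dop (k := k) (p := p) hWX).eq,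
    Module.End.mul_apply, hs, map_zero]

theorem fixed_mem_range_of_isTr (h2 : p ≠ 2) (hX : X ^ p = 1) {π : Module.End k V} (hπ : IsTr p X π)
    (hπT : Commute π (dop k p X)) {s : V} (hs : π s = s) (hTs : dop k p X s = 0) :
    ∃ u, (dop k p X ^ (p - 1)) (π u) = s := by
  obtain ⟨ψ, rfl⟩ := hπ
  have hfix : ∀ j, (X ^ j) s = s := fun j => by
    induction j with
    | zero => simp
    | succ j ih => rw [pow_succ, Module.End.mul_apply, sub_one_dop h2 hX hTs, ih]
  obtain ⟨U, W, -, hW, -, -⟩ := exists_dop_pow_eq (k := k) h2 hX (p - 1)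
  refine ⟨W (ψ s), ?_⟩
  have h1 : trOp p X ψ s = (dop k p X ^ (p - 1)) (W (ψ s)) := by
    rw [← Module.End.mul_apply _ W, ← hW, ← HalfDegree.geom_sum_eq_sub_pow (k := k) p X, trOp,
      LinearMap.sum_apply, LinearMap.sum_apply]
    refine Finset.sum_congr rfl fun i _ => ?_
    rw [Module.End.mul_apply, Module.End.mul_apply, hfix]
  rw [← Module.End.mul_apply, ← (hπT.pow_right _).eq, Module.End.mul_apply, ← h1, hs, hs]

/-- One of two complementary invariant subspaces is free. -/
theorem free_or_free (h2 : p ≠ 2) (hX : X ^ p = 1)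
    (hdich : ∀ π : Module.End k V, π * π = π → Commute π X → Commute π Y →
      IsTr p X π ∨ IsTr p X (1 - π))
    {W₁ W₂ : Submodule k V} (h₁ : Inv (dop k p X) Y W₁) (h₂ : Inv (dop k p X) Y W₂)
    (h : IsCompl W₁ W₂) : Free p (dop k p X) W₁ ∨ Free p (dop k p X) W₂ := by
  set T := dop k p X with hT
  set π := W₁.projection W₂ h with hπ
  have hfix : ∀ v ∈ W₁, π v = v := fun v hv => Submodule.projection_apply_of_mem_left h hv
  have hker : ∀ v ∈ W₂, π v = 0 := fun v hv => (Submodule.projection_apply_eq_zero_iff h).mpr hv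
  have hmem : ∀ v, π v ∈ W₁ := fun v => Submodule.projection_apply_mem h v
  have hdec : ∀ v : V, ∃ a ∈ W₁, ∃ b ∈ W₂, a + b = v := fun v =>
    Submodule.mem_sup.mp (h.sup_eq_top ▸ Submodule.mem_top (x := v))
  have hcm : ∀ S : Module.End k V, (∀ v ∈ W₁, S v ∈ W₁) → (∀ v ∈ W₂, S v ∈ W₂) → Commute π S :=
    fun S hS₁ hS₂ => LinearMap.ext fun v => by
      obtain ⟨a, ha, b, hb, rfl⟩ := hdec v
      simp only [Module.End.mul_apply, map_add, hfix _ (hS₁ a ha), hfix a ha, hker _ (hS₂ b hb),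
        hker b hb, map_zero]
  have hcT : Commute π T := hcm T h₁.1 h₂.1
  have hidem : π * π = π := LinearMap.ext fun v => hfix _ (hmem v)
  have hcX : Commute π X := by
    have h1 : X - 1 ∈ Subalgebra.centralizer k {π} := by
      refine Algebra.adjoin_le ?_ (sub_one_mem h2 hX)
      rintro _ rfl
      rw [SetLike.mem_coe, Subalgebra.mem_centralizer_iff]
      rintro _ rfl
      exact hcT.eq
    rw [Subalgebra.mem_centralizer_iff] at h1
    have h3 : Commute π (X - 1) := h1 π rfl
    simpa using h3.add_right (Commute.one_right π)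
  rcases hdich π hidem hcX (hcm Y h₁.2 h₂.2) with hI | hI
  · refine Or.inl fun s hs hTs => ?_
    obtain ⟨u, hu⟩ := fixed_mem_range_of_isTr h2 hX hI hcT (hfix s hs) hTs
    exact ⟨π u, hmem u, hu⟩
  · refine Or.inr fun s hs hTs => ?_
    obtain ⟨u, hu⟩ := fixed_mem_range_of_isTr h2 hX hI ((Commute.one_left _).sub_left hcT)
      (by rw [LinearMap.sub_apply, Module.End.one_apply, hker s hs, sub_zero]) hTs
    refine ⟨(1 - π) u, (Submodule.projection_apply_eq_zero_iff h).mp ?_, hu⟩
    rw [LinearMap.sub_apply, Module.End.one_apply, map_sub, hfix _ (hmem u), sub_self]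

/-- Splitting off all the free blocks. -/
theorem exists_free_part (h2 : p ≠ 2) (hX : X ^ p = 1) {c : k} (hc : c ≠ 0)
    (hcomm : Y * dop k p X = c • (dop k p X * Y)) {n : ℕ} (hn : (n : k) ≠ 0) (hY : Y ^ n = 1)
    (hcn : c ^ n = 1) (W : Submodule k V) (hW : Inv (dop k p X) Y W) :
    ∃ (f : ℕ) (v : Fin f → V) (μ : Fin f → k) (W₀ : Submodule k V),
      (∀ i, v i ∈ W ∧ Y (v i) = μ i • v i) ∧ W₀ ≤ W ∧ Inv (dop k p X) Y W₀ ∧
      (∀ u ∈ W₀, (dop k p X ^ (p - 1)) u = 0) ∧
      W = W₀ ⊔ ⨆ i, cyc (dop k p X) (v i) p ∧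
      Module.finrank k W = Module.finrank k W₀ + f * p := by
  set T := dop k p X with hT
  have hTp : T ^ p = 0 := dop_pow_p h2 hX
  induction hd : Module.finrank k W using Nat.strong_induction_on generalizing W with
  | _ d ih =>
    subst hd
    by_cases hall : ∀ u ∈ W, (T ^ (p - 1)) u = 0
    · exact ⟨0, Fin.elim0, Fin.elim0, W, fun i => i.elim0, le_rfl, hW, hall, by simp, by simp⟩
    push Not at hall
    obtain ⟨w, hw, hne⟩ := hall
    obtain ⟨v, μ, U, hv, hYv, -, hUW, hU, hdisj, hsup, hrk⟩ :=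
      exists_compl hc hcomm hn hY hcn hW (m := p) (fun u _ => by rw [hTp]; rfl) hw hne
    have hdim : Module.finrank k W = p + Module.finrank k U := by
      have h := Submodule.finrank_sup_add_finrank_inf_eq (cyc T v p) U
      rw [hsup, hdisj.eq_bot, finrank_bot, add_zero, hrk] at h
      exact h
    obtain ⟨f, v', μ', W₀, hv', hW₀, hI₀, hkill, heq, hd'⟩ :=
      ih _ (by have := hp.out.pos; omega) U hU rfl
    refine ⟨f + 1, Fin.cons v v', Fin.cons μ μ', W₀, fun i => ?_, hW₀.trans hUW, hI₀, hkill, ?_, ?_⟩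
    · refine Fin.cases ?_ (fun i => ?_) i
      · simpa using ⟨hv, hYv⟩
      · simpa using ⟨hUW (hv' i).1, (hv' i).2⟩
    · refine le_antisymm ?_ (sup_le (hW₀.trans hUW) (iSup_le fun i => Submodule.span_le.mpr ?_))
      · conv_lhs => rw [← hsup, heq]
        refine sup_le (le_sup_of_le_right (le_iSup_of_le 0 (by simp))) (sup_le le_sup_left
          (iSup_le fun i => le_sup_of_le_right (le_iSup_of_le i.succ (by simp))))
      · rintro _ ⟨j, rfl⟩
        refine hW.pow_mem _ ?_
        refine Fin.cases ?_ (fun i => ?_) i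
        · simpa using hv
        · simpa using hUW (hv' i).1
    · rw [hdim, hd']; ring

/-- The shape: free blocks and one short block. -/
theorem exists_shape (h2 : p ≠ 2) (hX : X ^ p = 1)
    (hdich : ∀ π : Module.End k V, π * π = π → Commute π X → Commute π Y →
      IsTr p X π ∨ IsTr p X (1 - π)) {c : k} (hc : c ≠ 0)
    (hcomm : Y * dop k p X = c • (dop k p X * Y)) {n : ℕ} (hn : (n : k) ≠ 0) (hY : Y ^ n = 1)
    (hcn : c ^ n = 1) (hdim : ¬ p ∣ Module.finrank k V) :
    ∃ (f a : ℕ) (v : Fin f → V) (μ : Fin f → k) (w : V) (γ : k),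
      0 < a ∧ a < p ∧ f * p + a = Module.finrank k V ∧
      (∀ i, Y (v i) = μ i • v i) ∧ Y w = γ • w ∧ (dop k p X ^ a) w = 0 ∧
      cyc (dop k p X) w a ⊔ ⨆ i, cyc (dop k p X) (v i) p = ⊤ := by
  classical
  set T := dop k p X with hT
  have hTp : T ^ p = 0 := dop_pow_p h2 hX
  obtain ⟨f, v, μ, W₀, hv, -, hI₀, hkill, heq, hd⟩ :=
    exists_free_part h2 hX hc hcomm hn hY hcn ⊤ ⟨fun _ _ => trivial, fun _ _ => trivial⟩
  rw [finrank_top] at hd
  set F := ⨆ i, cyc T (v i) p with hF
  have hF₀ : Disjoint W₀ F := by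
    have h := Submodule.finrank_sup_add_finrank_inf_eq W₀ F
    rw [← heq, finrank_top, hd] at h
    have hle : Module.finrank k F ≤ f * p := by
      have hspan : F = Submodule.span k (Set.range fun q : Fin f × Fin p => (T ^ (q.2 : ℕ)) (v q.1)) := by
        refine le_antisymm (iSup_le fun i => Submodule.span_mono ?_) (Submodule.span_le.mpr ?_)
        · rintro _ ⟨j, rfl⟩; exact ⟨(i, j), rfl⟩
        · rintro _ ⟨⟨i, j⟩, rfl⟩; exact Submodule.mem_iSup_of_mem i (Submodule.subset_span ⟨j, rfl⟩)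
      rw [hspan]
      exact (finrank_range_le_card _).trans (by simp)
    rw [disjoint_iff, ← Submodule.finrank_eq_zero]
    omega
  have hFI : Inv T Y F := by
    constructor <;> intro u hu <;> induction hu using Submodule.iSup_induction' with
    | mem i z hz =>
      first
        | exact Submodule.mem_iSup_of_mem i
            ((inv_cyc hcomm (hv i).2 (m := p) (by rw [hTp]; rfl)).1 z hz)
        | exact Submodule.mem_iSup_of_mem i
            ((inv_cyc hcomm (hv i).2 (m := p) (by rw [hTp]; rfl)).2 z hz)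
    | zero => rw [map_zero]; exact zero_mem _
    | add a b _ _ ha hb => rw [map_add]; exact add_mem ha hb
  obtain ⟨w₀, hw₀, hw₀0⟩ : ∃ w ∈ W₀, w ≠ 0 := by
    refine Submodule.exists_mem_ne_zero_of_ne_bot fun h => hdim ?_
    rw [hd, h, finrank_bot, zero_add]
    exact dvd_mul_left p f
  have hex : ∃ a, ∀ u ∈ W₀, (T ^ a) u = 0 := ⟨p - 1, hkill⟩
  set a := Nat.find hex with ha
  have ha0 : a ≠ 0 := fun h => hw₀0 (by
    have := Nat.find_spec hex w₀ hw₀
    rwa [show Nat.find hex = 0 from h, pow_zero, Module.End.one_apply] at this)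
  have hap : a < p := by
    have := Nat.find_min' hex hkill
    have := hp.out.pos
    omega
  obtain ⟨w₁, hw₁, hne⟩ : ∃ w ∈ W₀, (T ^ (a - 1)) w ≠ 0 := by
    by_contra h
    push Not at h
    exact Nat.find_min hex (show a - 1 < a by omega) h
  obtain ⟨w, γ, U, hw, hYw, hwne, hUW, hU, hdisj, hsup, hrk⟩ :=
    exists_compl hc hcomm hn hY hcn hI₀ (m := a) (Nat.find_spec hex) hw₁ hne
  have hwa : (T ^ a) w = 0 := Nat.find_spec hex w hw
  have hcW : cyc T w a ≤ W₀ := hsup ▸ le_sup_left
  have htop : cyc T w a ⊔ (U ⊔ F) = ⊤ := by rw [← sup_assoc, hsup, ← heq]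
  have hdisj' : Disjoint (cyc T w a) (U ⊔ F) := by
    rw [Submodule.disjoint_def]
    intro z hz hz'
    obtain ⟨u, hu, q, hq, rfl⟩ := Submodule.mem_sup.mp hz'
    have hq0 : q = 0 := Submodule.disjoint_def.mp hF₀ q
      (by simpa using sub_mem (hcW hz) (hUW hu)) hq
    subst hq0
    rw [add_zero] at hz ⊢
    exact Submodule.disjoint_def.mp hdisj u hz hu
  rcases free_or_free h2 hX hdich (inv_cyc hcomm hYw hwa) (hU.sup hFI)
      ⟨hdisj', codisjoint_iff.mpr htop⟩ with hfree | hfree
  · exfalso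
    have hsmem : (T ^ (a - 1)) w ∈ cyc T w a := Submodule.subset_span ⟨⟨a - 1, by omega⟩, rfl⟩
    obtain ⟨u, hu, hus⟩ := hfree _ hsmem (by
      rw [← Module.End.mul_apply, ← pow_succ', Nat.sub_add_cancel (by omega), hwa])
    exact hwne (hus ▸ hkill u (hcW hu))
  have hU0 : U = ⊥ := by
    by_contra hUne
    obtain ⟨u₀, hu₀, hu₀0⟩ := Submodule.exists_mem_ne_zero_of_ne_bot hUne
    have hex₂ : ∃ j, (T ^ j) u₀ = 0 := ⟨p, by rw [hTp]; rfl⟩
    have hj0 : Nat.find hex₂ ≠ 0 := fun h => hu₀0 (by simpa [h] using Nat.find_spec hex₂)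
    set u₁ := (T ^ (Nat.find hex₂ - 1)) u₀ with hu₁
    have hu₁0 : u₁ ≠ 0 := Nat.find_min hex₂ (by omega)
    have hu₁U : u₁ ∈ U := hU.pow_mem _ hu₀
    obtain ⟨z, hz, hzu⟩ := hfree u₁ (Submodule.mem_sup_left hu₁U) (by
      rw [hu₁, ← Module.End.mul_apply, ← pow_succ', Nat.sub_add_cancel (by omega)]
      exact Nat.find_spec hex₂)
    obtain ⟨z₁, hz₁, z₂, hz₂, rfl⟩ := Submodule.mem_sup.mp hz
    rw [map_add, hkill z₁ (hUW hz₁), zero_add] at hzu
    exact hu₁0 (Submodule.disjoint_def.mp hF₀ u₁ (hUW hu₁U) (hzu ▸ hFI.pow_mem _ hz₂))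
  refine ⟨f, a, v, μ, w, γ, Nat.pos_of_ne_zero ha0, hap, ?_, fun i => (hv i).2, hYw, hwa, ?_⟩
  · rw [hU0, sup_bot_eq] at hsup
    rw [hsup] at hrk
    omega
  · rw [hU0, bot_sup_eq] at htop
    exact htop

end CfsgLib.Char.SmallDegree
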