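import Cfsg.Agent.Lib.Char.SmallDegree.Block
import Cfsg.Agent.Lib.Char.SmallDegree.Avg

/-!
# Homomorphisms out of a module with a shape

A homomorphism commuting with the normaliser is determined by the values on the generators of the
blocks, and if it is a trace its value on the generator of the short block is a high power.
-/

set_option autoImplicit false
set_option linter.unusedSectionVars false

namespace CfsgLib.Char.SmallDegree

open Finset

variable {k : Type*} [Field k] [IsAlgClosed k] {p : ℕ} [hp : Fact p.Prime] [CharP k p]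
  {V W : Type*} [AddCommGroup V] [Module k V] [FiniteDimensional k V]
  [AddCommGroup W] [Module k W] [FiniteDimensional k W]
  {Xv Yv : Module.End k V} {Xw Yw : Module.End k W}

/-- An eigenspace. -/
noncomputable abbrev eigSp (Y : Module.End k W) (l : k) : Submodule k W :=
  LinearMap.ker (Y - l • (1 : Module.End k W))

theorem mem_eigSp {Y : Module.End k W} {l : k} {w : W} : w ∈ eigSp Y l ↔ Y w = l • w := by
  rw [eigSp, LinearMap.mem_ker, LinearMap.sub_apply, LinearMap.smul_apply, Module.End.one_apply, sub_eq_zero]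

/-- The homomorphisms intertwining two operators. -/
def interSp (A : Module.End k V) (B : Module.End k W) : Submodule k (V →ₗ[k] W) where
  carrier := {Φ | B ∘ₗ Φ = Φ ∘ₗ A}
  zero_mem' := by simp
  add_mem' := fun {a b} (ha : B ∘ₗ a = a ∘ₗ A) (hb : B ∘ₗ b = b ∘ₗ A) => by
    show B ∘ₗ (a + b) = (a + b) ∘ₗ A
    rw [LinearMap.comp_add, LinearMap.add_comp, ha, hb]
  smul_mem' := fun s a (ha : B ∘ₗ a = a ∘ₗ A) => by
    show B ∘ₗ (s • a) = (s • a) ∘ₗ A
    rw [LinearMap.comp_smul, LinearMap.smul_comp, ha]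

theorem interSp_apply {A : Module.End k V} {B : Module.End k W} {Φ : V →ₗ[k] W}
    (h : Φ ∈ interSp A B) (v : V) : B (Φ v) = Φ (A v) := LinearMap.congr_fun h v

theorem interSp_pow {A : Module.End k V} {B : Module.End k W} {Φ : V →ₗ[k] W}
    (h : Φ ∈ interSp A B) (v : V) : ∀ n : ℕ, (B ^ n) (Φ v) = Φ ((A ^ n) v)
  | 0 => rfl
  | n + 1 => by
    rw [pow_succ', pow_succ', Module.End.mul_apply, Module.End.mul_apply, interSp_pow h v n,
      interSp_apply h]

theorem interSp_dop {Φ : V →ₗ[k] W} (h : Φ ∈ interSp Xv Xw) (v : V) :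
    dop k p Xw (Φ v) = Φ (dop k p Xv v) := by
  simp only [dop, LinearMap.sum_apply, LinearMap.smul_apply, map_sum, map_smul, interSp_pow h]

theorem pow_interSp_dop {Φ : V →ₗ[k] W} (h : Φ ∈ interSp Xv Xw) (v : V) :
    ∀ n : ℕ, (dop k p Xw ^ n) (Φ v) = Φ ((dop k p Xv ^ n) v)
  | 0 => rfl
  | n + 1 => by
    rw [pow_succ', pow_succ', Module.End.mul_apply, Module.End.mul_apply, pow_interSp_dop h v n,
      interSp_dop h]

/-- The operation on homomorphisms whose powers give the trace. -/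
noncomputable def homAct (Xv : Module.End k V) (Xw : Module.End k W) (p : ℕ) :
    Module.End k (V →ₗ[k] W) :=
  (LinearMap.llcomp k V W W Xw).comp (LinearMap.lcomp k W (Xv ^ (p - 1)))

theorem homAct_apply (Φ : V →ₗ[k] W) (v : V) : homAct Xv Xw p Φ v = Xw (Φ ((Xv ^ (p - 1)) v)) := rfl

/-- The homomorphisms fixed by the normaliser which are traces. -/
noncomputable def homTop (Xv Yv : Module.End k V) (Xw Yw : Module.End k W) (p : ℕ) :
    Submodule k (V →ₗ[k] W) :=
  LinearMap.range ((homAct Xv Xw p - 1) ^ (p - 1)) ⊓ (interSp Xv Xw ⊓ interSp Yv Yw)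

theorem homAct_pow_mem (hXv : Xv ^ p = 1) :
    ∀ (n a : ℕ) (Φ : V →ₗ[k] W) (v : V), ((Xv - 1) ^ a) v = 0 →
      (((homAct Xv Xw p - 1) ^ n) Φ) v ∈ LinearMap.range ((Xw - 1) ^ (n + 1 - a)) := by
  intro n
  induction n with
  | zero =>
    intro a Φ v hv
    rcases Nat.eq_zero_or_pos a with rfl | ha
    · rw [pow_zero, Module.End.one_apply] at hv
      rw [hv, map_zero]
      exact zero_mem _
    · rw [show 0 + 1 - a = 0 by omega, pow_zero]
      exact ⟨_, rfl⟩
  | succ n ih =>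
    intro a Φ v hv
    rcases Nat.eq_zero_or_pos a with rfl | ha
    · rw [pow_zero, Module.End.one_apply] at hv
      rw [hv, map_zero]
      exact zero_mem _
    set φ := ((homAct Xv Xw p - 1) ^ n) Φ with hφ
    set v' := (Xv ^ (p - 1)) v with hv'
    have hc : Commute (Xv - 1) (Xv ^ (p - 1)) :=
      ((Commute.refl Xv).sub_left (Commute.one_left Xv)).pow_right _
    have h1 : ((Xv - 1) ^ a) v' = 0 := by
      rw [hv', ← Module.End.mul_apply, (hc.pow_left a).eq, Module.End.mul_apply, hv, map_zero]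
    have hXX : Xv * Xv ^ (p - 1) = 1 := by rw [← pow_succ', Nat.sub_add_cancel hp.out.one_le, hXv]
    have h2 : ((Xv - 1) ^ (a - 1)) (v' - v) = 0 := by
      have hsub : v' - v = -((Xv - 1) v') := by
        rw [LinearMap.sub_apply, Module.End.one_apply, hv', ← Module.End.mul_apply Xv, hXX,
          Module.End.one_apply, neg_sub]
      rw [hsub, map_neg, ← Module.End.mul_apply, ← pow_succ, Nat.sub_add_cancel ha, h1, neg_zero]
    rw [pow_succ', Module.End.mul_apply, ← hφ, LinearMap.sub_apply, Module.End.one_apply,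
      LinearMap.sub_apply, homAct_apply, ← hv']
    rw [show Xw (φ v') - φ v = (Xw - 1) (φ v') + φ (v' - v) by
      rw [map_sub, LinearMap.sub_apply, Module.End.one_apply]; abel]
    refine add_mem ?_ ?_
    · obtain ⟨u, hu⟩ := ih a Φ v' h1
      rw [← hφ] at hu
      rw [← hu]
      rcases Nat.lt_or_ge (n + 1) a with hlt | hge
      · rw [show n + 1 + 1 - a = 0 by omega, pow_zero]
        exact ⟨_, rfl⟩
      · exact ⟨u, by rw [← Module.End.mul_apply, ← pow_succ', show n + 1 + 1 - a = n + 1 - a + 1 by omega]⟩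
    · have h := ih (a - 1) Φ _ h2
      rw [show n + 1 - (a - 1) = n + 1 + 1 - a by omega] at h
      exact h

/-- The eigenbasis of the shape. -/
theorem exists_basis {T : Module.End k V} {f a : ℕ} {v : Fin f → V} {w : V}
    (hn : f * p + a = Module.finrank k V)
    (hspan : cyc T w a ⊔ ⨆ i, cyc T (v i) p = ⊤) :
    ∃ b : Module.Basis ((Fin f × Fin p) ⊕ Fin a) k V,
      (∀ i j, b (Sum.inl (i, j)) = (T ^ (j : ℕ)) (v i)) ∧ ∀ j, b (Sum.inr j) = (T ^ (j : ℕ)) w := by
  let g : (Fin f × Fin p) ⊕ Fin a → V :=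
    Sum.elim (fun q => (T ^ (q.2 : ℕ)) (v q.1)) fun j => (T ^ (j : ℕ)) w
  have hg : ⊤ ≤ Submodule.span k (Set.range g) := by
    rw [← hspan]
    refine sup_le (Submodule.span_mono ?_) (iSup_le fun i => Submodule.span_mono ?_)
    · rintro _ ⟨j, rfl⟩; exact ⟨Sum.inr j, rfl⟩
    · rintro _ ⟨j, rfl⟩; exact ⟨Sum.inl (i, j), rfl⟩
  exact ⟨basisOfTopLeSpanOfCardEqFinrank g hg (by simp [hn]),
    fun i j => by rw [coe_basisOfTopLeSpanOfCardEqFinrank]; rfl,
    fun j => by rw [coe_basisOfTopLeSpanOfCardEqFinrank]; rfl⟩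

variable {f a : ℕ} {v : Fin f → V} {μ : Fin f → k} {w : V} {γ : k}

/-- The dimension of the homomorphisms fixed by `Y`. -/
theorem finrank_interSp {r : ZMod p} (hcomm : Yv * dop k p Xv = castK k p r • (dop k p Xv * Yv))
    (hn : f * p + a = Module.finrank k V) (hv : ∀ i, Yv (v i) = μ i • v i) (hw : Yv w = γ • w)
    (hspan : cyc (dop k p Xv) w a ⊔ ⨆ i, cyc (dop k p Xv) (v i) p = ⊤) :
    Module.finrank k (interSp Yv Yw) =
      ∑ i, ∑ j ∈ range p, Module.finrank k (eigSp Yw (μ i * castK k p r ^ j)) +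
        ∑ j ∈ range a, Module.finrank k (eigSp Yw (γ * castK k p r ^ j)) := by
  obtain ⟨b, hb1, hb2⟩ := exists_basis hn hspan
  let lam : (Fin f × Fin p) ⊕ Fin a → k :=
    Sum.elim (fun q => μ q.1 * castK k p r ^ (q.2 : ℕ)) fun j => γ * castK k p r ^ (j : ℕ)
  have hlam : ∀ q, Yv (b q) = lam q • b q := by
    rintro (⟨i, j⟩ | j)
    · rw [hb1, cyc_pow_apply hcomm (hv i), mul_comm]; rfl
    · rw [hb2, cyc_pow_apply hcomm hw, mul_comm]; rfl
  have e : interSp Yv Yw ≃ₗ[k] Π q, eigSp Yw (lam q) :=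
    { toFun := fun Φ q => ⟨(Φ : V →ₗ[k] W) (b q), mem_eigSp.mpr (by
        rw [interSp_apply Φ.2, hlam, map_smul])⟩
      map_add' := fun _ _ => rfl
      map_smul' := fun _ _ => rfl
      invFun := fun φ => ⟨b.constr k fun q => (φ q : W), b.ext fun q => by
        rw [LinearMap.comp_apply, LinearMap.comp_apply, hlam, map_smul, Module.Basis.constr_basis]
        exact mem_eigSp.mp (φ q).2⟩
      left_inv := fun Φ => Subtype.ext (b.ext fun q => by simp [Module.Basis.constr_basis])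
      right_inv := fun φ => by
        funext q
        exact Subtype.ext (b.constr_basis k _ q) }
  rw [e.finrank_eq, Module.finrank_pi_fintype, Fintype.sum_sum_type, Fintype.sum_prod_type]
  congr 1
  · refine Finset.sum_congr rfl fun i _ => ?_
    exact Fin.sum_univ_eq_sum_range
      (fun j => Module.finrank k (eigSp Yw (μ i * castK k p r ^ j))) p
  · exact Fin.sum_univ_eq_sum_range
      (fun j => Module.finrank k (eigSp Yw (γ * castK k p r ^ j))) a

/-- The traces fixed by the normaliser are few. -/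
theorem finrank_homTop_le (h2 : p ≠ 2) (hXv : Xv ^ p = 1) (hXw : Xw ^ p = 1)
    (hn : f * p + a = Module.finrank k V) (hv : ∀ i, Yv (v i) = μ i • v i) (hw : Yv w = γ • w)
    (hwa : (dop k p Xv ^ a) w = 0)
    (hspan : cyc (dop k p Xv) w a ⊔ ⨆ i, cyc (dop k p Xv) (v i) p = ⊤) :
    Module.finrank k (homTop Xv Yv Xw Yw p) ≤ ∑ i, Module.finrank k (eigSp Yw (μ i)) +
      Module.finrank k (LinearMap.range (dop k p Xw ^ (p - a)) ⊓
        (LinearMap.ker (dop k p Xw ^ a) ⊓ eigSp Yw γ) : Submodule k W) := by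
  obtain ⟨b, hb1, hb2⟩ := exists_basis hn hspan
  set S := (LinearMap.range (dop k p Xw ^ (p - a)) ⊓
        (LinearMap.ker (dop k p Xw ^ a) ⊓ eigSp Yw γ) : Submodule k W) with hS
  have hmem : ∀ Φ : homTop Xv Yv Xw Yw p,
      (∀ i, (Φ : V →ₗ[k] W) (v i) ∈ eigSp Yw (μ i)) ∧ (Φ : V →ₗ[k] W) w ∈ S := by
    intro ⟨Φ, ⟨ψ, hψ⟩, hx, hy⟩
    refine ⟨fun i => mem_eigSp.mpr (by rw [interSp_apply hy, hv, map_smul]), ?_, ?_, ?_⟩
    · have hva : ((Xv - 1) ^ a) w = 0 := by
        obtain ⟨U, Wc, -, h3, -, hW⟩ := exists_dop_pow_eq (k := k) h2 hXv a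
        have hWX : Commute Wc Xv := by simpa using hW.add_right (Commute.one_right Wc)
        rw [h3, ((commute_dop (k := k) (p := p) hWX).pow_right a).symm.eq, Module.End.mul_apply, hwa,
          map_zero]
      have h := homAct_pow_mem (Xw := Xw) hXv (p - 1) a ψ w hva
      rw [hψ, Nat.sub_add_cancel hp.out.one_le] at h
      obtain ⟨u, hu⟩ := h
      obtain ⟨U, Wc, -, h3, -, -⟩ := exists_dop_pow_eq (k := k) h2 hXw (p - a)
      refine ⟨Wc u, ?_⟩
      rw [← Module.End.mul_apply, ← h3, hu]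
    · rw [SetLike.mem_coe, LinearMap.mem_ker, pow_interSp_dop hx, hwa, map_zero]
    · exact mem_eigSp.mpr (by rw [interSp_apply hy, hw, map_smul])
  let g : homTop Xv Yv Xw Yw p →ₗ[k] (Π i, eigSp Yw (μ i)) × S :=
    { toFun := fun Φ => (fun i => ⟨_, (hmem Φ).1 i⟩, ⟨_, (hmem Φ).2⟩)
      map_add' := fun _ _ => rfl
      map_smul' := fun _ _ => rfl }
  refine (LinearMap.finrank_le_finrank_of_injective (f := g) ?_).trans
    (by rw [Module.finrank_prod, Module.finrank_pi_fintype])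
  intro Φ Φ' h
  refine Subtype.ext (b.ext fun q => ?_)
  have h1 : ∀ i, (Φ : V →ₗ[k] W) (v i) = (Φ' : V →ₗ[k] W) (v i) := fun i =>
    congrArg Subtype.val (congrFun (congrArg Prod.fst h) i)
  have h2' : (Φ : V →ₗ[k] W) w = (Φ' : V →ₗ[k] W) w := congrArg Subtype.val (congrArg Prod.snd h)
  rcases q with ⟨i, j⟩ | j
  · rw [hb1, ← pow_interSp_dop Φ.2.2.1, ← pow_interSp_dop Φ'.2.2.1, h1]
  · rw [hb2, ← pow_interSp_dop Φ.2.2.1, ← pow_interSp_dop Φ'.2.2.1, h2']

end CfsgLib.Char.SmallDegree
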