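import Cfsg.Agent.Lib.Char.SmallDegree.DOp
import Cfsg.Agent.Lib.Char.SmallDegree.Avg
import Cfsg.Agent.Lib.Char.HalfDegree.Model
import Cfsg.Agent.Lib.Char.HalfDegree.Krylov

/-!
# Conjugation on matrices by the model

`adX` is conjugation by the translation and `adY` is a multiple of conjugation by the scaling.
-/

set_option autoImplicit false
set_option linter.unusedSectionVars false

namespace CfsgLib.Char.SmallDegree

open Matrix Finset CfsgLib.Char CfsgLib.Char.HalfDegree

/-- A convolution of binomial coefficients. -/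
theorem sum_choose_mul_choose (n a : ℕ) :
    ∀ b, ∑ i ∈ range (n + 1), i.choose a * (n - i).choose b = (n + 1).choose (a + b + 1) := by
  induction n with
  | zero =>
    intro b
    rcases a with _ | a <;> rcases b with _ | b
    all_goals simp [Nat.choose_eq_zero_of_lt]
  | succ n ih =>
    intro b
    rcases b with _ | b
    · have h := ih 0
      simp only [Nat.choose_zero_right, mul_one, add_zero] at h ⊢
      rw [Finset.sum_range_succ, h, Nat.choose_succ_succ' (n + 1) a, add_comm]
    · rw [Finset.sum_range_succ, Nat.sub_self, Nat.choose_zero_succ, mul_zero, add_zero,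
        Finset.sum_congr rfl fun i hi => by
          rw [Nat.succ_sub (Nat.lt_succ_iff.mp (mem_range.mp hi)), Nat.choose_succ_succ', mul_add],
        Finset.sum_add_distrib, ih b, ih (b + 1), show a + (b + 1) + 1 = a + b + 1 + 1 by ring,
        ← Nat.choose_succ_succ' (n + 1) (a + b + 1)]

variable {k : Type*} [Field k] {c : ℕ}

local notation "Mat" => Matrix (Fin (c + 1)) (Fin (c + 1)) k

/-- Conjugation by the translation. -/
noncomputable def adX : Module.End k Mat :=
  (LinearMap.mulLeft k (tmat 1 : Mat)).comp (LinearMap.mulRight k (tmat (-1) : Mat))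

/-- Its inverse. -/
noncomputable def adXi : Module.End k Mat :=
  (LinearMap.mulLeft k (tmat (-1) : Mat)).comp (LinearMap.mulRight k (tmat 1 : Mat))

/-- A multiple of conjugation by the scaling. -/
noncomputable def adY (c0 r : k) : Module.End k Mat :=
  c0 • (LinearMap.mulLeft k (mmat r : Mat)).comp (LinearMap.mulRight k (mmat r⁻¹ : Mat))

theorem adX_apply (f : Mat) : adX f = tmat 1 * f * tmat (-1) := by
  rw [mul_assoc]; rfl

theorem adXi_apply (f : Mat) : adXi f = tmat (-1) * f * tmat 1 := by
  rw [mul_assoc]; rfl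

theorem tmat_one_mul_neg : (tmat 1 * tmat (-1) : Mat) = 1 := by
  rw [tmat_mul, add_neg_cancel, tmat_zero]

theorem tmat_neg_mul_one : (tmat (-1) * tmat 1 : Mat) = 1 := by
  rw [tmat_mul, neg_add_cancel, tmat_zero]

theorem adY_apply (c0 r : k) (f : Mat) (a b : Fin (c + 1)) :
    adY c0 r f a b = c0 * r ^ (b : ℕ) * r⁻¹ ^ (a : ℕ) * f a b := by
  show (c0 • ((mmat r : Mat) * (f * mmat r⁻¹) : Mat) : Mat) a b = _
  rw [Matrix.smul_apply, smul_eq_mul, mmat, mmat, Matrix.diagonal_mul, Matrix.mul_diagonal, inv_inv]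
  ring

/-- Conjugation respects products. -/
theorem adX_mul (f g : Mat) : adX (f * g) = adX f * adX g := by
  simp only [adX_apply, mul_assoc]
  rw [← mul_assoc (tmat (-1) : Mat) (tmat 1), tmat_neg_mul_one, one_mul]

theorem adX_one : adX (1 : Mat) = 1 := by rw [adX_apply, mul_one, tmat_one_mul_neg]

/-- The operator raising the degree. -/
noncomputable abbrev adA : Module.End k Mat := adX - 1

theorem adA_mul (f g : Mat) :
    adA (f * g) = adA f * adA g + adA f * g + f * adA g := by
  simp only [LinearMap.sub_apply, Module.End.one_apply, adX_mul, mul_sub, sub_mul]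
  abel

theorem adA_pow_mul : ∀ (n a b : ℕ) (f g : Mat), a + b = n → ((adA : Module.End k Mat) ^ a) f = 0 →
    ((adA : Module.End k Mat) ^ b) g = 0 → ((adA : Module.End k Mat) ^ (a + b - 1)) (f * g) = 0 := by
  intro n
  induction n using Nat.strong_induction_on with
  | _ n ih =>
    intro a b f g hn hf hg
    rcases Nat.eq_zero_or_pos a with rfl | ha
    · rw [pow_zero, Module.End.one_apply] at hf
      rw [hf, zero_mul, map_zero]
    rcases Nat.eq_zero_or_pos b with rfl | hb
    · rw [pow_zero, Module.End.one_apply] at hg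
      rw [hg, mul_zero, map_zero]
    have hf' : ((adA : Module.End k Mat) ^ (a - 1)) (adA f) = 0 := by
      rw [← Module.End.mul_apply, ← pow_succ, Nat.sub_add_cancel ha, hf]
    have hg' : ((adA : Module.End k Mat) ^ (b - 1)) (adA g) = 0 := by
      rw [← Module.End.mul_apply, ← pow_succ, Nat.sub_add_cancel hb, hg]
    have hmono : ∀ (m m' : ℕ) (u : Mat), m ≤ m' → ((adA : Module.End k Mat) ^ m) u = 0 →
        ((adA : Module.End k Mat) ^ m') u = 0 := fun m m' u h hu => by
      obtain ⟨t, rfl⟩ := Nat.exists_eq_add_of_le h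
      rw [Nat.add_comm m t, pow_add, Module.End.mul_apply, hu, map_zero]
    rw [show a + b - 1 = (a + b - 2) + 1 by omega, pow_succ, Module.End.mul_apply, adA_mul, map_add,
      map_add, hmono _ _ _ (by omega) (ih _ (by omega) (a - 1) (b - 1) _ _ rfl hf' hg'),
      hmono _ _ _ (by omega) (ih _ (by omega) (a - 1) b _ _ rfl hf' hg),
      hmono _ _ _ (by omega) (ih _ (by omega) a (b - 1) _ _ rfl hf hg'), add_zero, add_zero]

theorem adA_dmat : adA (dmat : Mat) = 0 := by
  rw [LinearMap.sub_apply, Module.End.one_apply, adX_apply, tmat_one_comm_dmat, mul_assoc,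
    tmat_one_mul_neg, mul_one, sub_self]

theorem adA_hmat : adA (hmat : Mat) = 2 • dmat := by
  rw [LinearMap.sub_apply, Module.End.one_apply, adX_apply, tmat_one_mul_hmat, mul_assoc,
    tmat_one_mul_neg, mul_one, add_sub_cancel_left]

theorem adA_ymat : adA (ymat : Mat) = hmat + dmat := by
  rw [LinearMap.sub_apply, Module.End.one_apply, adX_apply, tmat_one_mul_ymat, mul_assoc,
    tmat_one_mul_neg, mul_one]
  abel

theorem adA_ymat_pow : ∀ s : ℕ, ((adA : Module.End k Mat) ^ (2 * s + 1)) ((ymat : Mat) ^ s) = 0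
  | 0 => by rw [pow_zero, mul_zero, zero_add, pow_one, LinearMap.sub_apply, Module.End.one_apply,
      adX_one, sub_self]
  | s + 1 => by
    have h3 : ((adA : Module.End k Mat) ^ 3) (ymat : Mat) = 0 := by
      rw [show (3 : ℕ) = 1 + 1 + 1 from rfl, pow_succ, pow_succ, pow_one, Module.End.mul_apply,
        Module.End.mul_apply, adA_ymat, map_add, adA_hmat, adA_dmat, add_zero, map_nsmul, adA_dmat,
        smul_zero]
    have h := adA_pow_mul _ (2 * s + 1) 3 _ _ rfl (adA_ymat_pow s) h3
    rw [pow_succ (ymat : Mat)]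
    rw [show 2 * s + 1 + 3 - 1 = 2 * (s + 1) + 1 by omega] at h
    exact h

theorem trace_adX (v g : Mat) : (adX v * g).trace = (v * adXi g).trace := by
  rw [adX_apply, adXi_apply]
  simp only [mul_assoc]
  rw [Matrix.trace_mul_comm]
  simp only [mul_assoc]

theorem adXi_mul_adX : (adXi : Module.End k Mat) * adX = 1 := LinearMap.ext fun f => by
  rw [Module.End.mul_apply, adX_apply, adXi_apply, Module.End.one_apply]
  simp only [← mul_assoc]
  rw [tmat_neg_mul_one, one_mul, mul_assoc, tmat_neg_mul_one, mul_one]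

theorem adX_mul_adXi : (adX : Module.End k Mat) * adXi = 1 := LinearMap.ext fun f => by
  rw [Module.End.mul_apply, adX_apply, adXi_apply, Module.End.one_apply]
  simp only [← mul_assoc]
  rw [tmat_one_mul_neg, one_mul, mul_assoc, tmat_one_mul_neg, mul_one]

/-- Images of powers are orthogonal to kernels. -/
theorem trace_adA_pow : ∀ (b : ℕ) (v g : Mat), ((adA : Module.End k Mat) ^ b) g = 0 →
    (((adA : Module.End k Mat) ^ b) v * g).trace = 0
  | 0, v, g, h => by
    rw [pow_zero, Module.End.one_apply] at h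
    rw [h, mul_zero, Matrix.trace_zero]
  | b + 1, v, g, h => by
    rw [pow_succ', Module.End.mul_apply, LinearMap.sub_apply, Module.End.one_apply, sub_mul,
      Matrix.trace_sub, trace_adX, ← Matrix.trace_sub, ← mul_sub]
    refine trace_adA_pow b v _ ?_
    have hcomm : Commute (adA : Module.End k Mat) adXi :=
      ((show Commute (adX : Module.End k Mat) adXi from adX_mul_adXi.trans adXi_mul_adX.symm)).sub_left
        (Commute.one_left _)
    have hB : adXi g - g = -(adXi (adA g)) := by
      have h1 : adXi (adX g) = g := LinearMap.congr_fun adXi_mul_adX g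
      rw [LinearMap.sub_apply, Module.End.one_apply, map_sub, h1, neg_sub]
    rw [hB, map_neg, ← Module.End.mul_apply _ adXi, (hcomm.pow_left b).eq, Module.End.mul_apply,
      ← Module.End.mul_apply _ adA, ← pow_succ, h, map_zero, neg_zero]

theorem ymat_pow_apply : ∀ (s : ℕ) (j i : Fin (c + 1)), ((ymat : Mat) ^ s) j i =
    if (i : ℕ) + s = j then ∏ l ∈ range s, ((((i : ℕ) + l : ℕ) : k) - c) else 0
  | 0, j, i => by
    rw [pow_zero, add_zero, Matrix.one_apply, prod_range_zero]
    simp [Fin.ext_iff, eq_comm]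
  | s + 1, j, i => by
    rw [pow_succ', Matrix.mul_apply]
    simp only [ymat, of_apply, ite_mul, zero_mul]
    rw [Finset.sum_congr rfl fun l _ => by rw [← ymat, ymat_pow_apply s l i]]
    split_ifs with h
    · rw [Finset.sum_eq_single ⟨(i : ℕ) + s, by omega⟩]
      · rw [if_pos (show (i : ℕ) + s + 1 = j by omega), if_pos rfl, prod_range_succ, mul_comm]
      · intro b _ hb
        split_ifs with h1 h2
        · exact absurd (Fin.ext h2.symm) hb
        · rw [mul_zero]
        · rfl
      · simp
    · refine Finset.sum_eq_zero fun l _ => ?_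
      split_ifs with h1 h2
      · omega
      · rw [mul_zero]
      · rfl

theorem dmat_pow_apply : ∀ (s : ℕ) (j i : Fin (c + 1)), ((dmat : Mat) ^ s) j i =
    if (i : ℕ) = j + s then ∏ l ∈ range s, ((((j : ℕ) + 1 + l : ℕ) : k)) else 0
  | 0, j, i => by
    rw [pow_zero, add_zero, Matrix.one_apply, prod_range_zero]
    simp [Fin.ext_iff, eq_comm]
  | s + 1, j, i => by
    rw [pow_succ, Matrix.mul_apply]
    simp only [dmat, of_apply, mul_ite, mul_zero]
    rw [Finset.sum_congr rfl fun l _ => by rw [← dmat, dmat_pow_apply s j l]]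
    split_ifs with h
    · rw [Finset.sum_eq_single ⟨(j : ℕ) + s, by omega⟩]
      · rw [if_pos (show (i : ℕ) = j + s + 1 by omega), if_pos rfl, prod_range_succ, h, show (j : ℕ) + (s + 1) = j + 1 + s by ring]
      · intro b _ hb
        split_ifs with h1 h2
        · exact absurd (Fin.ext h2) hb
        · rw [zero_mul]
        · rfl
      · simp
    · refine Finset.sum_eq_zero fun l _ => ?_
      split_ifs with h1 h2
      · omega
      · rw [zero_mul]
      · rfl

theorem trace_dmat_ymat_pow (h s : ℕ) :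
    ((dmat : Mat) ^ h * ymat ^ s).trace = if h = s then
      (-1) ^ s * ((s.factorial : k) * s.factorial * ((c + s + 1).choose (2 * s + 1) : k)) else 0 := by
  rw [Matrix.trace]
  simp only [Matrix.diag_apply, Matrix.mul_apply, dmat_pow_apply, ymat_pow_apply, ite_mul, zero_mul,
    mul_ite, mul_zero]
  split_ifs with he
  swap
  · refine Finset.sum_eq_zero fun a _ => Finset.sum_eq_zero fun b _ => ?_
    split_ifs with h1 h2
    · omega
    · rfl
    · rfl
  subst he
  have hterm : ∀ a : Fin (c + 1), (∑ b : Fin (c + 1), if (a : ℕ) + h = b then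
      (if (b : ℕ) = a + h then (∏ l ∈ range h, ((((a : ℕ) + 1 + l : ℕ) : k))) *
        ∏ l ∈ range h, ((((a : ℕ) + l : ℕ) : k) - c) else 0) else 0) =
      (-1) ^ h * ((h.factorial : k) * h.factorial *
        ((((a : ℕ) + h).choose h * (c - a).choose h : ℕ) : k)) := by
    intro a
    rcases Nat.lt_or_ge ((a : ℕ) + h) (c + 1) with hlt | hge
    · rw [Finset.sum_eq_single ⟨(a : ℕ) + h, hlt⟩ (fun b _ hb => by
        rw [if_neg fun e => hb (Fin.ext e.symm)]) (by simp), if_pos rfl, if_pos rfl]
      have h1 : (∏ l ∈ range h, ((((a : ℕ) + 1 + l : ℕ) : k))) =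
          ((h.factorial * ((a : ℕ) + h).choose h : ℕ) : k) := by
        rw [← Nat.cast_prod, ← Nat.ascFactorial_eq_prod_range, Nat.ascFactorial_eq_factorial_mul_choose]
      have h2 : (∏ l ∈ range h, ((((a : ℕ) + l : ℕ) : k) - c)) =
          (-1) ^ h * ((h.factorial * (c - a).choose h : ℕ) : k) := by
        rw [← Nat.descFactorial_eq_factorial_mul_choose, Nat.descFactorial_eq_prod_range, Nat.cast_prod,
          ← card_range h, ← Finset.prod_const, card_range, ← Finset.prod_mul_distrib]
        refine Finset.prod_congr rfl fun l hl => ?_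
        rw [mem_range] at hl
        rw [Nat.cast_sub (show l ≤ c - a by omega), Nat.cast_sub (show (a : ℕ) ≤ c by omega)]
        push_cast
        ring
      rw [h1, h2]
      push_cast
      ring
    · rw [Finset.sum_eq_zero fun b _ => if_neg (by omega), Nat.choose_eq_zero_of_lt (show c - a < h by omega)]
      simp
  rw [Finset.sum_congr rfl fun a _ => hterm a, ← Finset.mul_sum, ← Finset.mul_sum, ← Nat.cast_sum,
    Fin.sum_univ_eq_sum_range (fun a => (a + h).choose h * (c - a).choose h)]
  congr 3
  have h3 := sum_choose_mul_choose (c + h) h h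
  rw [show c + h + 1 = h + (c + 1) by ring, Finset.sum_range_add, Finset.sum_eq_zero (fun i hi => by
      rw [Nat.choose_eq_zero_of_lt (mem_range.mp hi), zero_mul]), zero_add,
    show h + h + 1 = 2 * h + 1 by ring] at h3
  rw [show c + h + 1 = h + (c + 1) by ring, ← h3]
  exact Finset.sum_congr rfl fun a _ => by rw [add_comm a h, show c + h - (h + a) = c - a by omega]

/-- The matrices supported on a set of positions. -/
def supp (P : Fin (c + 1) → Fin (c + 1) → Prop) : Submodule k Mat where
  carrier := {f | ∀ a b, ¬ P a b → f a b = 0}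
  zero_mem' := fun _ _ _ => rfl
  add_mem' := fun hf hg a b h => by rw [Matrix.add_apply, hf a b h, hg a b h, add_zero]
  smul_mem' := fun s f hf a b h => by rw [Matrix.smul_apply, hf a b h, smul_zero]

open scoped Classical in
theorem finrank_supp (P : Fin (c + 1) → Fin (c + 1) → Prop) :
    Module.finrank k (supp (k := k) P) =
      (univ.filter fun q : Fin (c + 1) × Fin (c + 1) => P q.1 q.2).card := by
  rw [← Fintype.card_subtype, ← (Module.finrank_fintype_fun_eq_card k :
    Module.finrank k ({q : Fin (c + 1) × Fin (c + 1) // P q.1 q.2} → k) = _)]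
  refine LinearEquiv.finrank_eq
    { toFun := fun f q => (f : Mat) q.1.1 q.1.2
      map_add' := fun _ _ => rfl
      map_smul' := fun _ _ => rfl
      invFun := fun v => ⟨Matrix.of fun a b => if h : P a b then v ⟨(a, b), h⟩ else 0,
        fun a b h => by rw [of_apply, dif_neg h]⟩
      left_inv := fun f => Subtype.ext (by
        ext a b
        by_cases h : P a b
        · simp [h]
        · simp [h, f.2 a b h])
      right_inv := fun v => by
        funext q
        simp [q.2] }

/-- The difference of the column and row indices is at least `m`. -/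
def degGE (m : ℤ) (a b : Fin (c + 1)) : Prop := m ≤ ((b : ℕ) : ℤ) - ((a : ℕ) : ℤ)

theorem adA_mem_degGE {m : ℤ} {f : Mat} (hf : f ∈ supp (degGE m)) :
    adA f ∈ supp (degGE (m + 1)) := by
  intro a b h
  rw [degGE, not_le] at h
  rw [LinearMap.sub_apply, Module.End.one_apply, Matrix.sub_apply, adX_apply, sub_eq_zero,
    Matrix.mul_apply]
  have hup : ∀ (z : k) (i j : Fin (c + 1)), (j : ℕ) < i → (tmat z : Mat) i j = 0 := fun z i j hij => by
    simp [tmat, tc, Nat.choose_eq_zero_of_lt hij]
  have hdiag : ∀ (z : k) (i : Fin (c + 1)), (tmat z : Mat) i i = 1 := fun z i => by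
    simp [tmat, tc]
  have hinner : ∀ b' : Fin (c + 1), (b' : ℕ) ≤ b →
      ((tmat 1 : Mat) * f) a b' = if b' = b then f a b else 0 := by
    intro b' hb'
    rw [Matrix.mul_apply]
    have hz : ∀ a' : Fin (c + 1), a' ≠ a ∨ b' ≠ b → (tmat 1 : Mat) a a' * f a' b' = 0 := by
      intro a' hne
      rcases Nat.lt_or_ge (a' : ℕ) a with h1 | h1
      · rw [hup _ _ _ h1, zero_mul]
      · rw [hf a' b' (by
          unfold degGE
          rcases hne with hne | hne
          · have : (a : ℕ) < a' := lt_of_le_of_ne h1 fun e => hne (Fin.ext e.symm)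
            omega
          · have : (b' : ℕ) < b := lt_of_le_of_ne hb' fun e => hne (Fin.ext e)
            omega), mul_zero]
    split_ifs with hbb
    · subst hbb
      rw [Finset.sum_eq_single a (fun a' _ hne => hz a' (Or.inl hne)) (by simp), hdiag, one_mul]
    · exact Finset.sum_eq_zero fun a' _ => hz a' (Or.inr hbb)
  rw [Finset.sum_eq_single b]
  · rw [hinner b le_rfl, if_pos rfl, hdiag, mul_one]
  · intro b' _ hne
    rcases Nat.lt_or_ge (b : ℕ) b' with h1 | h1
    · rw [hup _ _ _ h1, mul_zero]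
    · rw [hinner b' h1, if_neg hne, zero_mul]
  · simp

theorem supp_mono {P Q : Fin (c + 1) → Fin (c + 1) → Prop} (h : ∀ a b, P a b → Q a b) :
    (supp P : Submodule k Mat) ≤ supp Q := fun _ hf a b hq => hf a b fun hp => hq (h a b hp)

variable {p e : ℕ} [hp : Fact p.Prime] [CharP k p]

theorem adX_pow_p : (adX : Module.End k Mat) ^ p = 1 := by
  have hpow : ∀ (n : ℕ) (f : Mat), ((adX : Module.End k Mat) ^ n) f =
      tmat (n : k) * f * tmat (-(n : k)) := by
    intro n
    induction n with
    | zero => intro f; simp [tmat_zero]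
    | succ n ih =>
      intro f
      rw [pow_succ', Module.End.mul_apply, ih, adX_apply]
      simp only [← mul_assoc, tmat_mul]
      rw [mul_assoc _ (tmat (-(n : k))) (tmat (-1)), tmat_mul]
      push_cast
      ring_nf
  refine LinearMap.ext fun f => ?_
  rw [hpow, CharP.cast_eq_zero, neg_zero, tmat_zero, one_mul, mul_one, Module.End.one_apply]

/-- The eigenoperator of the conjugation. -/
noncomputable abbrev adT (k : Type*) [Field k] (c p : ℕ) [Fact p.Prime] [CharP k p] :
    Module.End k (Matrix (Fin (c + 1)) (Fin (c + 1)) k) := dop k p (adX (k := k) (c := c))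

theorem adT_pow_eq_zero_iff (h2 : p ≠ 2) (n : ℕ) (f : Mat) :
    (adT k c p ^ n) f = 0 ↔ ((adA : Module.End k Mat) ^ n) f = 0 := by
  obtain ⟨U, W, h1, h3, hU, hW⟩ := exists_dop_pow_eq (k := k) h2 (adX_pow_p (k := k) (c := c) (p := p)) n
  have hWX : Commute W adX := by simpa using hW.add_right (Commute.one_right W)
  refine ⟨fun h => ?_, fun h => ?_⟩
  · rw [h3, ((commute_dop (k := k) (p := p) hWX).pow_right n).symm.eq, Module.End.mul_apply, h, map_zero]
  · rw [h1, (hU.pow_right n).symm.eq, Module.End.mul_apply, h, map_zero]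

theorem range_adT_pow (h2 : p ≠ 2) (n : ℕ) :
    LinearMap.range (adT k c p ^ n) = LinearMap.range ((adA : Module.End k Mat) ^ n) := by
  obtain ⟨U, W, h1, h3, -, -⟩ := exists_dop_pow_eq (k := k) h2 (adX_pow_p (k := k) (c := c) (p := p)) n
  refine le_antisymm ?_ ?_
  · rintro _ ⟨v, rfl⟩
    rw [h1, Module.End.mul_apply]
    exact LinearMap.mem_range_self _ _
  · rintro _ ⟨v, rfl⟩
    rw [h3, Module.End.mul_apply]
    exact LinearMap.mem_range_self _ _

theorem adT_mem_degGE (h2 : p ≠ 2) {m : ℤ} {f : Mat} (hf : f ∈ supp (degGE m)) :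
    adT k c p f ∈ supp (degGE (m + 1)) := by
  obtain ⟨g, hg⟩ := dop_expand (k := k) h2 (adX : Module.End k Mat) (p := p)
  have hX : ∀ f : Mat, f ∈ supp (degGE m) → adA f ∈ supp (degGE m) := fun f hf =>
    supp_mono (fun a b (h : degGE (m + 1) a b) => (by unfold degGE at h ⊢; omega : degGE m a b))
      (adA_mem_degGE hf)
  have hpoly : ∀ q : Polynomial k, Polynomial.aeval (adA : Module.End k Mat) q f ∈ supp (degGE m) := by
    intro q
    induction q using Polynomial.induction_on' with
    | add a b ha hb => rw [map_add, LinearMap.add_apply]; exact add_mem ha hb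
    | monomial n s =>
      rw [Polynomial.aeval_monomial, ← Algebra.smul_def, LinearMap.smul_apply]
      refine Submodule.smul_mem _ _ ?_
      induction n with
      | zero => simpa using hf
      | succ n ih => rw [pow_succ', Module.End.mul_apply]; exact hX _ ih
  rw [adT, hg]
  show -(adA (f - adA (Polynomial.aeval (adA : Module.End k Mat) g f))) ∈ _
  exact neg_mem (adA_mem_degGE (sub_mem hf (hX _ (hpoly g))))

theorem adT_pow_mem_degGE (h2 : p ≠ 2) {m : ℤ} {f : Mat} (hf : f ∈ supp (degGE m)) :
    ∀ n : ℕ, (adT k c p ^ n) f ∈ supp (degGE (m + n))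
  | 0 => by simpa using hf
  | n + 1 => by
    rw [pow_succ', Module.End.mul_apply, show m + ((n + 1 : ℕ) : ℤ) = m + n + 1 by push_cast; ring]
    exact adT_mem_degGE h2 (adT_pow_mem_degGE h2 hf n)

variable {c0 : k} {r : ZMod p}

/-- An eigenspace of `adY`. -/
noncomputable abbrev wSp (c0 rr l : k) : Submodule k Mat :=
  LinearMap.ker (adY c0 rr - l • (1 : Module.End k Mat))

theorem mem_wSp {rr l : k} {f : Mat} : f ∈ wSp c0 rr l ↔ adY c0 rr f = l • f := by
  rw [wSp, LinearMap.mem_ker, LinearMap.sub_apply, LinearMap.smul_apply, Module.End.one_apply, sub_eq_zero]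

theorem wSp_eq_supp (rr l : k) :
    (wSp c0 rr l : Submodule k Mat) = supp fun a b => c0 * rr ^ (b : ℕ) * rr⁻¹ ^ (a : ℕ) = l := by
  ext f
  rw [mem_wSp]
  refine ⟨fun h a b hne => ?_, fun h => ?_⟩
  · have h1 := congrFun (congrFun h a) b
    rw [adY_apply, Matrix.smul_apply, smul_eq_mul] at h1
    by_contra h0
    exact hne (mul_right_cancel₀ h0 h1)
  · ext a b
    rw [adY_apply, Matrix.smul_apply, smul_eq_mul]
    by_cases hl : c0 * rr ^ (b : ℕ) * rr⁻¹ ^ (a : ℕ) = l
    · rw [hl]
    · rw [h a b hl, mul_zero, mul_zero]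

open scoped Classical in
theorem sum_finrank_wSp {rr μ : k} (hc0 : c0 ≠ 0) (hr : IsPrimitiveRoot rr e) (he : e ≠ 0)
    (hμ : μ ^ e = c0 ^ e) (q : ℕ) :
    ∑ j ∈ range (q * e), Module.finrank k (wSp (c := c) c0 rr (μ * rr ^ j)) = q * (c + 1) ^ 2 := by
  haveI : NeZero e := ⟨he⟩
  have hμ0 : μ ≠ 0 := fun h => by
    rw [h, zero_pow he] at hμ
    exact pow_ne_zero e hc0 hμ.symm
  have hone : ∑ j ∈ range e, Module.finrank k (wSp (c := c) c0 rr (μ * rr ^ j)) = (c + 1) ^ 2 := by
    rw [Finset.sum_congr rfl fun j _ => by rw [wSp_eq_supp, finrank_supp, Finset.card_filter]]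
    rw [Finset.sum_comm, Finset.sum_congr rfl (g := fun _ => 1) fun x _ => ?_]
    · simp [sq]
    obtain ⟨j, hj, hj'⟩ := hr.eq_pow_of_pow_eq_one
      (ξ := μ⁻¹ * (c0 * rr ^ (x.2 : ℕ) * rr⁻¹ ^ (x.1 : ℕ))) (by
        have h1 : ∀ n : ℕ, (rr ^ n) ^ e = 1 := fun n => by
          rw [← pow_mul, mul_comm, pow_mul, hr.pow_eq_one, one_pow]
        rw [mul_pow, mul_pow, mul_pow, h1, inv_pow, inv_pow rr, inv_pow, h1, hμ, inv_one, mul_one,
          mul_one, inv_mul_cancel₀ (pow_ne_zero _ hc0)])
    rw [Finset.sum_eq_single j]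
    · rw [if_pos (by rw [hj', mul_inv_cancel_left₀ hμ0])]
    · intro b hb hne
      rw [if_neg fun h => hne (hr.pow_inj (mem_range.mp hb) hj (mul_left_cancel₀ hμ0 (h.symm.trans
        (by rw [hj', mul_inv_cancel_left₀ hμ0]))))]
    · intro h; exact absurd (mem_range.mpr hj) h
  induction q with
  | zero => simp
  | succ q ih =>
    rw [add_mul, one_mul, Finset.sum_range_add, ih]
    have hper : ∀ j, rr ^ (q * e + j) = rr ^ j := fun j => by
      rw [pow_add, mul_comm q e, pow_mul, hr.pow_eq_one, one_pow, one_mul]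
    rw [Finset.sum_congr rfl fun j _ => by rw [hper], hone]
    ring

theorem adY_mul_adX (hr0 : r ≠ 0) :
    (adY c0 (castK k p r) : Module.End k Mat) * adX = adX ^ r.val * adY c0 (castK k p r) := by
  have hrk : castK k p r ≠ 0 := castK_ne_zero hr0
  have hcast : (r.val : k) = castK k p r := by
    rw [← castK_natCast (k := k) (p := p), ZMod.natCast_zmod_val]
  have hpow : ∀ (n : ℕ) (f : Mat), ((adX : Module.End k Mat) ^ n) f =
      tmat (n : k) * f * tmat (-(n : k)) := by
    intro n
    induction n with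
    | zero => intro f; simp [tmat_zero]
    | succ n ih =>
      intro f
      rw [pow_succ', Module.End.mul_apply, ih, adX_apply]
      simp only [← mul_assoc, tmat_mul]
      rw [mul_assoc _ (tmat (-(n : k))) (tmat (-1)), tmat_mul]
      push_cast
      ring_nf
  refine LinearMap.ext fun f => ?_
  rw [Module.End.mul_apply, Module.End.mul_apply, hpow, hcast, adX_apply]
  show c0 • ((mmat (castK k p r) : Mat) * (tmat 1 * f * tmat (-1) * mmat (castK k p r)⁻¹)) =
    tmat (castK k p r) * (c0 • ((mmat (castK k p r) : Mat) * (f * mmat (castK k p r)⁻¹))) *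
      tmat (-castK k p r)
  have h1 : (tmat (-1) : Mat) * mmat (castK k p r)⁻¹ =
      mmat (castK k p r)⁻¹ * tmat (-castK k p r) := by
    rw [mmat_mul_tmat (inv_ne_zero hrk)]
    congr 2
    field_simp
  rw [mul_smul_comm, smul_mul_assoc, mul_assoc (tmat 1 * f), h1]
  congr 1
  simp only [← mul_assoc]
  rw [mmat_mul_tmat hrk, mul_one]

theorem adY_mul_adT (hr0 : r ≠ 0) :
    (adY c0 (castK k p r) : Module.End k Mat) * adT k c p =
      castK k p r • (adT k c p * adY c0 (castK k p r)) :=
  mul_dop adX_pow_p hr0 (adY_mul_adX hr0)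

theorem adY_mul_adT_pow (hr0 : r ≠ 0) (n : ℕ) :
    (adY c0 (castK k p r) : Module.End k Mat) * adT k c p ^ n =
      castK k p r ^ n • (adT k c p ^ n * adY c0 (castK k p r)) := by
  induction n with
  | zero => simp
  | succ n ih =>
    rw [pow_succ, ← mul_assoc, ih, smul_mul_assoc, mul_assoc, adY_mul_adT hr0, mul_smul_comm, smul_smul,
      ← mul_assoc, ← pow_succ]

/-- At most `d - e` dimensions of the highest powers are killed by a low power, in each weight. -/
theorem finrank_top_le (h2 : p ≠ 2) (hr0 : r ≠ 0) (hr : IsPrimitiveRoot (castK k p r) e)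
    (hd : c + 1 + e = p) (h3 : 3 * e ≤ p + 1) {γ : k} (hγ : γ ≠ 0) :
    Module.finrank k (LinearMap.range (adT k c p ^ (p - e)) ⊓
      (LinearMap.ker (adT k c p ^ e) ⊓ wSp c0 (castK k p r) γ) : Submodule k Mat) ≤ c + 1 - e := by
  classical
  set T := adT k c p with hT
  set Z := LinearMap.range (T ^ (p - e)) with hZ
  set K := Z ⊓ LinearMap.ker T with hK
  have hstep : ∀ (i : ℕ) (γ : k), Module.finrank k
      (Z ⊓ (LinearMap.ker (T ^ i) ⊓ wSp c0 (castK k p r) γ) : Submodule k Mat) ≤
      ∑ l ∈ range i, Module.finrank k (K ⊓ wSp c0 (castK k p r) (γ * castK k p r ^ l) : Submodule k Mat) := by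
    intro i
    induction i with
    | zero =>
      intro γ
      rw [pow_zero, show LinearMap.ker (1 : Module.End k Mat) = ⊥ from LinearMap.ker_id, bot_inf_eq,
        inf_bot_eq, finrank_bot]
      exact Nat.zero_le _
    | succ i ih =>
      intro γ
      let g := T.comp (Z ⊓ (LinearMap.ker (T ^ (i + 1)) ⊓ wSp c0 (castK k p r) γ)).subtype
      have h1 := LinearMap.finrank_range_add_finrank_ker g
      have hrange : LinearMap.range g ≤
          Z ⊓ (LinearMap.ker (T ^ i) ⊓ wSp c0 (castK k p r) (γ * castK k p r)) := by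
        rintro _ ⟨⟨f, hfZ, hfk, hfw⟩, rfl⟩
        refine ⟨?_, ?_, ?_⟩
        · obtain ⟨v, rfl⟩ := hfZ
          exact ⟨T v, by
            show (T ^ (p - e)) (T v) = T ((T ^ (p - e)) v)
            rw [← Module.End.mul_apply, ← Module.End.mul_apply, ← pow_succ, ← pow_succ']⟩
        · rw [SetLike.mem_coe, LinearMap.mem_ker] at hfk ⊢
          show (T ^ i) (T f) = 0
          rw [← Module.End.mul_apply, ← pow_succ, hfk]
        · rw [SetLike.mem_coe, mem_wSp] at hfw ⊢
          show adY c0 (castK k p r) (T f) = _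
          have h : adY c0 (castK k p r) (T f) = castK k p r • T (adY c0 (castK k p r) f) :=
            LinearMap.congr_fun (adY_mul_adT (k := k) (c := c) (c0 := c0) hr0) f
          rw [h, hfw, map_smul, smul_smul, mul_comm γ]
          rfl
      have hker : Module.finrank k (LinearMap.ker g) ≤
          Module.finrank k (K ⊓ wSp c0 (castK k p r) γ : Submodule k Mat) := by
        refine LinearMap.finrank_le_finrank_of_injective
          (f := ((Submodule.subtype _).comp (LinearMap.ker g).subtype).codRestrict _ fun v => ?_)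
          fun a b hab => Subtype.ext (Subtype.ext (congrArg Subtype.val hab :))
        exact ⟨⟨v.1.2.1, v.2⟩, v.1.2.2.2⟩
      rw [Finset.sum_range_succ', pow_zero, mul_one]
      have h4 := (Submodule.finrank_mono hrange).trans (ih (γ * castK k p r))
      rw [Finset.sum_congr rfl fun l _ => by rw [mul_assoc, ← pow_succ']] at h4
      omega
  have hind : ∀ s : Finset ℕ, s ⊆ range e → ∑ l ∈ s, Module.finrank k
      (K ⊓ wSp c0 (castK k p r) (γ * castK k p r ^ l) : Submodule k Mat) =
      Module.finrank k (⨆ l ∈ s, K ⊓ wSp c0 (castK k p r) (γ * castK k p r ^ l) : Submodule k Mat) := by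
    intro s
    induction s using Finset.induction_on with
    | empty =>
      intro _
      rw [Finset.sum_empty, eq_comm, Submodule.finrank_eq_zero]
      simp
    | @insert l s hl ih =>
      intro hs
      rw [Finset.sum_insert hl, ih fun a ha => hs (Finset.mem_insert_of_mem ha), Finset.iSup_insert]
      have hdisj : Disjoint (K ⊓ wSp c0 (castK k p r) (γ * castK k p r ^ l))
          (⨆ a ∈ s, K ⊓ wSp c0 (castK k p r) (γ * castK k p r ^ a)) := by
        rw [Submodule.disjoint_def]
        intro f hf hf'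
        have hsup : (⨆ a ∈ s, K ⊓ wSp c0 (castK k p r) (γ * castK k p r ^ a)) ≤
            supp fun a b => c0 * castK k p r ^ (b : ℕ) * (castK k p r)⁻¹ ^ (a : ℕ) ≠
              γ * castK k p r ^ l := by
          refine iSup₂_le fun a ha => le_trans inf_le_right ?_
          rw [wSp_eq_supp]
          exact supp_mono fun i j hij h => hl (by
            rw [hij] at h
            exact hr.pow_inj (mem_range.mp (hs (Finset.mem_insert_of_mem ha)))
              (mem_range.mp (hs (Finset.mem_insert_self l s))) (mul_left_cancel₀ hγ h) ▸ ha)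
        ext i j
        by_cases h : c0 * castK k p r ^ (j : ℕ) * (castK k p r)⁻¹ ^ (i : ℕ) = γ * castK k p r ^ l
        · exact hsup hf' i j (not_not_intro h)
        · have h6 := hf.2
          rw [SetLike.mem_coe, wSp_eq_supp] at h6
          exact h6 i j h
      have h5 := Submodule.finrank_sup_add_finrank_inf_eq (K ⊓ wSp c0 (castK k p r) (γ * castK k p r ^ l))
        (⨆ a ∈ s, K ⊓ wSp c0 (castK k p r) (γ * castK k p r ^ a))
      rw [hdisj.eq_bot, finrank_bot, add_zero] at h5
      exact h5.symm
  refine (hstep e γ).trans ?_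
  rw [hind _ le_rfl]
  refine (Submodule.finrank_mono (iSup₂_le fun l _ => inf_le_left)).trans ?_
  set C := LinearMap.ker (adA : Module.End k Mat) with hC
  have hC_le : Module.finrank k C ≤ c + 1 := by
    obtain ⟨n, hn⟩ := tmat_nilpotent (k := k) (c := c) p
    have hN : ((tmat 1 : Mat) - 1) ^ (c + 1) = 0 := HalfDegree.pow_eq_zero_of_nilpotent ⟨n, hn⟩
    have hv := tmat_single_block (k := k) (c := c) (p := p) (by omega)
    refine (LinearMap.finrank_le_finrank_of_injective
      (f := ({ toFun := fun u => (u : Mat) *ᵥ Pi.single (Fin.last c) (1 : k)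
               map_add' := fun u v => by rw [Submodule.coe_add, Matrix.add_mulVec]
               map_smul' := fun a u => by rw [Submodule.coe_smul, Matrix.smul_mulVec, RingHom.id_apply] } :
            C →ₗ[k] (Fin (c + 1) → k)))
      ?_).trans (by rw [Module.finrank_fin_fun])
    intro u v huv
    have hcom : ∀ u : C, Commute (u : Mat) ((tmat 1 : Mat) - 1) := fun u => by
      have h := u.2
      simp only [hC, LinearMap.mem_ker, LinearMap.sub_apply, Module.End.one_apply, sub_eq_zero, adX_apply] at h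
      refine Commute.sub_right ?_ (Commute.one_right _)
      show (u : Mat) * (tmat 1 : Mat) = (tmat 1 : Mat) * (u : Mat)
      conv_lhs => rw [← h, mul_assoc, tmat_neg_mul_one, mul_one]
    exact Subtype.ext (eq_of_commute hN hv (hcom u) (hcom v) huv)
  let φ : C →ₗ[k] (Fin e → k) :=
    { toFun := fun f s => ((f : Mat) * ymat ^ (s : ℕ)).trace
      map_add' := fun f g => by funext s; simp [add_mul, Matrix.trace_add]
      map_smul' := fun a f => by funext s; simp [Matrix.trace_smul] }
  have hne : ∀ s : Fin e, (-1 : k) ^ (s : ℕ) * (((s : ℕ).factorial : k) * (s : ℕ).factorial *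
      ((c + s + 1).choose (2 * (s : ℕ) + 1) : k)) ≠ 0 := fun s => by
    have hs : (s : ℕ) < e := s.2
    have hf : (((s : ℕ).factorial : ℕ) : k) ≠ 0 := by
      rw [Ne, CharP.cast_eq_zero_iff k p, hp.out.dvd_factorial]
      omega
    have hch : (((c + s + 1).choose (2 * (s : ℕ) + 1) : ℕ) : k) ≠ 0 := by
      rw [Ne, CharP.cast_eq_zero_iff k p]
      exact fun hdvd => (hp.out.coprime_iff_not_dvd.mp
        (Nat.Prime.coprime_choose_of_lt hp.out (show c + s + 1 < p by omega) (by omega))) hdvd
    exact mul_ne_zero (pow_ne_zero _ (neg_ne_zero.mpr one_ne_zero)) (mul_ne_zero (mul_ne_zero hf hf) hch)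
  have hmemC : ∀ h : ℕ, (dmat : Mat) ^ h ∈ C := fun h => by
    rw [hC, LinearMap.mem_ker, LinearMap.sub_apply, Module.End.one_apply, adX_apply,
      ((show Commute (tmat 1 : Mat) dmat from tmat_one_comm_dmat).pow_right h).eq, mul_assoc,
      tmat_one_mul_neg, mul_one, sub_self]
  have hsurj : LinearMap.range φ = ⊤ := by
    rw [eq_top_iff, ← (Pi.basisFun k (Fin e)).span_eq, Submodule.span_le]
    rintro _ ⟨s, rfl⟩
    refine ⟨((-1 : k) ^ (s : ℕ) * (((s : ℕ).factorial : k) * (s : ℕ).factorial *
      ((c + s + 1).choose (2 * (s : ℕ) + 1) : k)))⁻¹ • ⟨_, hmemC s⟩, ?_⟩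
    funext l
    rw [map_smul, Pi.smul_apply, Pi.basisFun_apply, Pi.single_apply]
    show _ • ((dmat : Mat) ^ (s : ℕ) * ymat ^ (l : ℕ)).trace = _
    rw [trace_dmat_ymat_pow]
    by_cases h : (s : ℕ) = l
    · rw [if_pos h, if_pos (Fin.ext h.symm), ← h, smul_eq_mul, inv_mul_cancel₀ (hne s)]
    · rw [if_neg h, smul_zero, if_neg fun h' => h (by rw [h'])]
  have hKle : K ≤ (LinearMap.ker φ).map C.subtype := by
    rintro f ⟨hfZ, hfk⟩
    rw [SetLike.mem_coe, hZ, hT, range_adT_pow h2] at hfZ
    obtain ⟨v, rfl⟩ := hfZ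
    have hfA : ((adA : Module.End k Mat) ^ (p - e)) v ∈ C := by
      have h := (adT_pow_eq_zero_iff h2 1 (((adA : Module.End k Mat) ^ (p - e)) v)).mp
        (by rw [pow_one]; exact hfk)
      rwa [pow_one] at h
    refine ⟨⟨_, hfA⟩, LinearMap.mem_ker.mpr (funext fun s => trace_adA_pow _ _ _ ?_), rfl⟩
    have hs : (s : ℕ) < e := s.2
    obtain ⟨t, ht⟩ := Nat.exists_eq_add_of_le (show 2 * (s : ℕ) + 1 ≤ p - e by omega)
    rw [ht, add_comm _ t, pow_add, Module.End.mul_apply, adA_ymat_pow, map_zero]
  have hφ := LinearMap.finrank_range_add_finrank_ker φ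
  rw [hsurj, finrank_top, Module.finrank_fin_fun] at hφ
  refine (Submodule.finrank_mono hKle).trans ((Submodule.finrank_map_le _ _).trans ?_)
  omega

/-- A weight space maps onto the highest powers in that weight with a large kernel. -/
theorem finrank_bot_le (h2 : p ≠ 2) (hr0 : r ≠ 0) (hr : IsPrimitiveRoot (castK k p r) e)
    (hc0 : c0 ≠ 0) (he : 2 ≤ e) (hec : e ≤ c + 1) (hep : (e : k) ≠ 0) {γ : k} (hγ : γ ^ e = c0 ^ e) :
    c + 1 - e / 2 + Module.finrank k
      (LinearMap.range (adT k c p ^ e) ⊓ wSp c0 (castK k p r) γ : Submodule k Mat) ≤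
      Module.finrank k (wSp (c := c) c0 (castK k p r) γ) := by
  classical
  haveI : NeZero e := ⟨by omega⟩
  set T := adT k c p with hT
  set rr := castK k p r with hrr
  have hrr0 : rr ≠ 0 := castK_ne_zero hr0
  have hγ0 : γ ≠ 0 := fun h => by
    rw [h, zero_pow (by omega)] at hγ
    exact pow_ne_zero _ hc0 hγ.symm
  let g := (T ^ e).comp (wSp c0 rr γ).subtype
  have h1 := LinearMap.finrank_range_add_finrank_ker g
  have hTY : Commute (T ^ e) (adY c0 rr) := by
    have h := adY_mul_adT_pow (k := k) (c := c) (c0 := c0) hr0 e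
    rw [← hrr, hr.pow_eq_one, one_smul] at h
    exact h.symm
  have hYe : (γ⁻¹ • adY c0 rr : Module.End k Mat) ^ e = 1 := by
    refine LinearMap.ext fun f => ?_
    have hn : ∀ n : ℕ, ((γ⁻¹ • adY c0 rr : Module.End k Mat) ^ n) f =
        Matrix.of fun (a b : Fin (c + 1)) => (γ⁻¹ * (c0 * rr ^ (b : ℕ) * rr⁻¹ ^ (a : ℕ))) ^ n * f a b := fun n => by
      induction n with
      | zero => ext a b; simp
      | succ n ih =>
        rw [pow_succ', Module.End.mul_apply, ih]
        ext a b
        rw [LinearMap.smul_apply, Matrix.smul_apply, adY_apply, of_apply, of_apply, smul_eq_mul, pow_succ']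
        ring
    rw [hn]
    ext a b
    have h1 : ∀ n : ℕ, (rr ^ n) ^ e = 1 := fun n => by
      rw [← pow_mul, mul_comm, pow_mul, hr.pow_eq_one, one_pow]
    rw [of_apply, mul_pow, mul_pow, mul_pow, h1, inv_pow rr, inv_pow (rr ^ (a : ℕ)), h1, inv_pow, hγ,
      inv_one, mul_one, mul_one, inv_mul_cancel₀ (pow_ne_zero _ hc0), one_mul, Module.End.one_apply]
  have hsub : LinearMap.range (T ^ e) ⊓ wSp c0 rr γ ≤ LinearMap.range g := by
    rintro f ⟨⟨v, rfl⟩, hf⟩
    rw [SetLike.mem_coe, mem_wSp] at hf
    set Yg : Module.End k Mat := γ⁻¹ • adY c0 rr with hYg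
    refine ⟨⟨avgPow Yg e v, ?_⟩, ?_⟩
    · rw [mem_wSp]
      have h := avgPow_mem hYe v
      rw [hYg, LinearMap.smul_apply, ← hYg] at h
      conv_rhs => rw [← h, smul_smul, mul_inv_cancel₀ hγ0, one_smul]
    · show (T ^ e) (avgPow Yg e v) = (T ^ e) v
      have hc : Commute (T ^ e) (avgPow Yg e) :=
        (Commute.sum_right _ _ _ fun i _ => (hTY.smul_right _).pow_right i).smul_right _
      rw [← Module.End.mul_apply, hc.eq, Module.End.mul_apply]
      refine avgPow_fixed hep ?_
      rw [hYg, LinearMap.smul_apply, hf, smul_smul, inv_mul_cancel₀ hγ0, one_smul]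
  have hrange := Submodule.finrank_mono hsub
  suffices h : c + 1 - e / 2 ≤ Module.finrank k (LinearMap.ker g) by omega
  obtain ⟨j, hj, hjγ⟩ := hr.eq_pow_of_pow_eq_one (ξ := c0⁻¹ * γ) (by
    rw [mul_pow, inv_pow, hγ, inv_mul_cancel₀ (pow_ne_zero _ hc0)])
  set h : ℤ := if 2 * j ≤ e then (j : ℤ) else (j : ℤ) - e with hh
  have habs : h.natAbs ≤ e / 2 := by
    rw [hh]
    split_ifs <;> omega
  have hwt : ∀ a b : Fin (c + 1), ((b : ℕ) : ℤ) - ((a : ℕ) : ℤ) = h →
      c0 * rr ^ (b : ℕ) * rr⁻¹ ^ (a : ℕ) = γ := by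
    intro a b hab
    have h3 : rr ^ (b : ℕ) = rr ^ (a : ℕ) * rr ^ j := by
      rw [hh] at hab
      split_ifs at hab
      · rw [← pow_add, show (a : ℕ) + j = b by omega]
      · rw [← pow_add, show (a : ℕ) + j = b + e by omega, pow_add, hr.pow_eq_one, mul_one]
    rw [h3, hjγ, inv_pow]
    field_simp
  set P1 : Fin (c + 1) → Fin (c + 1) → Prop := fun a b =>
    c0 * rr ^ (b : ℕ) * rr⁻¹ ^ (a : ℕ) = γ ∧ degGE h a b with hP1
  set P2 : Fin (c + 1) → Fin (c + 1) → Prop := fun a b =>
    c0 * rr ^ (b : ℕ) * rr⁻¹ ^ (a : ℕ) = γ ∧ degGE (h + e) a b with hP2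
  let g1 := (T ^ e).comp (supp (k := k) P1).subtype
  have h4 := LinearMap.finrank_range_add_finrank_ker g1
  have hr1 : LinearMap.range g1 ≤ supp P2 := by
    rintro _ ⟨⟨f, hf⟩, rfl⟩ a b hab
    show ((T ^ e) f) a b = 0
    have hdeg := adT_pow_mem_degGE (p := p) h2 (supp_mono (fun a b h => h.2) hf) e
    have hw : (T ^ e) f ∈ wSp c0 rr γ := by
      rw [mem_wSp, ← Module.End.mul_apply, ← hTY.eq, Module.End.mul_apply,
        show adY c0 rr f = γ • f from mem_wSp.mp (by rw [wSp_eq_supp]; exact supp_mono (fun a b h => h.1) hf),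
        map_smul]
    rw [wSp_eq_supp] at hw
    by_cases hw' : c0 * rr ^ (b : ℕ) * rr⁻¹ ^ (a : ℕ) = γ
    · exact hdeg a b fun hd => hab ⟨hw', hd⟩
    · exact hw a b hw'
  have hk : Module.finrank k (LinearMap.ker g1) ≤ Module.finrank k (LinearMap.ker g) := by
    refine LinearMap.finrank_le_finrank_of_injective
      (f := (((Submodule.inclusion (show supp P1 ≤ wSp c0 rr γ by
        rw [wSp_eq_supp]; exact supp_mono fun a b h => h.1)).comp (LinearMap.ker g1).subtype)).codRestrict
        _ fun v => v.2) fun a b hab => ?_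
    refine Subtype.ext (Subtype.ext ?_)
    have h := congrArg Subtype.val hab
    have h' := congrArg (fun z : wSp c0 rr γ => (z : Mat)) h
    exact h'
  have h5 := Submodule.finrank_mono hr1
  have hcount : Module.finrank k (supp (k := k) P2) + (c + 1 - h.natAbs) ≤
      Module.finrank k (supp (k := k) P1) := by
    rw [finrank_supp, finrank_supp]
    let emb : Fin (c + 1 - h.natAbs) → Fin (c + 1) × Fin (c + 1) := fun i =>
      (⟨(i : ℕ) + (-h).toNat, by omega⟩, ⟨(i : ℕ) + h.toNat, by omega⟩)
    have hinj : Function.Injective emb := fun a b hab => Fin.ext (by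
      have := congrArg (fun z : Fin (c + 1) × Fin (c + 1) => (z.1 : ℕ)) hab
      simp only [emb] at this
      omega)
    rw [← Fintype.card_fin (c + 1 - h.natAbs), ← Finset.card_univ, ← Finset.card_image_of_injective _ hinj,
      ← Finset.card_union_of_disjoint ?_]
    · refine Finset.card_le_card fun q hq => ?_
      simp only [Finset.mem_union, Finset.mem_filter, Finset.mem_univ, true_and, Finset.mem_image] at hq ⊢
      rcases hq with ⟨h6, h7⟩ | ⟨i, rfl⟩
      · exact ⟨h6, by unfold degGE at h7 ⊢; omega⟩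
      · refine ⟨hwt _ _ ?_, ?_⟩
        · simp only [emb]; omega
        · simp only [degGE, emb]; omega
    · rw [Finset.disjoint_left]
      intro q hq hq'
      simp only [Finset.mem_filter, Finset.mem_univ, true_and] at hq
      simp only [Finset.mem_image, Finset.mem_univ, true_and] at hq'
      obtain ⟨i, rfl⟩ := hq'
      have h7 := hq.2
      simp only [degGE, emb] at h7
      omega
  omega

end CfsgLib.Char.SmallDegree
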