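import Cfsg.Agent.Lib.Char.SmallDegree.Transfer
import Cfsg.Agent.Lib.Char.SmallDegree.HomBound
import Cfsg.Agent.Lib.Char.SmallDegree.Weights
import Mathlib.LinearAlgebra.Matrix.Vec

/-!
# The rank bound

Lower bounds for the multiplicity of a character with the shape in a product of two characters of
degree `p - e` with the model.
-/

set_option autoImplicit false
set_option linter.unusedSectionVars false

namespace CfsgLib.Char.SmallDegree

open Cfsg CfsgLib.Block CfsgLib.Block.Cyclic CfsgLib.Char CfsgLib.Char.HalfDegree Matrix Finset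
open scoped Kronecker

universe u

section HomRep

variable {L : Type u} [Group L] {R : Type*} [CommRing R] {κ ι : Type*} [Fintype κ] [DecidableEq κ]
  [Fintype ι] [DecidableEq ι]

/-- The representation on homomorphisms. -/
noncomputable def homRep (A : L →* Matrix κ κ R) (B : L →* Matrix ι ι R) :
    L →* Matrix (ι × κ) (ι × κ) R where
  toFun g := (B g⁻¹)ᵀ ⊗ₖ A g
  map_one' := by rw [inv_one, map_one, map_one, transpose_one, one_kronecker_one]
  map_mul' g h := by rw [_root_.mul_inv_rev, map_mul, map_mul, transpose_mul, mul_kronecker_mul]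

theorem homRep_trace (A : L →* Matrix κ κ R) (B : L →* Matrix ι ι R) (g : L) :
    (homRep A B g).trace = (B g⁻¹).trace * (A g).trace := by
  show ((B g⁻¹)ᵀ ⊗ₖ A g).trace = _
  rw [trace_kronecker, trace_transpose]

theorem homRep_map {S : Type*} [CommRing S] (φ : R →+* S) (A : L →* Matrix κ κ R)
    (B : L →* Matrix ι ι R) (g : L) :
    (homRep A B g).map φ = ((B g⁻¹).map φ)ᵀ ⊗ₖ (A g).map φ := by
  show ((B g⁻¹)ᵀ ⊗ₖ A g).map φ = _
  ext ⟨i, a⟩ ⟨j, b⟩
  simp [kroneckerMap_apply]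

/-- The matrix with the given vectorisation. -/
def unvec (R : Type*) [CommRing R] (κ ι : Type*) : (ι × κ → R) ≃ₗ[R] Matrix κ ι R where
  toFun h := Matrix.of fun a i => h (i, a)
  map_add' _ _ := rfl
  map_smul' _ _ := rfl
  invFun f q := f q.2 q.1
  left_inv _ := rfl
  right_inv _ := rfl

theorem unvec_homRep {S : Type*} [CommRing S] (φ : R →+* S) (A : L →* Matrix κ κ R)
    (B : L →* Matrix ι ι R) (g : L) (h : ι × κ → S) :
    unvec S κ ι ((homRep A B g).map φ *ᵥ h) = (A g).map φ * unvec S κ ι h * (B g⁻¹).map φ := by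
  rw [homRep_map, show h = vec (unvec S κ ι h) from rfl, kronecker_mulVec_vec, transpose_transpose]
  rfl

end HomRep

variable {p : ℕ} [hpf : Fact p.Prime] {M : Ideal AlgInt} [hMm : M.IsMaximal] (hM : IsPModular p M)
  [CharP (ResField M) p] [IsAlgClosed (ResField M)] {L : Type u} [Group L] [Finite L]
  {e c n : ℕ} {x y : L} {r : ZMod p}

local notation "𝕜" => ResField M
local notation "WMat" => Matrix (Fin (c + 1)) (Fin (c + 1)) (ResField M)

variable (n c) in
/-- The translation from vectors to homomorphisms. -/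
noncomputable def toHom :
    (Fin n × (Fin (c + 1) × Fin (c + 1)) → 𝕜) ≃ₗ[𝕜] ((Fin n → 𝕜) →ₗ[𝕜] WMat) :=
  ((unvec 𝕜 (Fin (c + 1) × Fin (c + 1)) (Fin n)).trans Matrix.toLin').trans
    (LinearEquiv.congrRight (unvec 𝕜 (Fin (c + 1)) (Fin (c + 1))))

theorem toHom_apply (h : Fin n × (Fin (c + 1) × Fin (c + 1)) → 𝕜) (v : Fin n → 𝕜) :
    toHom c n h v = unvec 𝕜 (Fin (c + 1)) (Fin (c + 1))
      (unvec 𝕜 (Fin (c + 1) × Fin (c + 1)) (Fin n) h *ᵥ v) := rfl

/-- Conjugation by a pair of representations. -/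
noncomputable def adPair (ρ₁ ρ₂ : L →* Matrix (Fin (c + 1)) (Fin (c + 1)) (ram p M)) (g : L) :
    Module.End 𝕜 WMat :=
  (LinearMap.mulLeft 𝕜 ((ρ₁ g).map (resRam p M))).comp
    (LinearMap.mulRight 𝕜 ((ρ₂ g⁻¹).map (resRam p M)))

theorem toHom_act (ρ₁ ρ₂ : L →* Matrix (Fin (c + 1)) (Fin (c + 1)) (ram p M))
    (σ : L →* Matrix (Fin n) (Fin n) (ram p M)) (g : L)
    (h : Fin n × (Fin (c + 1) × Fin (c + 1)) → 𝕜) (v : Fin n → 𝕜) :
    toHom c n (overRes (homRep (homRep ρ₁ ρ₂) σ) g h) v =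
      adPair ρ₁ ρ₂ g (toHom c n h (overRes σ g⁻¹ v)) := by
  rw [toHom_apply, toHom_apply, overRes_apply, unvec_homRep, ← mulVec_mulVec, ← mulVec_mulVec,
    unvec_homRep, overRes_apply, mul_assoc]
  rfl

include hM in
/-- The general form of the bound. -/
theorem rank_general (D : NData p e x y r) (h2 : p ≠ 2)
    (ρ₁ ρ₂ : L →* Matrix (Fin (c + 1)) (Fin (c + 1)) (ram p M))
    (σ : L →* Matrix (Fin n) (Fin n) (ram p M)) {c₁ c₂ : 𝕜} (hc₁ : c₁ ≠ 0) (hc₂ : c₂ ≠ 0)
    (hx₁ : (ρ₁ x).map (resRam p M) = tmat 1) (hx₂ : (ρ₂ x).map (resRam p M) = tmat 1)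
    (hy₁ : (ρ₁ y).map (resRam p M) = c₁ • mmat (castK 𝕜 p r))
    (hy₂ : (ρ₂ y).map (resRam p M) = c₂ • mmat (castK 𝕜 p r))
    (hz : ∀ z ∈ Subgroup.center L, homRep (homRep ρ₁ ρ₂) σ z = 1)
    {f a : ℕ} {v : Fin f → Fin n → 𝕜} {μ : Fin f → 𝕜} {w : Fin n → 𝕜} {γ : 𝕜} (ha : 0 < a)
    (hn : f * p + a = n) (hv : ∀ i, overRes σ y (v i) = μ i • v i) (hw : overRes σ y w = γ • w)
    (hwa : (dop 𝕜 p (overRes σ x) ^ a) w = 0)
    (hspan : cyc (dop 𝕜 p (overRes σ x)) w a ⊔ ⨆ i, cyc (dop 𝕜 p (overRes σ x)) (v i) p = ⊤) :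
    γ ^ e = (c₁ * c₂⁻¹) ^ e ∧ ∀ S, Module.finrank 𝕜 (LinearMap.range (adT 𝕜 c p ^ (p - a)) ⊓
        (LinearMap.ker (adT 𝕜 c p ^ a) ⊓ wSp (c₁ * c₂⁻¹) (castK 𝕜 p r) γ) : Submodule 𝕜 WMat) ≤ S →
      e * (f * (((p - 1) / e) * (c + 1) ^ 2) + ∑ j ∈ range a,
          Module.finrank 𝕜 (wSp (c := c) (c₁ * c₂⁻¹) (castK 𝕜 p r) (γ * castK 𝕜 p r ^ j))) +
        Module.finrank (ramField p) (fixOne (homRep (homRep ρ₁ ρ₂) σ) x) ≤
      e * (Module.finrank (ramField p) (fixG (homRep (homRep ρ₁ ρ₂) σ)) + S) + n * (c + 1) ^ 2 := by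
  classical
  set u := homRep (homRep ρ₁ ρ₂) σ with hu
  set c0 := c₁ * c₂⁻¹ with hc0def
  set rr := castK 𝕜 p r with hrr
  have hrr0 : rr ≠ 0 := castK_ne_zero D.r_ne_zero
  have hc0 : c0 ≠ 0 := mul_ne_zero hc₁ (inv_ne_zero hc₂)
  have he0 := D.e_ne_zero
  have hr' : IsPrimitiveRoot rr e := D.prim.map_of_injective (castK 𝕜 p).injective
  set Xv := overRes σ x with hXv
  set Yv := overRes σ y with hYv
  have hinv : ∀ g : L, (ρ₂ g⁻¹).map (resRam p M) * (ρ₂ g).map (resRam p M) = 1 := fun g => by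
    rw [← Matrix.map_mul, ← map_mul, inv_mul_cancel, map_one, Matrix.map_one _ (map_zero _) (map_one _)]
  have hadx : adPair ρ₁ ρ₂ x = (adX : Module.End 𝕜 WMat) := by
    rw [adPair, hx₁, show (ρ₂ x⁻¹).map (resRam p M) = tmat (-1) from
      left_inv_eq_right_inv (hinv x) (hx₂ ▸ tmat_one_mul_neg)]
    rfl
  have hady : adPair ρ₁ ρ₂ y = adY c0 rr := by
    have h1 : (ρ₂ y⁻¹).map (resRam p M) = c₂⁻¹ • mmat rr⁻¹ := by
      refine left_inv_eq_right_inv (hinv y) ?_
      rw [hy₂, smul_mul_smul_comm, mul_inv_cancel₀ hc₂, mmat_mul_inv hrr0, one_smul]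
    rw [adPair, hy₁, h1]
    refine LinearMap.ext fun f => ?_
    show (c₁ • (mmat rr : WMat)) * (f * (c₂⁻¹ • (mmat rr⁻¹ : WMat))) = c0 • ((mmat rr : WMat) * (f * mmat rr⁻¹))
    rw [mul_smul_comm, smul_mul_smul_comm]
  have hone : ∀ g (w' : Fin n → 𝕜), overRes σ g⁻¹ (overRes σ g w') = w' := fun g w' => by
    rw [← Module.End.mul_apply, ← map_mul, inv_mul_cancel, map_one, Module.End.one_apply]
  have hfixY : ∀ h, h ∈ fixRes u y ↔ toHom c n h ∈ interSp Yv (adY c0 rr) := by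
    intro h
    rw [fixRes, mem_ker_sub_one]
    constructor
    · intro hh
      refine LinearMap.ext fun v' => ?_
      have h3 := LinearMap.congr_fun (congrArg (toHom c n) hh) (Yv v')
      rw [toHom_act, hady, hYv, hone] at h3
      exact h3
    · intro hh
      refine (toHom c n).injective (LinearMap.ext fun v' => ?_)
      rw [toHom_act, hady, interSp_apply hh, hYv, ← Module.End.mul_apply, ← map_mul, mul_inv_cancel,
        map_one, Module.End.one_apply]
  have hfixX : ∀ h ∈ fixRes u x, toHom c n h ∈ interSp Xv (adX : Module.End 𝕜 WMat) := by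
    intro h hh
    rw [fixRes, mem_ker_sub_one] at hh
    refine LinearMap.ext fun v' => ?_
    have h3 := LinearMap.congr_fun (congrArg (toHom c n) hh) (Xv v')
    rw [toHom_act, hadx, hXv, hone] at h3
    exact h3
  have hXp : Xv ^ p = 1 := by rw [hXv, ← map_pow, D.pow_p, map_one]
  have hrangeX : ∀ (m : ℕ) (h : Fin n × (Fin (c + 1) × Fin (c + 1)) → 𝕜), toHom c n (((overRes u x - 1) ^ m) h) =
      ((homAct Xv (adX : Module.End 𝕜 WMat) p - 1) ^ m) (toHom c n h) := by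
    intro m
    induction m with
    | zero => intro h; rfl
    | succ m ih =>
      intro h
      rw [pow_succ', pow_succ', Module.End.mul_apply, Module.End.mul_apply, ← ih, LinearMap.sub_apply,
        LinearMap.sub_apply, Module.End.one_apply, Module.End.one_apply, map_sub]
      congr 1
      refine LinearMap.ext fun v' => ?_
      rw [toHom_act, hadx, homAct_apply, hXv, ← map_pow, show x⁻¹ = x ^ (p - 1) from
        inv_eq_of_mul_eq_one_right (by rw [← pow_succ', Nat.sub_add_cancel hpf.out.one_le, D.pow_p])]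
  have hcomm : Yv * dop 𝕜 p Xv = rr • (dop 𝕜 p Xv * Yv) :=
    mul_dop hXp D.r_ne_zero (by rw [hXv, hYv, ← map_pow, ← map_mul, ← map_mul, D.mul_x])
  have hn' : f * p + a = Module.finrank 𝕜 (Fin n → 𝕜) := by rw [Module.finrank_fin_fun]; exact hn
  -- eigenvalues
  have hpowe : ∀ (b : Fin n → 𝕜) (l : 𝕜), b ≠ 0 → Yv b = l • b → l ^ e = c0 ^ e := by
    intro b l hb hbl
    have hYe : ((overRes σ y⁻¹) ^ e : Module.End 𝕜 (Fin n → 𝕜)) b = (l ^ e)⁻¹ • b := by
      have hl : l ≠ 0 := fun h => hb (by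
        rw [← hone y b, ← hYv, hbl, h, zero_smul, map_zero])
      have h1 : overRes σ y⁻¹ b = l⁻¹ • b := by
        conv_rhs => rw [← hone y b, ← hYv, hbl, map_smul, smul_smul, inv_mul_cancel₀ hl, one_smul]
      have h2' : ∀ m : ℕ, ((overRes σ y⁻¹) ^ m : Module.End 𝕜 (Fin n → 𝕜)) b = (l ^ m)⁻¹ • b := fun m => by
        induction m with
        | zero => simp
        | succ m ih =>
          rw [pow_succ', Module.End.mul_apply, ih, map_smul, h1, smul_smul, ← mul_inv, pow_succ]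
      exact h2' e
    obtain ⟨φ, hφ⟩ : ∃ φ : (Fin n → 𝕜) →ₗ[𝕜] 𝕜, φ b = 1 := by
      obtain ⟨g, hg⟩ := LinearMap.exists_extend
        ((LinearEquiv.toSpanNonzeroSingleton 𝕜 _ b hb).symm.toLinearMap)
      refine ⟨g, ?_⟩
      have h1 := LinearMap.congr_fun hg ⟨b, Submodule.mem_span_singleton_self b⟩
      rw [LinearMap.comp_apply, Submodule.subtype_apply, LinearEquiv.coe_coe] at h1
      rw [h1, LinearEquiv.symm_apply_eq]
      exact Subtype.ext (one_smul 𝕜 b).symm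
    set Ψ : (Fin n → 𝕜) →ₗ[𝕜] WMat := φ.smulRight (1 : WMat) with hΨ
    have hpowact : ∀ (m : ℕ) h, toHom c n (overRes u (y ^ m) h) b =
        ((adY c0 rr) ^ m : Module.End 𝕜 WMat) (toHom c n h (((overRes σ y⁻¹) ^ m : Module.End 𝕜 (Fin n → 𝕜)) b)) := by
      intro m h
      rw [toHom_act, ← map_pow, inv_pow]
      congr 1
      clear h
      induction m with
      | zero =>
        refine LinearMap.ext fun f => ?_
        simp [adPair]
      | succ m ih =>
        rw [pow_succ (adY c0 rr), ← ih, ← hady]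
        refine LinearMap.ext fun f => ?_
        show (ρ₁ (y ^ (m + 1))).map _ * (f * (ρ₂ (y ^ (m + 1))⁻¹).map _) =
          (ρ₁ (y ^ m)).map (resRam p M) * (((ρ₁ y).map (resRam p M) * (f * (ρ₂ y⁻¹).map (resRam p M))) *
            (ρ₂ (y ^ m)⁻¹).map (resRam p M))
        rw [pow_succ, _root_.mul_inv_rev, map_mul, map_mul, Matrix.map_mul, Matrix.map_mul]
        simp only [mul_assoc]
    have h3 := hpowact e ((toHom c n).symm Ψ)
    rw [show overRes u (y ^ e) = 1 by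
      refine LinearMap.ext fun v' => ?_
      rw [overRes_apply, hu, hz _ D.pow_mem, Matrix.map_one _ (map_zero _) (map_one _), one_mulVec,
        Module.End.one_apply], Module.End.one_apply, LinearEquiv.apply_symm_apply, hYe, map_smul,
      map_smul] at h3
    have h4 : (adY c0 rr ^ e) (1 : WMat) = c0 ^ e • 1 := by
      have h5 : ∀ m : ℕ, (adY c0 rr ^ m) (1 : WMat) = c0 ^ m • 1 := fun m => by
        induction m with
        | zero => simp
        | succ m ih =>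
          rw [pow_succ', Module.End.mul_apply, ih, map_smul]
          show c0 ^ m • (c0 • ((mmat rr : WMat) * (1 * mmat rr⁻¹))) = _
          rw [one_mul, mmat_mul_inv hrr0, smul_smul, pow_succ]
      exact h5 e
    simp only [hΨ, LinearMap.smulRight_apply, hφ, one_smul, h4, smul_smul] at h3
    have h6 := congrFun (congrFun h3 0) 0
    simp only [Matrix.smul_apply, Matrix.one_apply_eq, smul_eq_mul, mul_one] at h6
    exact (inv_mul_eq_one₀ (fun h => by rw [h, _root_.inv_zero, zero_mul] at h6; exact one_ne_zero h6)).mp h6.symm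
  obtain ⟨b, hb1, hb2⟩ := exists_basis hn' hspan
  have hμe : ∀ i, μ i ^ e = c0 ^ e := fun i => hpowe _ _
    (fun h => b.ne_zero (Sum.inl (i, ⟨0, hpf.out.pos⟩)) (by rw [hb1, pow_zero, Module.End.one_apply, h]))
    (hv i)
  have hγe : γ ^ e = c0 ^ e := hpowe _ _
    (fun h => b.ne_zero (Sum.inr ⟨0, ha⟩) (by rw [hb2, pow_zero, Module.End.one_apply, h])) hw
  refine ⟨hγe, fun S hS => ?_⟩
  -- the fixed space of `y`
  have hrankY : Module.finrank (ramField p) (fixOne u y) =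
      ∑ i, ∑ j ∈ range p, Module.finrank 𝕜 (wSp (c := c) c0 rr (μ i * rr ^ j)) +
        ∑ j ∈ range a, Module.finrank 𝕜 (wSp (c := c) c0 rr (γ * rr ^ j)) := by
    rw [← finrank_fixY_red hM D u hz]
    have h1 : Module.finrank 𝕜 (fixRes u y) =
        Module.finrank 𝕜 ((fixRes u y).map (toHom c n).toLinearMap) :=
      (LinearEquiv.finrank_map_eq (toHom c n) _).symm
    rw [h1, show (fixRes u y).map (toHom c n).toLinearMap = interSp Yv (adY c0 rr) from
      Submodule.ext fun Φ => ⟨fun ⟨h, hh, he⟩ => he ▸ (hfixY h).mp hh,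
        fun hΦ => ⟨(toHom c n).symm Φ, (hfixY _).mpr (by rwa [LinearEquiv.apply_symm_apply]),
          (toHom c n).apply_symm_apply Φ⟩⟩]
    exact finrank_interSp hcomm hn' hv hw hspan
  -- the traces
  have htop : Module.finrank 𝕜 (LinearMap.range ((overRes u x - 1) ^ (p - 1)) ⊓
      (fixRes u x ⊓ fixRes u y) : Submodule 𝕜 _) ≤ ∑ i, Module.finrank 𝕜 (wSp (c := c) c0 rr (μ i)) + S := by
    have hle := finrank_homTop_le (Yw := adY c0 rr) h2 hXp (adX_pow_p (k := 𝕜) (c := c) (p := p)) hn' hv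
      hw hwa hspan
    refine (le_trans ?_ hle).trans (Nat.add_le_add_left hS _)
    rw [← LinearEquiv.finrank_map_eq (toHom c n)]
    refine Submodule.finrank_mono ?_
    rintro _ ⟨h, ⟨⟨h', rfl⟩, hfx, hfy⟩, rfl⟩
    refine ⟨⟨toHom c n h', (hrangeX _ _).symm⟩, hfixX _ hfx, (hfixY _).mp hfy⟩
  have hN := finrank_fixN_le hM D u hz
  -- the identity over the field
  have hid : e * Module.finrank (ramField p) (fixOne u x ⊓ fixOne u y : Submodule _ _) + n * (c + 1) ^ 2 =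
      e * Module.finrank (ramField p) (fixOne u y) + Module.finrank (ramField p) (fixOne u x) := by
    have h1 := finrank_fixN D u hz
    have h2' := finrank_fixY D u hz
    have h3 : (Module.finrank (ramField p) (fixOne u x) : ℂ) =
        (p : ℂ)⁻¹ * ∑ i : ZMod p, ((u (x ^ i.val)).trace : ℂ) := by
      have h := finrank_fix (T := overK u x) (n := p) (Nat.cast_ne_zero.mpr hpf.out.ne_zero)
        (by rw [← map_pow, D.pow_p, map_one])
      have h' := congrArg (fun z : ramField p => (z : ℂ)) h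
      push_cast at h'
      unfold fixOne
      rw [h', ← sum_range_eq_zmod (fun i => ((u (x ^ i)).trace : ℂ))]
      congr 1
      exact Finset.sum_congr rfl fun i _ => by rw [← map_pow]; exact trace_overK u _
    have h4 : ∀ l, 0 < l → l < e → ∀ i : ZMod p,
        ((u (x ^ i.val * y ^ l)).trace : ℂ) = ((u (y ^ l)).trace : ℂ) := by
      intro l hl0 hl i
      have hne : (1 : ZMod p) - r ^ l ≠ 0 := sub_ne_zero.mpr fun h =>
        D.prim.pow_ne_one_of_pos_of_lt hl0.ne' hl h.symm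
      set j : ZMod p := i * (1 - r ^ l)⁻¹ with hj
      have hconj : x ^ j.val * y ^ l * (x ^ j.val)⁻¹ = x ^ i.val * y ^ l := by
        have h5 : y ^ l * (x ^ j.val)⁻¹ = (x ^ (r ^ l * j).val)⁻¹ * y ^ l := by
          have h6 : y ^ l * x ^ j.val * (y ^ l)⁻¹ = x ^ (r ^ l * j).val := by
            rw [← conj_pow, D.conj_pow_l, ← pow_mul, ZMod.val_mul (r ^ l) j, ← pow_eq_pow_mod _ D.pow_p]
          rw [← h6]
          group
        rw [mul_assoc, h5, ← mul_assoc]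
        congr 1
        rw [mul_inv_eq_iff_eq_mul, ← pow_add, pow_eq_pow_mod (i.val + _) D.pow_p, ← ZMod.val_add]
        congr 2
        rw [hj]
        field_simp
        ring
      rw [← hconj, map_mul, map_mul, Matrix.trace_mul_comm, ← mul_assoc, ← map_mul, inv_mul_cancel,
        map_one, one_mul]
    have hd : ((u 1).trace : ℂ) = ((n * (c + 1) ^ 2 : ℕ) : ℂ) := by
      rw [map_one, Matrix.trace_one, Fintype.card_prod, Fintype.card_prod, Fintype.card_fin, Fintype.card_fin,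
        sq]
      push_cast
      rfl
    obtain ⟨e', rfl⟩ := Nat.exists_eq_succ_of_ne_zero he0
    rw [Finset.sum_congr rfl fun i _ => Finset.sum_range_succ' _ _] at h1
    rw [Finset.sum_range_succ'] at h2'
    simp only [pow_zero, mul_one] at h1
    rw [Finset.sum_add_distrib, Finset.sum_comm] at h1
    rw [Finset.sum_congr rfl fun l hl => Finset.sum_congr rfl fun i _ =>
      h4 (l + 1) (Nat.succ_pos l) (Nat.succ_lt_succ (mem_range.mp hl)) i] at h1
    simp only [Finset.sum_const, Finset.card_univ, ZMod.card, nsmul_eq_mul, ← Finset.mul_sum] at h1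
    rw [pow_zero, hd] at h2'
    have hp0 : (p : ℂ) ≠ 0 := Nat.cast_ne_zero.mpr hpf.out.ne_zero
    have he1 : ((e' + 1 : ℕ) : ℂ) ≠ 0 := Nat.cast_ne_zero.mpr he0
    exact Nat.cast_injective (R := ℂ) (by
      push_cast at h1 h2' h3 he1 ⊢
      rw [h1, h2', h3]
      field_simp
      ring)
  -- the count
  have hdiv : (p - 1) / e * e = p - 1 := Nat.div_mul_cancel D.dvd_pred
  set t := (p - 1) / e with ht
  have hfull : ∀ i, ∑ j ∈ range p, Module.finrank 𝕜 (wSp (c := c) c0 rr (μ i * rr ^ j)) =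
      t * (c + 1) ^ 2 + Module.finrank 𝕜 (wSp (c := c) c0 rr (μ i)) := by
    intro i
    rw [show p = t * e + 1 by have := hpf.out.one_le; omega, Finset.sum_range_succ', pow_zero, mul_one,
      Finset.sum_congr rfl fun j _ => by rw [pow_succ', ← mul_assoc],
      sum_finrank_wSp hc0 hr' he0 (by rw [mul_pow, hr'.pow_eq_one, mul_one, hμe]) t]
  rw [Finset.sum_congr rfl fun i _ => hfull i, Finset.sum_add_distrib, Finset.sum_const, Finset.card_univ,
    Fintype.card_fin, smul_eq_mul] at hrankY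
  have hN' := hN.trans (Nat.add_le_add_left htop _)
  set sμ := ∑ i, Module.finrank 𝕜 (wSp (c := c) c0 rr (μ i))
  set sa := ∑ j ∈ range a, Module.finrank 𝕜 (wSp (c := c) c0 rr (γ * rr ^ j))
  have h5 := Nat.mul_le_mul_left e hN'
  rw [hrankY] at hid
  simp only [mul_add] at h5 hid ⊢
  omega

include hM in
/-- The bound for a short block of length `e`. -/
theorem rank_plus (D : NData p e x y r) (h2 : p ≠ 2)
    (ρ₁ ρ₂ : L →* Matrix (Fin (c + 1)) (Fin (c + 1)) (ram p M))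
    (σ : L →* Matrix (Fin n) (Fin n) (ram p M)) {c₁ c₂ : 𝕜} (hc₁ : c₁ ≠ 0) (hc₂ : c₂ ≠ 0)
    (hx₁ : (ρ₁ x).map (resRam p M) = tmat 1) (hx₂ : (ρ₂ x).map (resRam p M) = tmat 1)
    (hy₁ : (ρ₁ y).map (resRam p M) = c₁ • mmat (castK 𝕜 p r))
    (hy₂ : (ρ₂ y).map (resRam p M) = c₂ • mmat (castK 𝕜 p r))
    (hz : ∀ z ∈ Subgroup.center L, homRep (homRep ρ₁ ρ₂) σ z = 1) (hd : c + 1 + e = p) (h3 : 3 * e ≤ p + 1)
    {f : ℕ} {v : Fin f → Fin n → 𝕜} {μ : Fin f → 𝕜} {w : Fin n → 𝕜} {γ : 𝕜}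
    (hn : f * p + e = n) (hv : ∀ i, overRes σ y (v i) = μ i • v i) (hw : overRes σ y w = γ • w)
    (hwa : (dop 𝕜 p (overRes σ x) ^ e) w = 0)
    (hspan : cyc (dop 𝕜 p (overRes σ x)) w e ⊔ ⨆ i, cyc (dop 𝕜 p (overRes σ x)) (v i) p = ⊤) :
    Module.finrank (ramField p) (fixOne (homRep (homRep ρ₁ ρ₂) σ) x) ≤
      e * Module.finrank (ramField p) (fixG (homRep (homRep ρ₁ ρ₂) σ)) + e * (c + 1 - e) +
        f * (c + 1) ^ 2 := by
  obtain ⟨hγ, h⟩ := rank_general hM D h2 ρ₁ ρ₂ σ hc₁ hc₂ hx₁ hx₂ hy₁ hy₂ hz (a := e)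
    (Nat.pos_of_ne_zero D.e_ne_zero) hn hv hw hwa hspan
  have hc0 : c₁ * c₂⁻¹ ≠ 0 := mul_ne_zero hc₁ (inv_ne_zero hc₂)
  have hr' : IsPrimitiveRoot (castK 𝕜 p r) e := D.prim.map_of_injective (castK 𝕜 p).injective
  have hγ0 : γ ≠ 0 := fun h => by
    rw [h, zero_pow D.e_ne_zero] at hγ
    exact pow_ne_zero _ hc0 hγ.symm
  have h1 := h _ (finrank_top_le h2 D.r_ne_zero hr' hd h3 hγ0)
  have h4 := sum_finrank_wSp (c := c) hc0 hr' D.e_ne_zero hγ 1
  rw [one_mul, one_mul] at h4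
  rw [h4] at h1
  obtain ⟨t, ht⟩ := D.dvd_pred
  rw [ht, Nat.mul_div_cancel_left t (Nat.pos_of_ne_zero D.e_ne_zero)] at h1
  have h5 : p = e * t + 1 := by have := hpf.out.one_le; omega
  have hprod : n * (c + 1) ^ 2 = f * (e * t + 1) * (c + 1) ^ 2 + e * (c + 1) ^ 2 := by
    rw [← h5, ← add_mul, hn]
  linarith

include hM in
/-- The bound for a short block of length `p - e`. -/
theorem rank_minus (D : NData p e x y r) (h2 : p ≠ 2)
    (ρ₁ ρ₂ : L →* Matrix (Fin (c + 1)) (Fin (c + 1)) (ram p M))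
    (σ : L →* Matrix (Fin n) (Fin n) (ram p M)) {c₁ c₂ : 𝕜} (hc₁ : c₁ ≠ 0) (hc₂ : c₂ ≠ 0)
    (hx₁ : (ρ₁ x).map (resRam p M) = tmat 1) (hx₂ : (ρ₂ x).map (resRam p M) = tmat 1)
    (hy₁ : (ρ₁ y).map (resRam p M) = c₁ • mmat (castK 𝕜 p r))
    (hy₂ : (ρ₂ y).map (resRam p M) = c₂ • mmat (castK 𝕜 p r))
    (hz : ∀ z ∈ Subgroup.center L, homRep (homRep ρ₁ ρ₂) σ z = 1) (hd : c + 1 + e = p) (hec : e ≤ c + 1)
    {f : ℕ} {v : Fin f → Fin n → 𝕜} {μ : Fin f → 𝕜} {w : Fin n → 𝕜} {γ : 𝕜}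
    (hn : f * p + (p - e) = n) (hv : ∀ i, overRes σ y (v i) = μ i • v i) (hw : overRes σ y w = γ • w)
    (hwa : (dop 𝕜 p (overRes σ x) ^ (p - e)) w = 0)
    (hspan : cyc (dop 𝕜 p (overRes σ x)) w (p - e) ⊔ ⨆ i, cyc (dop 𝕜 p (overRes σ x)) (v i) p = ⊤) :
    e * (c + 1 - e / 2) + Module.finrank (ramField p) (fixOne (homRep (homRep ρ₁ ρ₂) σ) x) ≤
      e * Module.finrank (ramField p) (fixG (homRep (homRep ρ₁ ρ₂) σ)) + (f + 1) * (c + 1) ^ 2 := by
  obtain ⟨hγ, h⟩ := rank_general hM D h2 ρ₁ ρ₂ σ hc₁ hc₂ hx₁ hx₂ hy₁ hy₂ hz (a := p - e)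
    (by omega) hn hv hw hwa hspan
  have hc0 : c₁ * c₂⁻¹ ≠ 0 := mul_ne_zero hc₁ (inv_ne_zero hc₂)
  have hr' : IsPrimitiveRoot (castK 𝕜 p r) e := D.prim.map_of_injective (castK 𝕜 p).injective
  have h0 := h _ (Submodule.finrank_mono (inf_le_inf_left _ inf_le_right))
  rw [Nat.sub_sub_self D.e_lt.le] at h0
  have hbot := finrank_bot_le (c := c) (p := p) h2 D.r_ne_zero hr' hc0 D.two_le hec
    (by rw [Ne, CharP.cast_eq_zero_iff 𝕜 p]; exact D.not_dvd_e) hγ
  obtain ⟨t, ht⟩ := D.dvd_pred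
  rw [ht, Nat.mul_div_cancel_left t (Nat.pos_of_ne_zero D.e_ne_zero)] at h0
  have h5 : p = e * t + 1 := by have := hpf.out.one_le; omega
  obtain ⟨t', rfl⟩ : ∃ t', t = t' + 1 := Nat.exists_eq_succ_of_ne_zero fun h => by
    rw [h, mul_zero] at h5
    have := hpf.out.two_le
    omega
  have ha : p - e = t' * e + 1 := by
    rw [Nat.mul_succ, mul_comm e t'] at h5
    omega
  have hp' : (γ * castK 𝕜 p r) ^ e = (c₁ * c₂⁻¹) ^ e := by rw [mul_pow, hr'.pow_eq_one, mul_one, hγ]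
  have h4 := sum_finrank_wSp (c := c) hc0 hr' D.e_ne_zero hp' t'
  rw [Finset.sum_congr rfl fun j _ => by rw [mul_assoc, ← pow_succ']] at h4
  have h6 : n = f * p + (t' * e + 1) := by rw [← hn, ha]
  rw [ha, Finset.sum_range_succ', pow_zero, mul_one, h4] at h0
  have hprod : n * (c + 1) ^ 2 =
      f * (e * (t' + 1) + 1) * (c + 1) ^ 2 + (t' * e + 1) * (c + 1) ^ 2 := by
    rw [← h5, ← add_mul, h6]
  set R := Module.finrank 𝕜 (LinearMap.range (adT 𝕜 c p ^ e) ⊓
    wSp (c₁ * c₂⁻¹) (castK 𝕜 p r) γ : Submodule 𝕜 WMat)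
  set Wγ := Module.finrank 𝕜 (wSp (c := c) (c₁ * c₂⁻¹) (castK 𝕜 p r) γ)
  have h7 := Nat.mul_le_mul_left e hbot
  linarith

end CfsgLib.Char.SmallDegree
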