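import Cfsg.Agent.Lib.Char.Scalar
import Cfsg.Agent.Lib.Char.Integrality
import Cfsg.Agent.S4503
import Mathlib.GroupTheory.SchurZassenhaus

/-!
# Perfect groups with a Sylow subgroup of prime order
-/

set_option autoImplicit false
set_option linter.unusedSectionVars false

namespace CfsgLib.Char.SmallDegree

open Cfsg CfsgLib.Char

universe u

variable {p : ℕ} [hpf : Fact p.Prime] {L : Type u} [Group L]

/-- In a perfect group a Sylow subgroup of prime order is not normal. -/
theorem not_normal_of_perfect [Finite L] (hperf : commutator L = ⊤) (hsq : ¬ p ^ 2 ∣ Nat.card L)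
    (H : Subgroup L) [H.Normal] : Nat.card H ≠ p := by
  intro hH
  haveI : IsCyclic H := isCyclic_of_prime_card hH
  have hcomm : ∀ σ τ : MulAut H, σ * τ = τ * σ := by
    intro σ τ
    obtain ⟨m, hm⟩ := MonoidHom.map_cyclic σ.toMonoidHom
    obtain ⟨n, hn⟩ := MonoidHom.map_cyclic τ.toMonoidHom
    ext h
    simp only [MulEquiv.coe_toMonoidHom] at hm hn
    rw [MulAut.mul_apply, MulAut.mul_apply, hn h, hm (h ^ n), hm h, hn (h ^ m), ← zpow_mul, ← zpow_mul,
      mul_comm]
  have htriv : ∀ g : L, MulAut.conjNormal (H := H) g = 1 := by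
    intro g
    have hle : commutator L ≤ (MulAut.conjNormal (H := H)).ker := by
      rw [commutator_def, Subgroup.commutator_le]
      intro a _ b _
      rw [MonoidHom.mem_ker, commutatorElement_def, map_mul, map_mul, map_mul, map_inv, map_inv,
        hcomm (MulAut.conjNormal a) (MulAut.conjNormal b), mul_inv_cancel_right, mul_inv_cancel]
    exact hle (hperf ▸ Subgroup.mem_top g)
  have hcen : ∀ (g : L), ∀ h ∈ H, g * h = h * g := by
    intro g h hh
    have e := congrArg (fun σ : MulAut H => ((σ ⟨h, hh⟩ : H) : L)) (htriv g)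
    simp only [MulAut.conjNormal_apply, MulAut.one_apply] at e
    exact mul_inv_eq_iff_eq_mul.mp e
  have hidx : Nat.Coprime (Nat.card H) H.index := by
    rw [hH, hpf.out.coprime_iff_not_dvd]
    intro hd
    refine hsq ?_
    rw [pow_two, ← H.card_mul_index, hH]
    exact Nat.mul_dvd_mul_left p hd
  obtain ⟨K, hK⟩ := Subgroup.exists_right_complement'_of_coprime hidx
  haveI hKn : K.Normal := ⟨fun k hk g => by
    obtain ⟨⟨h, k'⟩, rfl⟩ := hK.2 g
    show (h : L) * (k' : L) * k * ((h : L) * (k' : L))⁻¹ ∈ K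
    rw [show (h : L) * (k' : L) * k * ((h : L) * (k' : L))⁻¹ =
      (h : L) * ((k' : L) * k * (k' : L)⁻¹) * (h : L)⁻¹ by group,
      ← hcen _ h h.2, mul_inv_cancel_right]
    exact mul_mem (mul_mem k'.2 hk) (inv_mem k'.2)⟩
  have hKi : K.index = p := by rw [hK.index_eq_card, hH]
  haveI : IsCyclic (L ⧸ K) := isCyclic_of_prime_card (p := p) hKi
  have hle : commutator L ≤ K :=
    Subgroup.Normal.quotient_commutative_iff_commutator_le.mp inferInstance
  rw [hperf, top_le_iff] at hle
  rw [hle, Subgroup.index_top] at hKi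
  exact hpf.out.one_lt.ne hKi

/-- A small representation of a perfect group is trivial on an element of order `p`. -/
theorem trivial_of_small [Finite L] (hperf : commutator L = ⊤) (hsq : ¬ p ^ 2 ∣ Nat.card L) {x : L}
    (hx : orderOf x = p) {n : ℕ} (ρ : Representation ℂ L (Fin n → ℂ)) (hn : 2 * n + 1 < p) :
    ρ x = 1 := by
  by_contra hne
  set u := ρ.toHomUnits with hu
  set σ : Representation ℂ (L ⧸ u.ker) (Fin n → ℂ) :=
    (Units.coeHom _).comp (QuotientGroup.kerLift u) with hσ
  have hinj : Function.Injective σ := Units.val_injective.comp (QuotientGroup.kerLift_injective u)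
  have hqx : orderOf (x : L ⧸ u.ker) = p := by
    refine orderOf_eq_prime ?_ ?_
    · rw [← QuotientGroup.mk_pow, ← hx, pow_orderOf_eq_one, QuotientGroup.mk_one]
    · rw [Ne, QuotientGroup.eq_one_iff, MonoidHom.mem_ker]
      exact fun h => hne (congrArg Units.val h)
  have hdvd : Nat.card (L ⧸ u.ker) ∣ Nat.card L := Subgroup.card_quotient_dvd_card _
  have hperf' : commutator (L ⧸ u.ker) = ⊤ := by
    rw [commutator_def, ← Subgroup.map_top_of_surjective (QuotientGroup.mk' u.ker)
      (QuotientGroup.mk'_surjective _), ← Subgroup.map_commutator, ← commutator_def, hperf]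
  have hsq' : ¬ p ^ 2 ∣ Nat.card (L ⧸ u.ker) := fun h => hsq (h.trans hdvd)
  have h := Cfsg.Agent.S4503.result p hpf.out (hqx ▸ orderOf_dvd_natCard _) hsq'
    (fun H hH => haveI := hH; not_normal_of_perfect hperf' hsq' H) σ.character ⟨n, σ, rfl⟩ ?_
  · have hd : charDegree σ.character = n := by
      simp [charDegree, Representation.char_one]
    omega
  intro g hg
  apply hinj
  obtain ⟨ω, hω⟩ := (norm_char_eq_iff σ g).mp (by
    rw [hg, Representation.char_one, Complex.norm_natCast])
  have h1 : σ.character g = ω * (Module.finrank ℂ (Fin n → ℂ) : ℂ) := by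
    show LinearMap.trace ℂ _ (σ g) = _
    rw [hω, trace_smul_id]
  rw [hg, Representation.char_one] at h1
  rcases Nat.eq_zero_or_pos n with rfl | hn0
  · exact Subsingleton.elim _ _
  have hne' : (Module.finrank ℂ (Fin n → ℂ) : ℂ) ≠ 0 := by
    rw [Module.finrank_fin_fun]; exact Nat.cast_ne_zero.mpr hn0.ne'
  have hw : ω = 1 := mul_right_cancel₀ hne' (h1.symm.trans (one_mul _).symm)
  rw [hω, hw, one_smul, map_one, Module.End.one_eq_id]

end CfsgLib.Char.SmallDegree
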