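import Cfsg.Agent.Lib.Char.SmallDegree.Count
import Cfsg.Agent.Lib.Char.SmallDegree.Image
import Cfsg.Agent.Lib.Char.CliffordOdd
import Cfsg.Agent.Lib.Char.SquareChar

/-!
# Comparison of a family with the product of two small characters
-/

set_option autoImplicit false
set_option linter.unusedSectionVars false

namespace CfsgLib.Char.SmallDegree

open Cfsg CfsgLib.Block CfsgLib.Block.Cyclic CfsgLib.Char Finset
open scoped ComplexConjugate

universe u

variable {p : ℕ} [hpf : Fact p.Prime] {L : Type u} [Group L] [Fintype L] {e d t : ℕ}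
  {x y : L} {r : ZMod p}

theorem card_coset_filter (hr : IsPrimitiveRoot r e) (he : e ≠ 0) (a : (ZMod p)ˣ) :
    (univ.filter fun v : (ZMod p)ˣ => ∃ l < e, (v : ZMod p) = (a : ZMod p) * r ^ l).card = e := by
  classical
  set ru : (ZMod p)ˣ := Units.mk0 r (hr.ne_zero he) with hru
  have h : (univ.filter fun v : (ZMod p)ˣ => ∃ l < e, (v : ZMod p) = (a : ZMod p) * r ^ l) =
      (range e).image fun l => a * ru ^ l := by
    ext v
    simp only [mem_filter, mem_univ, true_and, mem_image, mem_range]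
    constructor
    · rintro ⟨l, hl, hv⟩
      exact ⟨l, hl, Units.ext (by rw [Units.val_mul, Units.val_pow_eq_pow_val, hru, Units.val_mk0, hv])⟩
    · rintro ⟨l, hl, rfl⟩
      exact ⟨l, hl, by rw [Units.val_mul, Units.val_pow_eq_pow_val, hru, Units.val_mk0]⟩
  rw [h, card_image_of_injOn, card_range]
  intro l hl l' hl' heq
  simp only [coe_range, Set.mem_Iio] at hl hl'
  have h1 := congrArg Units.val (mul_left_cancel heq)
  rw [Units.val_pow_eq_pow_val, Units.val_pow_eq_pow_val, hru, Units.val_mk0] at h1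
  exact hr.pow_inj hl hl' h1

theorem zeroPairs_self (hr : IsPrimitiveRoot r e) {a : ZMod p} (ha : a ≠ 0) :
    zeroPairs r e a a = e := by
  classical
  unfold zeroPairs
  rw [show ((range e ×ˢ range e).filter fun q => a * r ^ q.1 - a * r ^ q.2 = 0) =
    (range e).image fun l => (l, l) from ?_, card_image_of_injective _ fun a b h => congrArg Prod.fst h,
    card_range]
  ext ⟨l, l'⟩
  simp only [mem_filter, mem_product, mem_range, mem_image, Prod.mk.injEq]
  constructor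
  · rintro ⟨⟨hl, hl'⟩, h⟩
    exact ⟨l, hl, rfl, hr.pow_inj hl hl' (mul_left_cancel₀ ha (sub_eq_zero.mp h))⟩
  · rintro ⟨a', ha', rfl, rfl⟩
    exact ⟨⟨ha', ha'⟩, sub_self _⟩

theorem zeroPairs_cases (hr : IsPrimitiveRoot r e) {a₁ a₂ : ZMod p} (ha : a₂ ≠ 0) :
    zeroPairs r e a₁ a₂ = 0 ∨ zeroPairs r e a₁ a₂ = e := by
  classical
  rcases Nat.eq_zero_or_pos (zeroPairs r e a₁ a₂) with h | h
  · exact Or.inl h
  right
  obtain ⟨⟨m₁, m₂⟩, hm⟩ := card_pos.mp h
  simp only [mem_filter, mem_product, mem_range] at hm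
  have he : e ≠ 0 := by omega
  have hr0 : r ≠ 0 := hr.ne_zero he
  have hmod : ∀ k : ℕ, r ^ (k % e) = r ^ k := fun k => by
    conv_rhs => rw [← Nat.div_add_mod k e, pow_add, pow_mul, hr.pow_eq_one, one_pow, one_mul]
  set j := m₂ + (e - m₁) with hj
  have ha1 : a₁ = a₂ * r ^ j := by
    refine mul_right_cancel₀ (pow_ne_zero m₁ hr0) ?_
    rw [mul_assoc, ← pow_add, show j + m₁ = m₂ + e by omega, pow_add, hr.pow_eq_one, mul_one]
    exact sub_eq_zero.mp hm.2
  unfold zeroPairs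
  rw [show ((range e ×ˢ range e).filter fun q => a₁ * r ^ q.1 - a₂ * r ^ q.2 = 0) =
    (range e).image fun l => (l, (j + l) % e) from ?_, card_image_of_injective _ fun a b h => congrArg Prod.fst h,
    card_range]
  ext ⟨l, l'⟩
  simp only [mem_filter, mem_product, mem_range, mem_image, Prod.mk.injEq, ha1, mul_assoc, ← pow_add,
    sub_eq_zero]
  constructor
  · rintro ⟨⟨hl, hl'⟩, h⟩
    refine ⟨l, hl, rfl, hr.pow_inj (Nat.mod_lt _ (Nat.pos_of_ne_zero he)) hl' ?_⟩
    rw [hmod]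
    exact mul_left_cancel₀ ha h
  · rintro ⟨a', ha', rfl, rfl⟩
    exact ⟨⟨ha', Nat.mod_lt _ (Nat.pos_of_ne_zero he)⟩, by rw [hmod]⟩

variable (D : NData p e x y r)

include D in
theorem Fam.sum_image {lam : L → ℂ} (F : Fam x r e lam) (R : IrrCharacter L → ℕ)
    [DecidableEq (IrrCharacter L)] :
    ∑ u, R (F.θ u) = e * ∑ θ ∈ univ.image F.θ, R θ := by
  classical
  rw [Finset.sum_comp R F.θ, Finset.mul_sum]
  refine Finset.sum_congr rfl fun θ hθ => ?_
  obtain ⟨a, -, rfl⟩ := mem_image.mp hθ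
  rw [smul_eq_mul]
  congr 1
  conv_rhs => rw [← card_coset_filter D.prim D.e_ne_zero a]
  congr 1
  exact filter_congr fun v _ => by rw [← F.fib a v]; exact eq_comm

variable {χ χ₁ χ₂ : IrrCharacter L} {a a₁ a₂ : ZMod p} {ν ν₁ ν₂ : ℂ} {μ μ₁ μ₂ : L → ℂ} {lam : L → ℂ}

theorem Small.a_ne_zero (h : Small x y r e d χ a ν μ) (D : NData p e x y r) (hde : d + e = p) :
    a ≠ 0 := by
  rintro rfl
  have hp2 := hpf.out.two_le
  have h1 : ∀ i : ZMod p, i ≠ 0 → (χ : L → ℂ) (x ^ i.val) = -(e : ℂ) := fun i hi => by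
    rw [h.val i hi]
    simp
  -- the multiplicity of a non-trivial character would be `(d + e) / p = 1`, so that of `1` is negative
  obtain ⟨n, ρ, hρ, hρχ⟩ := χ.2
  have hfin := finrank_fix (T := ρ x) (n := p) (Nat.cast_ne_zero.mpr hpf.out.ne_zero)
    (by rw [← map_pow, D.pow_p, map_one])
  have hs : ∑ i ∈ range p, LinearMap.trace ℂ _ (ρ x ^ i) = (d : ℂ) - ((p : ℂ) - 1) * e := by
    rw [Finset.sum_congr rfl (g := fun i => ρ.character (x ^ i)) fun i _ => by rw [← map_pow]; rfl,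
      hρχ, sum_range_eq_zmod (fun i => (χ : L → ℂ) (x ^ i)),
      ← Finset.add_sum_erase _ _ (mem_univ (0 : ZMod p)), ZMod.val_zero, pow_zero, h.apply_one,
      Finset.sum_congr rfl fun i hi => h1 i (mem_erase.mp hi).1, Finset.sum_const,
      card_erase_of_mem (mem_univ _), Finset.card_univ, ZMod.card, nsmul_eq_mul,
      Nat.cast_sub (by omega : 1 ≤ p)]
    ring
  rw [hs] at hfin
  have hp : (p : ℂ) = d + e := by exact_mod_cast hde.symm
  have hp0 : (p : ℂ) ≠ 0 := Nat.cast_ne_zero.mpr hpf.out.ne_zero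
  have h2 : (Module.finrank ℂ (LinearMap.ker (ρ x - 1)) : ℂ) + e = 1 := by
    rw [hfin]
    field_simp
    rw [hp]
    ring
  have h3 : Module.finrank ℂ (LinearMap.ker (ρ x - 1)) + e = 1 := by exact_mod_cast h2
  have := D.two_le
  omega

include D in
theorem Small.central_mul (h : Small x y r e d χ a ν μ) {z : L} (hz : z ∈ Subgroup.center L) (g : L) :
    (χ : L → ℂ) (z * g) = μ z * (χ : L → ℂ) g := by
  have h1 := DegreePSubTwo.irr_central_mul (χ := χ) hz g
  rw [h.cen z hz, h.apply_one] at h1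
  refine mul_right_cancel₀ (b := (d : ℂ)) ?_ (by rw [h1]; ring)
  exact Nat.cast_ne_zero.mpr (h.deg ▸ (charDegree_eq χ).2)

include D in
theorem Fam.central_mul (F : Fam x r e lam) (u : (ZMod p)ˣ) {z : L} (hz : z ∈ Subgroup.center L)
    (g : L) : (F.θ u : L → ℂ) (z * g) = lam z * (F.θ u : L → ℂ) g := by
  have h1 := DegreePSubTwo.irr_central_mul (χ := F.θ u) hz g
  rw [F.cen u z hz] at h1
  exact mul_right_cancel₀ (irr_one_ne_zero (F.θ u)) (by rw [h1]; ring)

theorem c_lt (hde : d + e = p) (D : NData p e x y r) (ht : t * e = p - 1) (ht3 : 3 ≤ t) :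
    p ≠ 2 ∧ e ≤ d ∧ 3 * e ≤ p + 1 := by
  have h1 : 3 * e ≤ t * e := Nat.mul_le_mul_right e ht3
  have := D.two_le
  omega

include D in
theorem Small.mult_bound (h₁ : Small x y r e d χ₁ a₁ ν₁ μ₁) (h₂ : Small x y r e d χ₂ a₂ ν₂ μ₂)
    (hde : d + e = p) (ht : t * e = p - 1) (ht3 : 3 ≤ t) (F : Fam x r e lam)
    (hlam : ∀ z ∈ Subgroup.center L, lam z = μ₁ z * conj (μ₂ z)) (u : (ZMod p)ˣ) :
    ∃ R : ℕ, classInner (fun g => (χ₁ : L → ℂ) g * conj ((χ₂ : L → ℂ) g)) (F.θ u : L → ℂ) = R ∧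
      (F.δ = 1 → triples r e a₁ a₂ (u : ZMod p) ≤ e * R) ∧
      (F.δ = -1 → e * (e - e / 2) ≤ e * R + triples r e a₁ a₂ (u : ZMod p)) := by
  classical
  obtain ⟨hp2, hed, h3e⟩ := c_lt hde D ht ht3
  obtain ⟨M, hM⟩ := exists_pModular hpf.out
  haveI := hM.2.1
  set n := charDegree (F.θ u : L → ℂ) with hn
  have hd0 : 0 < d := Nat.pos_of_ne_zero (h₁.deg ▸ (charDegree_eq χ₁).2)
  obtain ⟨c, rfl⟩ := Nat.exists_eq_succ_of_ne_zero hd0.ne'
  obtain ⟨R, X, hR, hX, hplus, hminus⟩ := exists_mult_bound hM D hp2 hde hed χ₁ χ₂ (F.θ u) h₁.deg h₂.deg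
    hn.symm fun z hz => by
      rw [h₁.cen z hz, h₂.cen z hz, F.cen u z hz, hlam z hz, (charDegree_eq (F.θ u)).1, ← hn]
      simp only [map_mul, map_natCast, Complex.conj_conj]
      have e1 : μ₁ z * conj (μ₁ z) = 1 := by rw [Complex.mul_conj', h₁.norm_mu D hz]; simp
      have e2 : μ₂ z * conj (μ₂ z) = 1 := by rw [Complex.mul_conj', h₂.norm_mu D hz]; simp
      linear_combination ((c + 1 : ℕ) : ℂ) * (c + 1 : ℕ) * n * (μ₂ z * conj (μ₂ z)) * e1 +
        ((c + 1 : ℕ) : ℂ) * (c + 1 : ℕ) * n * e2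
  refine ⟨R, hR, ?_⟩
  have hp : (p : ℂ) = ((c + 1 : ℕ) : ℂ) + e := by exact_mod_cast hde.symm
  have hp0 : (p : ℂ) ≠ 0 := Nat.cast_ne_zero.mpr hpf.out.ne_zero
  have hnc : (n : ℂ) = (p : ℂ) * F.m0 + (F.δ : ℂ) * e := by exact_mod_cast F.deg u
  have hXv : (X : ℂ) = ((c + 1 : ℕ) : ℂ) ^ 2 * F.m0 +
      (F.δ : ℂ) * (((e : ℕ) : ℂ) * (((c + 1 : ℕ) : ℂ) - e) + triples r e a₁ a₂ (u : ZMod p)) := by
    rw [hX, ← Finset.add_sum_erase _ _ (mem_univ (0 : ZMod p)), ZMod.val_zero, pow_zero, h₁.apply_one,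
      h₂.apply_one, (charDegree_eq (F.θ u)).1, ← hn,
      Finset.sum_congr rfl (g := fun i => (F.δ : ℂ) * ∑ q ∈ range e ×ˢ range e ×ˢ range e,
        stdPsi p (i * (a₁ * r ^ q.1 - a₂ * r ^ q.2.1 - (u : ZMod p) * r ^ q.2.2))) fun i hi => ?_]
    · simp only [map_natCast]
      rw [← Finset.mul_sum, Finset.sum_comm, Finset.sum_congr rfl fun q _ => sum_stdPsi_erase _,
        Finset.sum_sub_distrib, Finset.sum_ite, Finset.sum_const, Finset.sum_const_zero, Finset.sum_const,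
        add_zero, ← triples, hnc]
      simp only [nsmul_eq_mul, Finset.card_product, card_range]
      field_simp
      rw [hp]
      push_cast
      ring
    · have hi' := (mem_erase.mp hi).1
      rw [h₁.val_prod h₂ hi', F.val u i hi', map_mul, map_intCast, map_sum, mul_left_comm,
        Finset.sum_mul_sum]
      congr 1
      simp only [Finset.sum_product]
      refine Finset.sum_congr rfl fun l _ => Finset.sum_congr rfl fun l' _ =>
        Finset.sum_congr rfl fun l'' _ => ?_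
      rw [conj_stdPsi, ← AddChar.map_add_eq_mul]
      congr 1
      ring
  refine ⟨fun hδ => ?_, fun hδ => ?_⟩
  · rw [hδ] at hXv
    have hnat : n = e + p * F.m0 := by
      have := F.deg u; rw [hδ, ← hn] at this; push_cast at this; omega
    have hmod : n % p = e := by rw [hnat, Nat.add_mul_mod_self_left, Nat.mod_eq_of_lt D.e_lt]
    have hdiv : n / p = F.m0 := by
      rw [hnat, Nat.add_mul_div_left _ _ hpf.out.pos, Nat.div_eq_of_lt D.e_lt, zero_add]
    have hXn : X = (c + 1) ^ 2 * F.m0 + (e * (c + 1 - e) + triples r e a₁ a₂ (u : ZMod p)) := by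
      have : (X : ℂ) = (((c + 1) ^ 2 * F.m0 + (e * (c + 1 - e) + triples r e a₁ a₂ (u : ZMod p)) : ℕ) : ℂ) := by
        rw [hXv]; push_cast [Nat.cast_sub hed]; ring
      exact_mod_cast this
    have h := hplus hmod h3e
    rw [hdiv, hXn] at h
    linarith
  · rw [hδ] at hXv
    have hdeg := F.deg u
    rw [hδ, ← hn] at hdeg
    obtain ⟨m, hm⟩ : ∃ m, F.m0 = m + 1 := Nat.exists_eq_succ_of_ne_zero fun h0 => by
      rw [h0] at hdeg; push_cast at hdeg; have := D.two_le; omega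
    rw [hm] at hdeg hXv
    have hnat : n = (p - e) + p * m := by
      have : (n : ℤ) = ((p : ℤ) - e) + p * m := by rw [hdeg]; push_cast; ring
      have := D.e_lt
      zify [this.le]
      assumption
    have hlt : p - e < p := by have := D.two_le; omega
    have hmod : n % p = p - e := by rw [hnat, Nat.add_mul_mod_self_left, Nat.mod_eq_of_lt hlt]
    have hdiv : n / p = m := by
      rw [hnat, Nat.add_mul_div_left _ _ hpf.out.pos, Nat.div_eq_of_lt hlt, zero_add]
    have hXn : X + (e * (c + 1 - e) + triples r e a₁ a₂ (u : ZMod p)) = (c + 1) ^ 2 * (m + 1) := by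
      have : ((X + (e * (c + 1 - e) + triples r e a₁ a₂ (u : ZMod p)) : ℕ) : ℂ) =
          (((c + 1) ^ 2 * (m + 1) : ℕ) : ℂ) := by
        push_cast [Nat.cast_sub hed]; rw [hXv]; push_cast; ring
      exact_mod_cast this
    have h := hminus hmod
    rw [hdiv] at h
    have hc2 : e * (c + 1 - e / 2) = e * (c + 1 - e) + e * (e - e / 2) := by
      rw [← Nat.mul_add, tsub_add_tsub_cancel hed (Nat.div_le_self e 2)]
    linarith

theorem Small.isChar_prod (_h₁ : Small x y r e d χ₁ a₁ ν₁ μ₁) (_h₂ : Small x y r e d χ₂ a₂ ν₂ μ₂) :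
    IsCharacter L (fun g => (χ₁ : L → ℂ) g * conj ((χ₂ : L → ℂ) g)) :=
  isCharacter_mul (isCharacter_irr χ₁) (isCharacter_conj (isCharacter_irr χ₂))

include D in
/-- The sum of the local bounds. -/
theorem Small.exists_count (h₁ : Small x y r e d χ₁ a₁ ν₁ μ₁) (h₂ : Small x y r e d χ₂ a₂ ν₂ μ₂)
    (hde : d + e = p) (ht : t * e = p - 1) (ht3 : 3 ≤ t) (F : Fam x r e lam)
    (hlam : ∀ z ∈ Subgroup.center L, lam z = μ₁ z * conj (μ₂ z)) :
    ∃ R : IrrCharacter L → ℕ,
      (∀ θ : IrrCharacter L,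
        classInner (fun g => (χ₁ : L → ℂ) g * conj ((χ₂ : L → ℂ) g)) (θ : L → ℂ) = R θ) ∧
      (F.δ = 1 → e * e ^ 2 ≤ e * ∑ u, R (F.θ u) + e * zeroPairs r e a₁ a₂) ∧
      (F.δ = -1 →
        (p - 1) * (e * (e - e / 2)) + e * zeroPairs r e a₁ a₂ ≤ e * ∑ u, R (F.θ u) + e * e ^ 2) := by
  classical
  choose R hR using fun θ : IrrCharacter L => classInner_char_irr_nat (h₁.isChar_prod h₂) θ
  have hloc : ∀ u : (ZMod p)ˣ, (F.δ = 1 → triples r e a₁ a₂ (u : ZMod p) ≤ e * R (F.θ u)) ∧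
      (F.δ = -1 → e * (e - e / 2) ≤ e * R (F.θ u) + triples r e a₁ a₂ (u : ZMod p)) := by
    intro u
    obtain ⟨R', hR', h, h'⟩ := h₁.mult_bound D h₂ hde ht ht3 F hlam u
    have e1 : R' = R (F.θ u) := by exact_mod_cast hR'.symm.trans (hR _)
    exact e1 ▸ ⟨h, h'⟩
  refine ⟨R, hR, fun hδ => ?_, fun hδ => ?_⟩
  · rw [← sum_triples D.r_ne_zero e a₁ a₂, Finset.mul_sum]
    exact Nat.add_le_add_right (Finset.sum_le_sum fun u _ => (hloc u).1 hδ) _
  · rw [← sum_triples D.r_ne_zero e a₁ a₂, ← ZMod.card_units p, ← Finset.card_univ, ← smul_eq_mul,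
      ← Finset.sum_const, Finset.mul_sum, ← add_assoc, ← Finset.sum_add_distrib]
    exact Nat.add_le_add_right (Finset.sum_le_sum fun u _ => (hloc u).2 hδ) _

theorem Fam.m0_pos_of_minus (D : NData p e x y r) (F : Fam x r e lam) (h : F.δ = -1) : 0 < F.m0 := by
  rcases Nat.eq_zero_or_pos F.m0 with h0 | h0
  · have h1 := F.deg 1
    rw [h, h0] at h1
    push_cast at h1
    have := D.two_le
    omega
  · exact h0

include D in
theorem Fam.ne_oneChar (he3 : 3 ≤ e) (ht : t * e = p - 1) (ht3 : 3 ≤ t) (F : Fam x r e lam)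
    (u : (ZMod p)ˣ) : F.θ u ≠ oneChar L := by
  intro h
  have h1 := F.deg u
  have h2 : charDegree (F.θ u : L → ℂ) = 1 := by
    rw [h]; simp [charDegree, oneChar]
  rw [h2] at h1
  have h3 : 3 * e ≤ t * e := Nat.mul_le_mul_right e ht3
  rcases Nat.eq_zero_or_pos F.m0 with h0 | h0
  · rw [h0] at h1
    rcases F.sign with e1 | e1 <;> rw [e1] at h1 <;> push_cast at h1 <;> omega
  · have h4 : (p : ℤ) ≤ p * F.m0 := by exact_mod_cast Nat.le_mul_of_pos_right p h0
    rcases F.sign with e1 | e1 <;> rw [e1] at h1 <;> push_cast at h1 <;> omega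

include D in
theorem Small.exists_prod_weight (h₁ : Small x y r e d χ₁ a₁ ν₁ μ₁) (h₂ : Small x y r e d χ₂ a₂ ν₂ μ₂)
    (hde : d + e = p) (ht : t * e = p - 1) (ht3 : 3 ≤ t) {b : ℂ} (hb : ‖b‖ = 1)
    (hbe : b ^ e = μ₁ (y ^ e) * conj (μ₂ (y ^ e))) :
    ∃ k : ℕ, wt x y p e b (fun g => (χ₁ : L → ℂ) g * conj ((χ₂ : L → ℂ) g)) = (e : ℂ) * k ∧
      (e * k = (t - 2) * e + zeroPairs r e a₁ a₂ + if ν₁ * conj ν₂ * conj b = 1 then e else 0) := by
  have hw := h₁.wt_prod D h₂ hde hb hbe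
  obtain ⟨N, hN⟩ : ∃ N, zeroPairs r e a₁ a₂ = e * N := by
    rcases zeroPairs_cases D.prim (a₁ := a₁) (h₂.a_ne_zero D hde) with h | h
    · exact ⟨0, h⟩
    · exact ⟨1, h.trans (mul_one e).symm⟩
  refine ⟨(t - 2) + N + (if ν₁ * conj ν₂ * conj b = 1 then 1 else 0), ?_, ?_⟩
  · rw [hw, hN]
    have hp : (p : ℂ) = t * e + 1 := by
      have : p = t * e + 1 := by have := hpf.out.two_le; omega
      exact_mod_cast this
    have hd : (d : ℂ) = p - e := by
      have : (p : ℂ) = d + e := by exact_mod_cast hde.symm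
      linear_combination -this
    rw [hd, hp]
    split_ifs <;> push_cast [Nat.cast_sub (show 2 ≤ t by omega)] <;> ring
  · rw [hN]
    split_ifs <;> ring

include D in
theorem Small.prod_cen (h₁ : Small x y r e d χ₁ a₁ ν₁ μ₁) (h₂ : Small x y r e d χ₂ a₂ ν₂ μ₂) {b : ℂ}
    (hbe : b ^ e = μ₁ (y ^ e) * conj (μ₂ (y ^ e))) (g : L) :
    (χ₁ : L → ℂ) (y ^ e * g) * conj ((χ₂ : L → ℂ) (y ^ e * g)) =
      b ^ e * ((χ₁ : L → ℂ) g * conj ((χ₂ : L → ℂ) g)) := by
  rw [h₁.central_mul D D.pow_mem, h₂.central_mul D D.pow_mem, hbe, map_mul]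
  ring

include D in
/-- A family of negative sign over a product of two small characters is impossible. -/
theorem Small.minus_false (h₁ : Small x y r e d χ₁ a₁ ν₁ μ₁) (h₂ : Small x y r e d χ₂ a₂ ν₂ μ₂)
    (hde : d + e = p) (ht : t * e = p - 1) (ht3 : 3 ≤ t) (F : Fam x r e lam)
    (hlam : ∀ z ∈ Subgroup.center L, lam z = μ₁ z * conj (μ₂ z))
    (hδ : F.δ = -1) (he3 : 3 ≤ e) (het : e ≤ t) : False := by
  classical
  obtain ⟨R, hR, -, hminus⟩ := h₁.exists_count D h₂ hde ht ht3 F hlam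
  obtain ⟨b, hb, hbe, hwt⟩ := F.exists_b D (F.m0_pos_of_minus D hδ)
  rw [hlam _ D.pow_mem] at hbe
  obtain ⟨k, hk, hkv⟩ := h₁.exists_prod_weight D h₂ hde ht ht3 hb hbe
  have hbud := budget D (h₁.isChar_prod h₂) hb (h₁.prod_cen D h₂ hbe) hk (univ.image F.θ)
    (fun θ hθ => by obtain ⟨u, -, rfl⟩ := mem_image.mp hθ; exact hwt u) R (fun θ _ => hR θ)
  have hsum : ∑ u, R (F.θ u) ≤ e * k := by
    rw [F.sum_image D R]; exact Nat.mul_le_mul_left e hbud
  have h := hminus hδ
  rw [← ht] at h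
  have hk' : e * k ≤ (t - 2) * e + zeroPairs r e a₁ a₂ + e := by
    rw [hkv]; split_ifs <;> omega
  set c2 := e - e / 2
  have hc2 : 2 ≤ c2 := by omega
  have h' : t * e * c2 + zeroPairs r e a₁ a₂ ≤ (t - 2) * e + zeroPairs r e a₁ a₂ + e + e * e := by
    have : e * (t * e * c2 + zeroPairs r e a₁ a₂) ≤
        e * ((t - 2) * e + zeroPairs r e a₁ a₂ + e + e * e) := by
      calc e * (t * e * c2 + zeroPairs r e a₁ a₂)
          = t * e * (e * c2) + e * zeroPairs r e a₁ a₂ := by ring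
        _ ≤ e * ∑ u, R (F.θ u) + e * e ^ 2 := h
        _ ≤ e * ((t - 2) * e + zeroPairs r e a₁ a₂ + e) + e * e ^ 2 :=
            Nat.add_le_add_right (Nat.mul_le_mul_left e (hsum.trans hk')) _
        _ = _ := by ring
    exact Nat.le_of_mul_le_mul_left this (by omega)
  have h'' : t * c2 ≤ (t - 2) + 1 + e := by
    refine Nat.le_of_mul_le_mul_left (c := e) ?_ (by omega)
    have e1 : e * (t * c2) = t * e * c2 := by ring
    have e2 : e * (t - 2 + 1 + e) = (t - 2) * e + e + e * e := by ring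
    omega
  have : t * 2 ≤ t * c2 := Nat.mul_le_mul_left t hc2
  omega

include D in
/-- The family with trivial central character bounds `e`. -/
theorem Small.conj_bound (h : Small x y r e d χ a ν μ) (hde : d + e = p) (ht : t * e = p - 1)
    (ht3 : 3 ≤ t) (F : Fam x r e lam) (hlam : ∀ z ∈ Subgroup.center L, lam z = 1) (he3 : 3 ≤ e)
    (hm : F.δ = 1 → 0 < F.m0) : e ≤ t := by
  classical
  have hlam' : ∀ z ∈ Subgroup.center L, lam z = μ z * conj (μ z) := fun z hz => by
    rw [hlam z hz, Complex.mul_conj', h.norm_mu D hz]; simp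
  obtain ⟨R, hR, hplus, hminus⟩ := h.exists_count D h hde ht ht3 F hlam'
  obtain ⟨b, hb, hbe, hwt⟩ := F.exists_b D (by
    rcases F.sign with e1 | e1
    · exact hm e1
    · exact F.m0_pos_of_minus D e1)
  rw [hlam' _ D.pow_mem] at hbe
  obtain ⟨k, hk, hkv⟩ := h.exists_prod_weight D h hde ht ht3 hb hbe
  have hZ : zeroPairs r e a a = e := zeroPairs_self D.prim (h.a_ne_zero D hde)
  rw [hZ] at hkv hplus hminus
  have hk1 : ∑ θ ∈ univ.image F.θ, R θ ≤ t - 1 := by
    have hq : ν * conj ν = 1 := by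
      have h1 : ‖ν‖ ^ e = 1 := by rw [← norm_pow, h.nuE, h.norm_mu D D.pow_mem]
      have h2 : ‖ν‖ = 1 := (pow_eq_one_iff_of_nonneg (norm_nonneg ν) D.e_ne_zero).mp h1
      rw [Complex.mul_conj', h2]; simp
    rw [hq, one_mul] at hkv
    split_ifs at hkv with hb1
    · have hb2 : b = 1 := by
        have := congrArg conj hb1
        rwa [Complex.conj_conj, map_one] at this
      have hk2 : k = t := Nat.eq_of_mul_eq_mul_left (Nat.pos_of_ne_zero D.e_ne_zero) (by
        rw [hkv, mul_comm e t]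
        obtain ⟨t', rfl⟩ : ∃ t', t = t' + 2 := ⟨t - 2, by omega⟩
        rw [Nat.add_sub_cancel]; ring)
      have hone : oneChar L ∉ univ.image F.θ := fun hmem => by
        obtain ⟨u, -, hu⟩ := mem_image.mp hmem
        exact F.ne_oneChar D he3 ht ht3 u hu
      have hw1 : wt x y p e b (oneChar L : L → ℂ) = (e : ℂ) * (1 : ℕ) := by
        have hp0 : (p : ℂ) ≠ 0 := Nat.cast_ne_zero.mpr hpf.out.ne_zero
        rw [hb2, wt]
        simp only [oneChar, Finset.sum_const, Finset.card_univ, ZMod.card, nsmul_eq_mul, mul_one,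
          map_one, one_pow, Nat.card_Ico, Nat.cast_one]
        rw [inv_mul_cancel₀ hp0, Nat.cast_sub (Nat.one_le_iff_ne_zero.mpr D.e_ne_zero)]
        push_cast
        ring
      have hbud := budget D (h.isChar_prod h) hb (h.prod_cen D h hbe) hk (insert (oneChar L) (univ.image F.θ))
        (fun θ hθ => by
          rcases mem_insert.mp hθ with rfl | hθ
          · exact ⟨1, one_pos, hw1⟩
          · obtain ⟨u, -, rfl⟩ := mem_image.mp hθ; exact hwt u) R (fun θ _ => hR θ)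
      rw [sum_insert hone] at hbud
      have hR1 : R (oneChar L) = 1 := by
        have e1 := hR (oneChar L)
        have e2 : classInner (fun g => (χ : L → ℂ) g * conj ((χ : L → ℂ) g)) (oneChar L : L → ℂ) = 1 := by
          rw [← classInner_irr_self χ]
          simp [classInner, oneChar]
        exact_mod_cast e1.symm.trans e2
      omega
    · have hk2 : k = t - 1 := Nat.eq_of_mul_eq_mul_left (Nat.pos_of_ne_zero D.e_ne_zero) (by
        rw [hkv, mul_comm e]
        obtain ⟨t', rfl⟩ : ∃ t', t = t' + 2 := ⟨t - 2, by omega⟩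
        rw [Nat.add_sub_cancel, show t' + 2 - 1 = t' + 1 by omega]; ring)
      have hbud := budget D (h.isChar_prod h) hb (h.prod_cen D h hbe) hk (univ.image F.θ)
        (fun θ hθ => by obtain ⟨u, -, rfl⟩ := mem_image.mp hθ; exact hwt u) R (fun θ _ => hR θ)
      omega
  have hsum : ∑ u, R (F.θ u) ≤ e * (t - 1) := by
    rw [F.sum_image D R]; exact Nat.mul_le_mul_left e hk1
  have he0 : 0 < e := by omega
  rcases F.sign with e1 | e1
  · have h1 := (hplus e1).trans (Nat.add_le_add_right (Nat.mul_le_mul_left e hsum) _)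
    have h2 : e * (e * e) ≤ e * (e * t) := by
      calc e * (e * e) = e * e ^ 2 := by ring
        _ ≤ e * (e * (t - 1)) + e * e := h1
        _ = e * (e * t) := by
          obtain ⟨t', rfl⟩ : ∃ t', t = t' + 1 := ⟨t - 1, by omega⟩
          rw [Nat.add_sub_cancel]; ring
    exact Nat.le_of_mul_le_mul_left (Nat.le_of_mul_le_mul_left h2 he0) he0
  · exfalso
    have h1 := (hminus e1).trans (Nat.add_le_add_right (Nat.mul_le_mul_left e hsum) _)
    rw [← ht] at h1
    have h2 : t * (e - e / 2) + 1 ≤ t - 1 + e := by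
      refine Nat.le_of_mul_le_mul_left (Nat.le_of_mul_le_mul_left (c := e) ?_ he0) he0
      calc e * (e * (t * (e - e / 2) + 1)) = t * e * (e * (e - e / 2)) + e * e := by ring
        _ ≤ e * (e * (t - 1)) + e * e ^ 2 := h1
        _ = _ := by ring
    have h3 : (t - 3) * 2 ≤ (t - 3) * (e - e / 2) := Nat.mul_le_mul_left _ (by omega)
    have h4 : t * (e - e / 2) = (t - 3) * (e - e / 2) + 3 * (e - e / 2) := by
      rw [← Nat.add_mul, Nat.sub_add_cancel ht3]
    omega

end CfsgLib.Char.SmallDegree
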