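import Cfsg.Agent.Lib.Char.SmallDegree.Mult
import Cfsg.Agent.Lib.Block.Cyclic.SylowMult
import Cfsg.Agent.Lib.Char.DegreePSubTwo.Square

/-!
# Counting with families of exceptional shape
-/

set_option autoImplicit false
set_option linter.unusedSectionVars false

namespace CfsgLib.Char.SmallDegree

open Cfsg CfsgLib.Block CfsgLib.Block.Cyclic CfsgLib.Char Finset
open scoped ComplexConjugate

universe u

variable {p : ℕ} [hpf : Fact p.Prime]

/-- Triples of exponents giving one relation. -/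
def triples (r : ZMod p) (e : ℕ) (a₁ a₂ u : ZMod p) : ℕ :=
  ((range e ×ˢ range e ×ˢ range e).filter fun q =>
    a₁ * r ^ q.1 - a₂ * r ^ q.2.1 - u * r ^ q.2.2 = 0).card

/-- Pairs of exponents with difference zero. -/
def zeroPairs (r : ZMod p) (e : ℕ) (a₁ a₂ : ZMod p) : ℕ :=
  ((range e ×ˢ range e).filter fun q => a₁ * r ^ q.1 - a₂ * r ^ q.2 = 0).card

theorem zeroPairs_le (r : ZMod p) (e : ℕ) (a₁ a₂ : ZMod p) : zeroPairs r e a₁ a₂ ≤ e ^ 2 :=
  (card_filter_le _ _).trans (by simp [sq])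

theorem sum_triples {r : ZMod p} (hr : r ≠ 0) (e : ℕ) (a₁ a₂ : ZMod p) :
    ∑ u : (ZMod p)ˣ, triples r e a₁ a₂ (u : ZMod p) + e * zeroPairs r e a₁ a₂ = e * e ^ 2 := by
  classical
  unfold triples zeroPairs
  simp only [Finset.card_filter, Finset.sum_product]
  rw [Finset.sum_comm, Finset.mul_sum, ← Finset.sum_add_distrib,
    Finset.sum_congr rfl (g := fun _ => e * e) fun l₁ _ => ?_]
  · simp [sq]
  rw [Finset.sum_comm, Finset.mul_sum, ← Finset.sum_add_distrib,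
    Finset.sum_congr rfl (g := fun _ => e) fun l₂ _ => ?_]
  · simp
  set v := a₁ * r ^ l₁ - a₂ * r ^ l₂
  rw [Finset.sum_comm]
  by_cases hv : v = 0
  · rw [if_pos hv, mul_one, Finset.sum_eq_zero fun l₃ _ => Finset.sum_eq_zero fun u _ => ?_, zero_add]
    rw [if_neg]
    rw [show a₁ * r ^ l₁ - a₂ * r ^ l₂ = 0 from hv, zero_sub, neg_eq_zero]
    exact mul_ne_zero u.ne_zero (pow_ne_zero _ hr)
  · rw [if_neg hv, mul_zero, add_zero, Finset.sum_congr rfl (g := fun _ => 1) fun l₃ _ => ?_]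
    · simp
    have hne : v / r ^ l₃ ≠ 0 := div_ne_zero hv (pow_ne_zero _ hr)
    rw [Finset.sum_eq_single (Units.mk0 _ hne)]
    · rw [if_pos]
      rw [Units.val_mk0, div_mul_cancel₀ _ (pow_ne_zero _ hr), sub_self]
    · intro u _ hu
      rw [if_neg]
      intro h
      exact hu (Units.ext (by rw [Units.val_mk0, eq_div_iff (pow_ne_zero _ hr)]; exact (sub_eq_zero.mp h).symm))
    · simp

theorem sum_stdPsi_erase (c : ZMod p) :
    ∑ i ∈ univ.erase (0 : ZMod p), stdPsi p (i * c) = (if c = 0 then (p : ℂ) else 0) - 1 := by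
  rw [Finset.sum_erase_eq_sub (mem_univ _), zero_mul, AddChar.map_zero_eq_one, sum_stdPsi_mul]

variable {L : Type u} [Group L] [Fintype L] {e : ℕ}

/-- A character of degree `d` with the shape. -/
structure Small (x y : L) (r : ZMod p) (e d : ℕ) (χ : IrrCharacter L) (a : ZMod p) (ν : ℂ)
    (μ : L → ℂ) : Prop where
  deg : charDegree (χ : L → ℂ) = d
  val : ∀ i : ZMod p, i ≠ 0 → (χ : L → ℂ) (x ^ i.val) = -∑ l ∈ range e, stdPsi p (i * (a * r ^ l))
  valY : ∀ l, 0 < l → l < e → (χ : L → ℂ) (y ^ l) = ν ^ l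
  nuE : ν ^ e = μ (y ^ e)
  cen : ∀ z ∈ Subgroup.center L, (χ : L → ℂ) z = (d : ℂ) * μ z

/-- A family with the values of exceptional characters. -/
structure Fam (x : L) (r : ZMod p) (e : ℕ) (lam : L → ℂ) where
  /-- the members -/
  θ : (ZMod p)ˣ → IrrCharacter L
  /-- the multiplicity of the trivial character of `⟨x⟩` -/
  m0 : ℕ
  /-- the sign -/
  δ : ℤ
  sign : δ = 1 ∨ δ = -1
  val : ∀ u : (ZMod p)ˣ, ∀ i : ZMod p, i ≠ 0 →
    (θ u : L → ℂ) (x ^ i.val) = (δ : ℂ) * ∑ l ∈ range e, stdPsi p (i * ((u : ZMod p) * r ^ l))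
  deg : ∀ u, (charDegree (θ u : L → ℂ) : ℤ) = p * m0 + δ * e
  cen : ∀ u, ∀ z ∈ Subgroup.center L, (θ u : L → ℂ) z = (θ u : L → ℂ) 1 * lam z
  reg : ∀ u v g, ¬ p ∣ orderOf g → (θ u : L → ℂ) g = (θ v : L → ℂ) g
  fib : ∀ u v, θ u = θ v ↔ ∃ l < e, (v : ZMod p) = (u : ZMod p) * r ^ l

variable {x y : L} {r : ZMod p} (D : NData p e x y r)

include D in
theorem norm_central {θ : IrrCharacter L} {z : L} (hz : z ∈ Subgroup.center L) :
    ‖(θ : L → ℂ) z‖ = charDegree (θ : L → ℂ) := by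
  obtain ⟨n, ρ, hρ, hρθ⟩ := θ.2
  rw [← hρθ, (norm_char_eq_iff ρ z).mpr (exists_scalar_of_mem_center ρ hz)]
  simp [charDegree, Representation.char_one]

include D in
theorem Small.norm_mu {d : ℕ} {χ : IrrCharacter L} {a : ZMod p} {ν : ℂ} {μ : L → ℂ}
    (h : Small x y r e d χ a ν μ) {z : L} (hz : z ∈ Subgroup.center L) : ‖μ z‖ = 1 := by
  have h1 := norm_central D (θ := χ) hz
  rw [h.cen z hz, norm_mul, Complex.norm_natCast, h.deg] at h1
  have h2 : (d : ℝ) ≠ 0 := Nat.cast_ne_zero.mpr (h.deg ▸ (charDegree_eq χ).2)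
  exact mul_left_cancel₀ h2 (h1.trans (mul_one _).symm)

include D in
theorem conj_xy {l : ℕ} (hl0 : 0 < l) (hl : l < e) {F : L → ℂ} (hF : IsClassFunction L F) (i : ZMod p) :
    F (x ^ i.val * y ^ l) = F (y ^ l) := by
  have hne : (1 : ZMod p) - r ^ l ≠ 0 := sub_ne_zero.mpr fun h =>
    D.prim.pow_ne_one_of_pos_of_lt hl0.ne' hl h.symm
  set j : ZMod p := i * (1 - r ^ l)⁻¹ with hj
  have h5 : y ^ l * (x ^ j.val)⁻¹ = (x ^ (r ^ l * j).val)⁻¹ * y ^ l := by
    have h6 : y ^ l * x ^ j.val * (y ^ l)⁻¹ = x ^ (r ^ l * j).val := by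
      rw [← conj_pow, D.conj_pow_l, ← pow_mul, ZMod.val_mul (r ^ l) j, ← pow_eq_pow_mod _ D.pow_p]
    rw [← h6]
    group
  have hconj : x ^ j.val * y ^ l * (x ^ j.val)⁻¹ = x ^ i.val * y ^ l := by
    rw [mul_assoc, h5, ← mul_assoc]
    congr 1
    rw [mul_inv_eq_iff_eq_mul, ← pow_add, pow_eq_pow_mod (i.val + _) D.pow_p, ← ZMod.val_add]
    congr 2
    rw [hj]
    field_simp
    ring
  rw [← hconj, hF]

/-! ### The weight -/

variable (x y) in
/-- `e` times the multiplicity of a linear character of the normaliser. -/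
noncomputable def wt (p e : ℕ) [NeZero p] (b : ℂ) (F : L → ℂ) : ℂ :=
  (p : ℂ)⁻¹ * ∑ i : ZMod p, F (x ^ i.val) + ∑ l ∈ Ico 1 e, F (y ^ l) * conj b ^ l

theorem wt_sum {ι : Type*} (s : Finset ι) (c : ι → ℂ) (G : ι → L → ℂ) (b : ℂ) :
    wt x y p e b (fun g => ∑ t ∈ s, c t * G t g) = ∑ t ∈ s, c t * wt x y p e b (G t) := by
  simp only [wt, Finset.mul_sum, Finset.sum_mul, mul_add, Finset.sum_add_distrib]
  congr 1
  · rw [Finset.sum_comm]
    exact Finset.sum_congr rfl fun t _ => Finset.sum_congr rfl fun i _ => by ring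
  · rw [Finset.sum_comm]
    exact Finset.sum_congr rfl fun t _ => Finset.sum_congr rfl fun i _ => by ring

include D in
/-- The weight of a character is the dimension of an eigenspace. -/
theorem wt_eq_finrank {b : ℂ} (hb : ‖b‖ = 1) {n : ℕ} (ρ : Representation ℂ L (Fin n → ℂ))
    (hz : ρ (y ^ e) = b ^ e • LinearMap.id) :
    wt x y p e b ρ.character = (e : ℂ) * (Module.finrank ℂ
      (LinearMap.ker (ρ x - 1) ⊓ LinearMap.ker (conj b • ρ y - 1) : Submodule ℂ (Fin n → ℂ)) : ℂ) := by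
  have hbb : conj b * b = 1 := by rw [Complex.conj_mul', hb]; simp
  have hY : (conj b • ρ y) ^ e = 1 := by
    rw [smul_pow, ← map_pow ρ, hz, smul_smul, ← mul_pow, hbb, one_pow, one_smul, Module.End.one_eq_id]
  have h := finrank_fix_two (p := p) (X := ρ x) (Y := conj b • ρ y) (r := r)
    (by rw [← map_pow, D.pow_p, map_one]) hY (Nat.cast_ne_zero.mpr hpf.out.ne_zero)
    (Nat.cast_ne_zero.mpr D.e_ne_zero) D.r_ne_zero
    (by rw [smul_mul_assoc, mul_smul_comm, ← map_pow, ← map_mul, ← map_mul, D.mul_x])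
  rw [h]
  have hterm : ∀ (i : ZMod p) (l : ℕ), LinearMap.trace ℂ _ (ρ x ^ i.val * (conj b • ρ y) ^ l) =
      ρ.character (x ^ i.val * y ^ l) * conj b ^ l := fun i l => by
    rw [smul_pow, mul_smul_comm, map_smul, ← map_pow ρ, ← map_pow ρ, ← map_mul, smul_eq_mul, mul_comm]
    rfl
  simp only [hterm]
  obtain ⟨e', rfl⟩ := Nat.exists_eq_succ_of_ne_zero D.e_ne_zero
  rw [Finset.sum_congr rfl fun i _ => Finset.sum_range_succ' _ _, Finset.sum_add_distrib, Finset.sum_comm,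
    Finset.sum_congr rfl (g := fun l => (p : ℂ) * (ρ.character (y ^ (l + 1)) * conj b ^ (l + 1))) fun l hl => ?_]
  · rw [← Finset.mul_sum, wt, Finset.sum_Ico_eq_sum_range, Nat.succ_sub_one]
    simp only [pow_zero, mul_one, add_comm 1]
    have hp0 : (p : ℂ) ≠ 0 := Nat.cast_ne_zero.mpr hpf.out.ne_zero
    have he0 : ((e' + 1 : ℕ) : ℂ) ≠ 0 := Nat.cast_ne_zero.mpr (Nat.succ_ne_zero e')
    push_cast at he0 ⊢
    field_simp
    ring
  · rw [Finset.sum_congr rfl fun i _ => by rw [conj_xy D (Nat.succ_pos l)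
      (Nat.succ_lt_succ (mem_range.mp hl)) (isClassFunction_of_isCharacter ⟨_, ρ, rfl⟩) i],
      Finset.sum_const, Finset.card_univ, ZMod.card, nsmul_eq_mul]

include D in
theorem exists_wt_nat {b : ℂ} (hb : ‖b‖ = 1) (θ : IrrCharacter L)
    (hθ : (θ : L → ℂ) (y ^ e) = (θ : L → ℂ) 1 * b ^ e) :
    ∃ k : ℕ, wt x y p e b (θ : L → ℂ) = (e : ℂ) * k := by
  obtain ⟨n, ρ, hρ, hρθ⟩ := θ.2
  obtain ⟨ω, hω⟩ := exists_scalar_of_mem_center ρ D.pow_mem
  have h1 : ω = b ^ e := by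
    rw [← hρθ] at hθ
    have h2 : ρ.character (y ^ e) = ω * (n : ℂ) := by
      show LinearMap.trace ℂ _ (ρ (y ^ e)) = _
      rw [hω, trace_smul_id, Module.finrank_fin_fun]
    rw [h2, Representation.char_one, Module.finrank_fin_fun, mul_comm (n : ℂ)] at hθ
    have hn : (n : ℂ) ≠ 0 := by
      have := finrank_pos_of_irreducible ρ
      rw [Module.finrank_fin_fun] at this
      exact Nat.cast_ne_zero.mpr this.ne'
    exact mul_right_cancel₀ hn hθ
  exact ⟨_, hρθ ▸ wt_eq_finrank D hb ρ (h1 ▸ hω)⟩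

include D in
/-- Constituents weigh at most the whole. -/
theorem budget {Φ : L → ℂ} (hΦ : IsCharacter L Φ) {b : ℂ} (hb : ‖b‖ = 1)
    (hcen : ∀ g, Φ (y ^ e * g) = b ^ e * Φ g) {k : ℕ} (hk : wt x y p e b Φ = (e : ℂ) * k)
    (S : Finset (IrrCharacter L))
    (hS : ∀ θ ∈ S, ∃ m : ℕ, 0 < m ∧ wt x y p e b (θ : L → ℂ) = (e : ℂ) * m)
    (R : IrrCharacter L → ℕ) (hR : ∀ θ ∈ S, classInner Φ (θ : L → ℂ) = R θ) :
    ∑ θ ∈ S, R θ ≤ k := by
  classical
  have := Fintype.ofFinite (IrrCharacter L)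
  choose c hc using fun θ : IrrCharacter L => classInner_char_irr_nat hΦ θ
  have hexp : Φ = fun g => ∑ θ : IrrCharacter L, (c θ : ℂ) * (θ : L → ℂ) g := funext fun g => by
    have h := congrFun (classFun_expand (isClassFunction_of_isCharacter hΦ)) g
    rw [Finset.sum_apply] at h
    rw [h]
    exact Finset.sum_congr rfl fun θ _ => by rw [Pi.smul_apply, smul_eq_mul, hc]
  have hbb : b ^ e * conj (b ^ e) = 1 := by
    rw [Complex.mul_conj', norm_pow, hb]; simp
  have hconst : ∀ θ : IrrCharacter L, c θ ≠ 0 → (θ : L → ℂ) (y ^ e) = (θ : L → ℂ) 1 * b ^ e := by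
    intro θ hne
    have h1 : ∀ g, (θ : L → ℂ) (y ^ e * g) = (θ : L → ℂ) (y ^ e) / (θ : L → ℂ) 1 * (θ : L → ℂ) g :=
      fun g => by rw [div_mul_eq_mul_div, eq_div_iff (irr_one_ne_zero θ),
        DegreePSubTwo.irr_central_mul D.pow_mem]
    set w := (θ : L → ℂ) (y ^ e) / (θ : L → ℂ) 1 with hw
    have h2 : classInner Φ (θ : L → ℂ) = b ^ e * conj w * classInner Φ (θ : L → ℂ) := by
      conv_lhs => rw [classInner, ← Equiv.sum_comp (Equiv.mulLeft (y ^ e))]
      simp only [Equiv.coe_mulLeft, hcen, h1, map_mul]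
      rw [classInner, mul_left_comm (b ^ e * conj w), Finset.mul_sum _ _ (b ^ e * conj w)]
      congr 1
      exact Finset.sum_congr rfl fun g _ => by ring
    rw [hc] at h2
    have h3 : b ^ e * conj w = 1 := (mul_left_eq_self₀.mp h2.symm).resolve_right (Nat.cast_ne_zero.mpr hne)
    have h4 : w = b ^ e := by
      have h5 := congrArg conj h3
      rw [map_mul, Complex.conj_conj, map_one] at h5
      calc w = b ^ e * conj (b ^ e) * w := by rw [hbb, one_mul]
        _ = b ^ e := by rw [mul_assoc, h5, mul_one]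
    rw [← h4, hw, mul_div_cancel₀ _ (irr_one_ne_zero θ)]
  have hnat : ∀ θ : IrrCharacter L, ∃ m : ℕ, (c θ : ℂ) * wt x y p e b (θ : L → ℂ) = (e : ℂ) * m ∧
      (θ ∈ S → R θ ≤ m) := by
    intro θ
    by_cases hc0 : c θ = 0
    · refine ⟨0, by rw [hc0]; simp, fun hθ => ?_⟩
      have h := hR θ hθ
      rw [hc, hc0] at h
      have h' : 0 = R θ := by exact_mod_cast h
      omega
    obtain ⟨m, hm⟩ := exists_wt_nat D hb θ (hconst θ hc0)
    refine ⟨c θ * m, by rw [hm]; push_cast; ring, fun hθ => ?_⟩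
    obtain ⟨m', hm', hm''⟩ := hS θ hθ
    have he : (m : ℂ) = m' := mul_left_cancel₀ (Nat.cast_ne_zero.mpr D.e_ne_zero) (hm.symm.trans hm'')
    have h := hR θ hθ
    rw [hc] at h
    have h' : c θ = R θ := by exact_mod_cast h
    have he' : m = m' := by exact_mod_cast he
    rw [← h', he']
    exact Nat.le_mul_of_pos_right _ hm'
  choose m hm hle using hnat
  rw [hexp, wt_sum, Finset.sum_congr rfl fun θ _ => hm θ, ← Finset.mul_sum] at hk
  have hk' : ∑ θ : IrrCharacter L, m θ = k := by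
    have := mul_left_cancel₀ (Nat.cast_ne_zero.mpr D.e_ne_zero) hk
    exact_mod_cast this
  rw [← hk']
  exact (Finset.sum_le_sum fun θ hθ => hle θ hθ).trans
    (Finset.sum_le_sum_of_subset (Finset.subset_univ S))

/-! ### Products -/

variable {d : ℕ} {χ₁ χ₂ : IrrCharacter L} {a₁ a₂ : ZMod p} {ν₁ ν₂ : ℂ} {μ₁ μ₂ : L → ℂ}

theorem Small.val_prod (h₁ : Small x y r e d χ₁ a₁ ν₁ μ₁) (h₂ : Small x y r e d χ₂ a₂ ν₂ μ₂)
    {i : ZMod p} (hi : i ≠ 0) :
    (χ₁ : L → ℂ) (x ^ i.val) * conj ((χ₂ : L → ℂ) (x ^ i.val)) =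
      ∑ q ∈ range e ×ˢ range e, stdPsi p (i * (a₁ * r ^ q.1 - a₂ * r ^ q.2)) := by
  rw [h₁.val i hi, h₂.val i hi, map_neg, neg_mul_neg, map_sum, Finset.sum_mul_sum, Finset.sum_product]
  refine Finset.sum_congr rfl fun l _ => Finset.sum_congr rfl fun l' _ => ?_
  rw [conj_stdPsi, ← AddChar.map_add_eq_mul]
  congr 1
  ring

theorem Small.apply_one (h : Small x y r e d χ₁ a₁ ν₁ μ₁) : (χ₁ : L → ℂ) 1 = (d : ℂ) := by
  rw [(charDegree_eq χ₁).1, h.deg]

/-- The multiplicity of the trivial character of `⟨x⟩` in a product. -/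
theorem Small.a0_prod (h₁ : Small x y r e d χ₁ a₁ ν₁ μ₁) (h₂ : Small x y r e d χ₂ a₂ ν₂ μ₂)
    (hde : d + e = p) :
    (p : ℂ)⁻¹ * ∑ i : ZMod p, (χ₁ : L → ℂ) (x ^ i.val) * conj ((χ₂ : L → ℂ) (x ^ i.val)) =
      (d : ℂ) - e + (zeroPairs r e a₁ a₂ : ℂ) := by
  rw [← Finset.add_sum_erase _ _ (mem_univ (0 : ZMod p)), ZMod.val_zero, pow_zero, h₁.apply_one,
    h₂.apply_one, Complex.conj_natCast,
    Finset.sum_congr rfl fun i hi => h₁.val_prod h₂ (Finset.mem_erase.mp hi).1, Finset.sum_comm,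
    Finset.sum_congr rfl fun q _ => sum_stdPsi_erase _, Finset.sum_sub_distrib, Finset.sum_ite,
    Finset.sum_const, Finset.sum_const_zero, Finset.sum_const, add_zero, ← zeroPairs]
  have hp : (p : ℂ) = d + e := by exact_mod_cast hde.symm
  have hp0 : (p : ℂ) ≠ 0 := Nat.cast_ne_zero.mpr hpf.out.ne_zero
  simp only [nsmul_eq_mul, Finset.card_product, card_range]
  field_simp
  rw [hp]
  push_cast
  ring

include D in
/-- The weight of a product. -/
theorem Small.wt_prod (h₁ : Small x y r e d χ₁ a₁ ν₁ μ₁) (h₂ : Small x y r e d χ₂ a₂ ν₂ μ₂)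
    (hde : d + e = p) {b : ℂ} (hb : ‖b‖ = 1) (hbe : b ^ e = μ₁ (y ^ e) * conj (μ₂ (y ^ e))) :
    wt x y p e b (fun g => (χ₁ : L → ℂ) g * conj ((χ₂ : L → ℂ) g)) =
      (d : ℂ) - e + (zeroPairs r e a₁ a₂ : ℂ) +
        ((if ν₁ * conj ν₂ * conj b = 1 then (e : ℂ) else 0) - 1) := by
  rw [wt, h₁.a0_prod h₂ hde]
  congr 1
  set q := ν₁ * conj ν₂ * conj b with hq
  have hq1 : q ^ e = 1 := by
    rw [hq, mul_pow, mul_pow, ← map_pow, ← map_pow, h₁.nuE, h₂.nuE, ← hbe, map_pow, ← mul_pow,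
      Complex.mul_conj', hb]
    simp
  rw [Finset.sum_congr rfl (g := fun l => q ^ l) fun l hl => ?_]
  · have hsum : ∑ l ∈ range e, q ^ l = if q = 1 then (e : ℂ) else 0 := by
      split_ifs with h
      · simp [h]
      · have hg := geom_sum_mul q e
        rw [hq1, sub_self] at hg
        exact (mul_eq_zero.mp hg).resolve_right (sub_ne_zero.mpr h)
    rw [Finset.sum_Ico_eq_sub _ (Nat.one_le_iff_ne_zero.mpr D.e_ne_zero), hsum]
    simp
  · rw [Finset.mem_Ico] at hl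
    rw [h₁.valY l hl.1 hl.2, h₂.valY l hl.1 hl.2, hq, mul_pow, mul_pow, map_pow]

include D in
theorem Fam.a0 {lam : L → ℂ} (F : Fam x r e lam) (u : (ZMod p)ˣ) :
    (p : ℂ)⁻¹ * ∑ i : ZMod p, (F.θ u : L → ℂ) (x ^ i.val) = F.m0 := by
  rw [← Finset.add_sum_erase _ _ (mem_univ (0 : ZMod p)), ZMod.val_zero, pow_zero,
    (charDegree_eq _).1, Finset.sum_congr rfl fun i hi => F.val u i (Finset.mem_erase.mp hi).1,
    ← Finset.mul_sum, Finset.sum_comm, Finset.sum_congr rfl fun l _ => sum_stdPsi_erase _,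
    Finset.sum_congr rfl fun l _ => by
      rw [if_neg (mul_ne_zero u.ne_zero (pow_ne_zero _ D.r_ne_zero))]]
  have h : ((charDegree (F.θ u : L → ℂ) : ℕ) : ℂ) = (p : ℂ) * F.m0 + (F.δ : ℂ) * e := by
    exact_mod_cast F.deg u
  have hp0 : (p : ℂ) ≠ 0 := Nat.cast_ne_zero.mpr hpf.out.ne_zero
  rw [h]
  simp only [Finset.sum_const, card_range, nsmul_eq_mul]
  field_simp
  ring

include D in
/-- A linear character of the normaliser occurring in all members. -/
theorem Fam.exists_b {lam : L → ℂ} (F : Fam x r e lam) (hm0 : 0 < F.m0) :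
    ∃ b : ℂ, ‖b‖ = 1 ∧ b ^ e = lam (y ^ e) ∧
      ∀ u, ∃ m : ℕ, 0 < m ∧ wt x y p e b (F.θ u : L → ℂ) = (e : ℂ) * m := by
  classical
  obtain ⟨n, ρ, hρ, hρθ⟩ := (F.θ 1).2
  set W := LinearMap.ker (ρ x - 1) with hW
  have hX : ρ x ^ p = 1 := by rw [← map_pow, D.pow_p, map_one]
  have hWd : (Module.finrank ℂ W : ℂ) = F.m0 := by
    rw [hW, finrank_fix (Nat.cast_ne_zero.mpr hpf.out.ne_zero) hX, ← F.a0 D 1, ← hρθ,
      ← sum_range_eq_zmod (fun i => ρ.character (x ^ i))]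
    congr 1
    exact Finset.sum_congr rfl fun i _ => by rw [← map_pow]; rfl
  have hWn : Nontrivial W := Module.nontrivial_of_finrank_pos (R := ℂ) (by
    have h : Module.finrank ℂ W = F.m0 := by exact_mod_cast hWd
    omega)
  have hinvW : ∀ v ∈ W, ρ y v ∈ W := by
    intro v hv
    rw [hW, mem_ker_sub_one] at hv ⊢
    obtain ⟨s, hs⟩ : ∃ s : ℕ, x * y = y * x ^ s := by
      refine ⟨(r⁻¹).val, ?_⟩
      have h1 : y * x ^ (r⁻¹).val * y⁻¹ = x := by
        rw [← conj_pow, D.conj, ← pow_mul, pow_eq_pow_mod _ D.pow_p, ← ZMod.val_mul,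
          mul_inv_cancel₀ D.r_ne_zero, ZMod.val_one, pow_one]
      exact (mul_inv_eq_iff_eq_mul.mp h1).symm
    rw [← Module.End.mul_apply, ← map_mul, hs, map_mul, map_pow, Module.End.mul_apply]
    congr 1
    clear hs
    induction s with
    | zero => rfl
    | succ s ih => rw [pow_succ, Module.End.mul_apply, hv, ih]
  obtain ⟨b, hb⟩ := Module.End.exists_eigenvalue ((ρ y).restrict hinvW)
  obtain ⟨v, hv, hv0⟩ := hb.exists_hasEigenvector
  rw [Module.End.mem_eigenspace_iff] at hv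
  have hv0' : (v : Fin n → ℂ) ≠ 0 := fun h => hv0 (Subtype.ext h)
  have hvb : ∀ l : ℕ, ρ (y ^ l) (v : Fin n → ℂ) = b ^ l • (v : Fin n → ℂ) := fun l => by
    induction l with
    | zero => rw [pow_zero, map_one, pow_zero, one_smul]; rfl
    | succ l ih =>
      rw [pow_succ y, map_mul, Module.End.mul_apply,
        show ρ y (v : Fin n → ℂ) = b • (v : Fin n → ℂ) from congrArg Subtype.val hv, map_smul, ih,
        smul_smul, pow_succ', mul_comm]
  have hb1 : ‖b‖ = 1 := by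
    refine Complex.norm_eq_one_of_pow_eq_one ?_ (orderOf_pos y).ne'
    have h := hvb (orderOf y)
    rw [pow_orderOf_eq_one, map_one, Module.End.one_apply] at h
    exact (smul_left_injective ℂ hv0' (h.symm.trans (one_smul ℂ (v : Fin n → ℂ)).symm))
  obtain ⟨ω, hω⟩ := exists_scalar_of_mem_center ρ D.pow_mem
  have hωb : ω = b ^ e := by
    have h := hvb e
    rw [hω, LinearMap.smul_apply, LinearMap.id_apply] at h
    exact smul_left_injective ℂ hv0' h
  have hlam : b ^ e = lam (y ^ e) := by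
    have h := F.cen 1 _ D.pow_mem
    rw [← hρθ, Representation.char_one] at h
    have h' : ρ.character (y ^ e) = b ^ e * (Module.finrank ℂ (Fin n → ℂ) : ℂ) := by
      show LinearMap.trace ℂ _ (ρ (y ^ e)) = _
      rw [hω, trace_smul_id, hωb]
    rw [h', mul_comm] at h
    exact mul_left_cancel₀ (Nat.cast_ne_zero.mpr (finrank_pos_of_irreducible ρ).ne') h
  refine ⟨b, hb1, hlam, ?_⟩
  have hwt := wt_eq_finrank D hb1 ρ (hωb ▸ hω)
  set K := (LinearMap.ker (ρ x - 1) ⊓ LinearMap.ker (conj b • ρ y - 1) : Submodule ℂ (Fin n → ℂ))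
  have hpos : 0 < Module.finrank ℂ K := by
    refine Module.finrank_pos_iff.mpr ⟨⟨(v : Fin n → ℂ), v.2, ?_⟩, 0, fun h => hv0' (congrArg Subtype.val h)⟩
    rw [SetLike.mem_coe, mem_ker_sub_one, LinearMap.smul_apply]
    have h := hvb 1
    rw [pow_one, pow_one] at h
    rw [h, smul_smul, Complex.conj_mul', hb1]
    simp
  intro u
  refine ⟨Module.finrank ℂ K, hpos, ?_⟩
  rw [← hwt, hρθ]
  simp only [wt, F.a0 D]
  congr 1
  refine Finset.sum_congr rfl fun l _ => ?_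
  rw [F.reg u 1 (y ^ l) fun h => D.y_reg (h.trans (orderOf_pow_dvd l))]

end CfsgLib.Char.SmallDegree
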