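import Mathlib

/-!
# The eigenoperator

For an operator `X` with `X ^ p = 1` in characteristic `p`, `dop p X = ∑ i⁻¹ X ^ i` generates the
same algebra as `X - 1` and is an eigenvector for every operator inducing a power map on `X`.
-/

set_option autoImplicit false
set_option linter.unusedSectionVars false

namespace CfsgLib.Char.SmallDegree

open Finset Polynomial

variable {k : Type*} [Field k] {p : ℕ} [hp : Fact p.Prime] [CharP k p]

/-- The prime field inside `k`. -/
noncomputable def castK (k : Type*) [Field k] (p : ℕ) [CharP k p] : ZMod p →+* k :=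
  ZMod.castHom (dvd_refl p) k

theorem castK_ne_zero {a : ZMod p} (ha : a ≠ 0) : castK k p a ≠ 0 :=
  fun h => ha ((castK k p).injective (h.trans (map_zero _).symm))

theorem castK_natCast (n : ℕ) : castK k p (n : ZMod p) = (n : k) := map_natCast _ n

variable {R : Type*} [Ring R] [Algebra k R]

variable (k) in
/-- The eigenoperator. -/
noncomputable def dop (p : ℕ) [Fact p.Prime] [CharP k p] (X : R) : R :=
  ∑ i : ZMod p, castK k p i⁻¹ • X ^ i.val

theorem pow_val_mul' {X : R} (hX : X ^ p = 1) (r i : ZMod p) :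
    (X ^ r.val) ^ i.val = X ^ (r * i).val := by
  rw [← pow_mul, ZMod.val_mul, ← pow_eq_pow_mod _ hX]

/-- An element inducing the power `r` on `X` scales the eigenoperator by `r`. -/
theorem mul_dop {X Y : R} (hX : X ^ p = 1) {r : ZMod p} (hr : r ≠ 0)
    (h : Y * X = X ^ r.val * Y) : Y * dop k p X = castK k p r • (dop k p X * Y) := by
  have hpow : ∀ i : ℕ, Y * X ^ i = (X ^ r.val) ^ i * Y := fun i => by
    induction i with
    | zero => simp
    | succ i ih => rw [pow_succ, ← mul_assoc, ih, mul_assoc, h, ← mul_assoc, ← pow_succ]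
  simp only [dop, Finset.mul_sum, Finset.sum_mul, Finset.smul_sum, mul_smul_comm, smul_mul_assoc,
    smul_smul, hpow]
  refine Fintype.sum_equiv (Equiv.mulLeft₀ r hr) _ _ fun i => ?_
  rw [Equiv.mulLeft₀_apply, pow_val_mul' hX, ← map_mul]
  congr 2
  rw [mul_inv, ← mul_assoc, mul_inv_cancel₀ hr, one_mul]

theorem sum_inv_eq_zero (h2 : p ≠ 2) : ∑ i : ZMod p, i⁻¹ = 0 := by
  have h20 : (2 : ZMod p) ≠ 0 := by
    intro h
    have h' : ((2 : ℕ) : ZMod p) = 0 := by exact_mod_cast h
    rw [ZMod.natCast_eq_zero_iff] at h'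
    exact h2 ((Nat.prime_dvd_prime_iff_eq hp.out Nat.prime_two).mp h')
  have h : ∑ i : ZMod p, i⁻¹ = ∑ i : ZMod p, (2 * i)⁻¹ :=
    (Fintype.sum_equiv (Equiv.mulLeft₀ (2 : ZMod p) h20) _ _ fun i => rfl).symm
  simp only [mul_inv, ← Finset.mul_sum] at h
  by_contra hne
  have h1 : (2 : ZMod p)⁻¹ = 1 := mul_right_cancel₀ hne (by rw [← h, one_mul])
  rw [inv_eq_one] at h1
  exact one_ne_zero (α := ZMod p) (by linear_combination h1)

theorem sum_inv_mul_self : ∑ i : ZMod p, i⁻¹ * i = -1 := by
  classical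
  rw [← Finset.add_sum_erase _ _ (mem_univ (0 : ZMod p)), mul_zero, zero_add,
    Finset.sum_congr rfl fun i hi => inv_mul_cancel₀ (ne_of_mem_erase hi), Finset.sum_const,
    Finset.card_erase_of_mem (mem_univ _), Finset.card_univ, ZMod.card, nsmul_eq_mul, mul_one,
    Nat.cast_sub hp.out.one_le, ZMod.natCast_self, Nat.cast_one, zero_sub]

theorem dop_expand (h2 : p ≠ 2) (X : R) :
    ∃ g : k[X], dop k p X = -(X - 1) * (1 - (X - 1) * aeval (X - 1) g) := by
  set P : k[X] := ∑ i : ZMod p, Polynomial.C (castK k p i⁻¹) * Polynomial.X ^ i.val with hP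
  set Q : k[X] := P.comp (Polynomial.X + 1) with hQ
  have hQ0 : Q.coeff 0 = 0 := by
    rw [coeff_zero_eq_eval_zero, hQ, eval_comp, eval_add, eval_X, eval_one, zero_add, hP,
      eval_finsetSum]
    simp only [eval_mul, eval_C, eval_pow, eval_X, one_pow, mul_one, ← map_sum, sum_inv_eq_zero h2,
      map_zero]
  have hQ1 : Q.coeff 1 = -1 := by
    have hd : (derivative Q).coeff 0 = Q.coeff 1 := by simp [coeff_derivative]
    rw [← hd, coeff_zero_eq_eval_zero, hQ, derivative_comp, eval_mul, eval_comp, eval_add, eval_X,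
      eval_one, zero_add, hP, derivative_sum, eval_finsetSum]
    simp only [derivative_add, derivative_X, derivative_one, add_zero, eval_one, one_mul,
      derivative_C_mul, derivative_X_pow, eval_mul, eval_C, eval_pow, eval_X, one_pow, mul_one,
      eval_natCast]
    rw [show (∑ i : ZMod p, castK k p i⁻¹ * (i.val : k)) = ∑ i : ZMod p, castK k p (i⁻¹ * i) from
      Finset.sum_congr rfl fun i _ => by
        rw [map_mul, ← castK_natCast (k := k) (p := p) i.val, ZMod.natCast_zmod_val],
      ← map_sum, sum_inv_mul_self, map_neg, map_one]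
  obtain ⟨Q1, hQ1'⟩ := X_dvd_iff.mpr hQ0
  obtain ⟨g, hg⟩ : Polynomial.X ∣ Q1 + 1 := by
    rw [X_dvd_iff, coeff_add, coeff_one_zero]
    have : Q1.coeff 0 = -1 := by rw [← hQ1, hQ1', coeff_X_mul]
    rw [this]
    ring
  refine ⟨g, ?_⟩
  have h : Q = -Polynomial.X * (1 - Polynomial.X * g) := by
    rw [hQ1', ← hg]; ring
  have h3 := congrArg (aeval (X - 1)) h
  rw [hQ, aeval_comp, map_add, aeval_X, map_one, sub_add_cancel] at h3
  simp only [map_mul, map_neg, map_sub, map_one, aeval_X] at h3
  rw [← h3, hP, map_sum]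
  exact Finset.sum_congr rfl fun i _ => by
    rw [map_mul, aeval_C, map_pow, aeval_X, Algebra.smul_def]

/-- Commutation with the eigenoperator. -/
theorem commute_dop {X Z : R} (h : Commute Z X) : Commute Z (dop k p X) :=
  Commute.sum_right _ _ _ fun _ _ => (h.pow_right _).smul_right _

variable {X : R}

variable (k) in
include k in
theorem sub_one_pow_p (hX : X ^ p = 1) : (X - 1) ^ p = 0 := by
  rcases subsingleton_or_nontrivial R with h | h
  · exact Subsingleton.elim _ _
  haveI : CharP R p := charP_of_injective_algebraMap (algebraMap k R).injective p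
  rw [sub_pow_char_of_commute (p := p) (Commute.one_right X), hX, one_pow, sub_self]

theorem dop_pow (h2 : p ≠ 2) (n : ℕ) : ∃ g : k[X],
    dop k p X ^ n = (-1) ^ n * ((X - 1) ^ n * (1 - (X - 1) * aeval (X - 1) g)) := by
  obtain ⟨g, hg⟩ := dop_expand (k := k) h2 X
  have hQ : dop k p X ^ n = aeval (X - 1) ((-1) ^ n * (Polynomial.X ^ n * (1 - Polynomial.X * g) ^ n)) := by
    rw [hg, show -(X - 1) * (1 - (X - 1) * aeval (X - 1) g) =
      aeval (X - 1) (-Polynomial.X * (1 - Polynomial.X * g) : k[X]) by simp only [map_mul, map_neg, map_sub, map_one, aeval_X], ← map_pow]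
    congr 1
    rw [mul_pow, neg_pow, mul_assoc]
  obtain ⟨g', hg'⟩ : Polynomial.X ∣ 1 - (1 - Polynomial.X * g) ^ n := by
    have h := sub_dvd_pow_sub_pow (1 : k[X]) (1 - Polynomial.X * g) n
    rw [one_pow, sub_sub_cancel] at h
    exact (Dvd.intro g rfl).trans h
  refine ⟨g', ?_⟩
  rw [hQ, show (1 - Polynomial.X * g) ^ n = 1 - Polynomial.X * g' by rw [← hg']; ring]
  simp

/-- `X - 1` lies in the algebra generated by the eigenoperator. -/
theorem sub_one_mem (h2 : p ≠ 2) (hX : X ^ p = 1) :
    X - 1 ∈ Algebra.adjoin k {dop k p X} := by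
  set S := Algebra.adjoin k {dop k p X}
  have key : ∀ j n : ℕ, p ≤ n + j → (X - 1) ^ n ∈ S := by
    intro j
    induction j with
    | zero =>
      intro n hn
      rw [pow_eq_zero_of_le (by omega) (sub_one_pow_p k hX)]
      exact zero_mem _
    | succ j ih =>
      intro n hn
      obtain ⟨g, hg⟩ := dop_pow (k := k) (X := X) h2 n
      have hsmall : ∀ q : k[X], (X - 1) ^ (n + 1) * aeval (X - 1) q ∈ S := by
        intro q
        induction q using Polynomial.induction_on' with
        | add a b ha hb => rw [map_add, mul_add]; exact add_mem ha hb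
        | monomial m c =>
          rw [aeval_monomial, ← Algebra.smul_def, mul_smul_comm, ← pow_add]
          exact Subalgebra.smul_mem S (ih _ (by omega)) c
      have e : (X - 1) ^ n = (-1) ^ n * dop k p X ^ n + (X - 1) ^ (n + 1) * aeval (X - 1) g := by
        have h1 : ((-1 : R) ^ n) * (-1) ^ n = 1 := by rw [← (Commute.refl (-1 : R)).mul_pow, neg_mul_neg, one_mul, one_pow]
        rw [hg, ← mul_assoc, h1, one_mul, mul_sub, mul_one, ← mul_assoc, ← pow_succ, sub_add_cancel]
      rw [e]
      exact add_mem (mul_mem (pow_mem (neg_mem (one_mem _)) n)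
        (pow_mem (Algebra.self_mem_adjoin_singleton _ _) n)) (hsmall g)
  simpa using key p 1 (by omega)

theorem exists_dop_pow_eq (h2 : p ≠ 2) (hX : X ^ p = 1) (n : ℕ) :
    ∃ U W : R, dop k p X ^ n = (X - 1) ^ n * U ∧ (X - 1) ^ n = dop k p X ^ n * W ∧
      Commute U (X - 1) ∧ Commute W (X - 1) := by
  obtain ⟨g, hg⟩ := dop_pow (k := k) (X := X) h2 n
  set s := (X - 1) * aeval (X - 1) g with hs
  have hcg : Commute (aeval (X - 1) g) (X - 1) := by
    have := (Commute.all g (Polynomial.X : k[X])).map (aeval (R := k) (X - 1))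
    rwa [aeval_X] at this
  have hsA : Commute s (X - 1) := (Commute.refl _).mul_left hcg
  have hnil : s ^ p = 0 := by rw [hs, hcg.symm.mul_pow, sub_one_pow_p k hX, zero_mul]
  have hinv : (1 - s) * ∑ i ∈ range p, s ^ i = 1 := by rw [mul_neg_geom_sum, hnil, sub_zero]
  have hsq : ((-1 : R) ^ n) * (-1) ^ n = 1 := by rw [← (Commute.refl (-1 : R)).mul_pow, neg_mul_neg, one_mul, one_pow]
  have hneg : Commute ((-1 : R) ^ n) (X - 1) := ((Commute.one_left _).neg_left).pow_left n
  refine ⟨(-1) ^ n * (1 - s), (-1) ^ n * ∑ i ∈ range p, s ^ i, ?_, ?_, ?_, ?_⟩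
  · rw [hg, ← mul_assoc, (hneg.pow_right n).eq, mul_assoc]
  · have hc1 : Commute (1 - s) ((-1 : R) ^ n) := ((Commute.one_right _).neg_right).pow_right n
    rw [hg]
    simp only [mul_assoc]
    rw [← mul_assoc (1 - s) ((-1 : R) ^ n), hc1.eq, mul_assoc, hinv, mul_one,
      ← (hneg.pow_right n).eq, ← mul_assoc, hsq, one_mul]
  · exact hneg.mul_left ((Commute.one_left _).sub_left hsA)
  · exact hneg.mul_left (Commute.sum_left _ _ _ fun i _ => hsA.pow_left i)

theorem dop_pow_p (h2 : p ≠ 2) (hX : X ^ p = 1) : dop k p X ^ p = 0 := by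
  obtain ⟨U, W, h, -, -, -⟩ := exists_dop_pow_eq (k := k) h2 hX p
  rw [h, sub_one_pow_p k hX, zero_mul]

end CfsgLib.Char.SmallDegree
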