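import Cfsg.Agent.Lib.Char.SmallDegree.Families
import Cfsg.Agent.Lib.Char.SmallDegree.Alt
import Cfsg.Agent.Lib.Char.PowTwist

/-!
# The power twists of a small character
-/

set_option autoImplicit false
set_option linter.unusedSectionVars false

namespace CfsgLib.Char.SmallDegree

open Cfsg CfsgLib.Block CfsgLib.Block.Cyclic CfsgLib.Char Finset
open scoped ComplexConjugate

universe u

variable {p : ℕ} [hpf : Fact p.Prime] {L : Type u} [Group L] [Fintype L] {e d : ℕ}
  {x y : L} {r : ZMod p} {χ : IrrCharacter L} {a : ZMod p} {ν : ℂ} {μ : L → ℂ}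

/-- The conjugate character. -/
theorem Small.conj' (h : Small x y r e d χ a ν μ) :
    Small x y r e d ⟨_, isIrrCharacter_conj χ.2⟩ (-a) (conj ν) fun g => conj (μ g) := by
  refine ⟨?_, fun i hi => ?_, fun l hl hl' => ?_, ?_, fun z hz => ?_⟩
  · rw [← h.deg]
    simp [charDegree]
  · show conj ((χ : L → ℂ) (x ^ i.val)) = _
    rw [h.val i hi, map_neg, map_sum]
    congr 1
    refine Finset.sum_congr rfl fun l _ => ?_
    rw [conj_stdPsi]
    congr 1
    ring
  · show conj ((χ : L → ℂ) (y ^ l)) = _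
    rw [h.valY l hl hl', map_pow]
  · rw [← map_pow, h.nuE]
  · show conj ((χ : L → ℂ) z) = _
    rw [h.cen z hz, map_mul, map_natCast]

theorem Small.mu_mul (h : Small x y r e d χ a ν μ) (D : NData p e x y r) :
    ∀ z ∈ Subgroup.center L, ∀ z' ∈ Subgroup.center L, μ (z * z') = μ z * μ z' := by
  intro z hz z' hz'
  have h1 := h.central_mul D hz z'
  rw [h.cen z' hz', h.cen _ (mul_mem hz hz')] at h1
  have hd : (d : ℂ) ≠ 0 := Nat.cast_ne_zero.mpr (h.deg ▸ (charDegree_eq χ).2)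
  exact mul_left_cancel₀ hd (by rw [h1]; ring)

theorem Small.mu_ne_zero (h : Small x y r e d χ a ν μ) (D : NData p e x y r) :
    ∀ z ∈ Subgroup.center L, μ z ≠ 0 := fun z hz h0 => by
  have := h.norm_mu D hz
  rw [h0, norm_zero] at this
  exact zero_ne_one this

/-- The twists form a family of negative sign. -/
theorem Small.exists_eta (h : Small x y r e d χ a ν μ) (D : NData p e x y r) (hde : d + e = p)
    (hodd : Odd (Nat.card (Subgroup.center L))) :
    ∃ F : Fam x r e (fun z => μ z * μ z), F.δ = -1 := by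
  classical
  have hp : p.Prime := hpf.out
  have hdvd : p ∣ Nat.card L := D.ord ▸ orderOf_dvd_natCard x
  set n0 := Nat.card L / p with hn0
  have hN : Nat.card L = n0 * p := (Nat.div_mul_cancel hdvd).symm
  have hcop : n0.Coprime p := (hp.coprime_iff_not_dvd.mpr fun hd => D.not_sq (by
    rw [pow_two, hN]; exact Nat.mul_dvd_mul_right hd p)).symm
  have hn0pos : n0 ≠ 0 := fun h0 => by rw [h0, zero_mul] at hN; exact Nat.card_pos.ne' hN
  obtain ⟨s, m, hm, hsm⟩ := Nat.exists_eq_two_pow_mul_odd hn0pos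
  have h2m : (2 ^ s).Coprime m := (Nat.coprime_two_left.mpr hm).pow_left _
  obtain ⟨b, hb1, hb2⟩ := Nat.chineseRemainder h2m 1 2
  have hbn : b.Coprime n0 := by
    rw [hsm, Nat.coprime_mul_iff_right]
    refine ⟨?_, ?_⟩
    · rw [Nat.Coprime, hb1.gcd_eq]; simp
    · rw [Nat.Coprime, hb2.gcd_eq]; exact Nat.coprime_two_left.mpr hm
  have ha := h.a_ne_zero D hde
  set ea : (ZMod p)ˣ → ℕ := fun u =>
    (Nat.chineseRemainder hcop b ((u : ZMod p) * a⁻¹).val : ℕ) with hea
  have he1 : ∀ u, ea u ≡ b [MOD n0] := fun u => (Nat.chineseRemainder hcop b _).2.1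
  have he2 : ∀ u, (ea u : ZMod p) = (u : ZMod p) * a⁻¹ := fun u => by
    rw [(ZMod.natCast_eq_natCast_iff _ _ _).mpr (Nat.chineseRemainder hcop b _).2.2,
      ZMod.natCast_zmod_val]
  have hne : ∀ u, ¬ p ∣ ea u := fun u hd => by
    have h1 : (ea u : ZMod p) = 0 := (ZMod.natCast_eq_zero_iff _ _).mpr hd
    rw [he2] at h1
    exact mul_ne_zero u.ne_zero (inv_ne_zero ha) h1
  have hco : ∀ u, (Nat.card L).Coprime (ea u) := fun u => by
    rw [hN, Nat.coprime_comm, Nat.coprime_mul_iff_right]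
    exact ⟨by rw [Nat.Coprime, (he1 u).gcd_eq]; exact hbn, (hp.coprime_iff_not_dvd.mpr (hne u)).symm⟩
  have hreg0 : ∀ g : L, ¬ p ∣ orderOf g → orderOf g ∣ n0 := fun g hg => by
    have h1 := orderOf_dvd_natCard g
    rw [hN] at h1
    exact (hp.coprime_iff_not_dvd.mpr hg).symm.dvd_of_dvd_mul_right h1
  have hcreg : ∀ z ∈ Subgroup.center L, ¬ p ∣ orderOf z ∧ Odd (orderOf z) := fun z hz => by
    have hd : orderOf z ∣ Nat.card (Subgroup.center L) := by
      have := orderOf_dvd_natCard (⟨z, hz⟩ : Subgroup.center L)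
      rwa [Subgroup.orderOf_mk] at this
    exact ⟨fun h1 => D.center_reg (h1.trans hd), hodd.of_dvd_nat hd⟩
  have hzpow : ∀ u, ∀ z ∈ Subgroup.center L, z ^ ea u = z * z := fun u z hz => by
    obtain ⟨hzp, hzo⟩ := hcreg z hz
    have hd : orderOf z ∣ 2 ^ s * m := hsm ▸ hreg0 z hzp
    have hdm : orderOf z ∣ m := ((Nat.coprime_two_right.mpr hzo).pow_right _).dvd_of_dvd_mul_left hd
    rw [← pow_two]
    exact pow_eq_pow_iff_modEq.mpr (((he1 u).of_dvd (hreg0 z hzp)).trans (hb2.of_dvd hdm))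
  set θ : (ZMod p)ˣ → IrrCharacter L := fun u => ⟨_, isIrrCharacter_powMap (hco u) χ⟩ with hθ
  have hval : ∀ u : (ZMod p)ˣ, ∀ i : ZMod p, i ≠ 0 → (θ u : L → ℂ) (x ^ i.val) =
      ((-1 : ℤ) : ℂ) * ∑ l ∈ range e, stdPsi p (i * ((u : ZMod p) * r ^ l)) := by
    intro u i hi
    show (χ : L → ℂ) ((x ^ i.val) ^ ea u) = _
    have h1 : (x ^ i.val) ^ ea u = x ^ (i * ((u : ZMod p) * a⁻¹)).val := by
      rw [← pow_mul, ZMod.val_mul, ← he2 u, ZMod.val_natCast, ← pow_eq_pow_mod _ D.pow_p]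
      exact pow_eq_pow_iff_modEq.mpr (D.ord ▸ ((Nat.mod_modEq (ea u) p).symm.mul_left i.val))
    rw [h1, h.val _ (mul_ne_zero hi (mul_ne_zero u.ne_zero (inv_ne_zero ha)))]
    push_cast
    rw [neg_one_mul, neg_inj]
    refine Finset.sum_congr rfl fun l _ => ?_
    congr 1
    field_simp
  have hcen : ∀ u, ∀ z ∈ Subgroup.center L, ∀ g, (θ u : L → ℂ) (z * g) = μ z * μ z * (θ u : L → ℂ) g := by
    intro u z hz g
    show (χ : L → ℂ) ((z * g) ^ ea u) = _
    rw [(show Commute z g from (Subgroup.mem_center_iff.mp hz g).symm).mul_pow, hzpow u z hz,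
      h.central_mul D (mul_mem hz hz), h.mu_mul D z hz z hz]
  have hone : ∀ u, (θ u : L → ℂ) 1 = (d : ℂ) := fun u => by
    show (χ : L → ℂ) (1 ^ ea u) = _
    rw [one_pow, h.apply_one]
  have hreg : ∀ u v g, ¬ p ∣ orderOf g → (θ u : L → ℂ) g = (θ v : L → ℂ) g := by
    intro u v g hg
    show (χ : L → ℂ) (g ^ ea u) = (χ : L → ℂ) (g ^ ea v)
    rw [pow_eq_pow_iff_modEq.mpr (((he1 u).of_dvd (hreg0 g hg)).trans ((he1 v).of_dvd (hreg0 g hg)).symm)]
  refine ⟨⟨θ, 1, -1, Or.inr rfl, hval, fun u => ?_, fun u z hz => ?_, hreg, fun u v => ⟨fun huv => ?_, ?_⟩⟩,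
    rfl⟩
  · have h1 : charDegree (θ u : L → ℂ) = d := by
      have h2 := (charDegree_eq (θ u)).1
      rw [hone] at h2
      exact_mod_cast h2.symm
    rw [h1, ← hde]
    push_cast
    ring
  · have h1 := hcen u z hz 1
    rw [mul_one] at h1
    rw [h1, mul_comm]
  · refine orbit_eq_of_sum_eq D.prim D.e_ne_zero v.ne_zero fun i hi => ?_
    have h1 := hval u i hi
    rw [huv, hval v i hi] at h1
    exact mul_left_cancel₀ (by norm_num) h1.symm
  · rintro ⟨l, hl, hv⟩
    refine Subtype.ext (funext fun g => ?_)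
    by_cases hg : p ∣ orderOf g
    · obtain ⟨c, z, i, hz, hi, hcg⟩ := D.sing g hg
      have hi0 : (i : ZMod p) ≠ 0 := by rwa [Ne, ZMod.natCast_eq_zero_iff]
      have hxi : x ^ i = x ^ (i : ZMod p).val := by
        rw [ZMod.val_natCast, ← pow_eq_pow_mod _ D.pow_p]
      rw [← isClassFunction_irr (θ u) g c, ← isClassFunction_irr (θ v) g c, hcg, hxi,
        Subgroup.mem_center_iff.mp hz, hcen u z hz, hcen v z hz, hval u _ hi0, hval v _ hi0, hv]
      congr 2
      rw [← sum_rot D.prim.pow_eq_one (fun w => stdPsi p ((i : ZMod p) * ((u : ZMod p) * w))) l]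
      exact Finset.sum_congr rfl fun l' _ => by rw [mul_comm (r ^ l') (r ^ l), mul_assoc]
    · exact hreg u v g hg

end CfsgLib.Char.SmallDegree
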