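import Cfsg.Agent.Lib.Char.SmallDegree.Cases
import Cfsg.Agent.Lib.Block.Cyclic.SylowCount
import Cfsg.Agent.Lib.Block.Cyclic.HalfShape
import Mathlib.Data.Nat.ChineseRemainder

/-!
# Families of exceptional shape
-/

set_option autoImplicit false
set_option linter.unusedSectionVars false

namespace CfsgLib.Char.SmallDegree

open Cfsg CfsgLib.Block CfsgLib.Block.Cyclic CfsgLib.Char Finset
open scoped ComplexConjugate

universe u

variable {p : ℕ} [hpf : Fact p.Prime] {L : Type u} [Group L] [Fintype L] {e d t : ℕ}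
  {x y : L} {r : ZMod p}

theorem NData.ne_one (D : NData p e x y r) : x ≠ 1 := fun h =>
  hpf.out.one_lt.ne (by rw [← D.ord, h, orderOf_one])

theorem NData.normalizes_y (D : NData p e x y r) :
    y ∈ Subgroup.normalizer (Subgroup.zpowers x : Set L) := by
  refine Subgroup.mem_normalizer_iff_map_conj_eq.mpr ?_
  rw [MonoidHom.map_zpowers]
  show Subgroup.zpowers (y * x * y⁻¹) = Subgroup.zpowers x
  refine Subgroup.eq_of_le_of_card_ge ?_ ?_
  · rw [Subgroup.zpowers_le, D.conj]
    exact Subgroup.pow_mem _ (Subgroup.mem_zpowers x) _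
  · rw [Nat.card_zpowers, Nat.card_zpowers, ← MulAut.conj_apply, MulEquiv.orderOf_eq]

theorem NData.mem_centralizer_iff (D : NData p e x y r) (g : L) :
    g ∈ Subgroup.center L ↔
      g ∈ Subgroup.centralizer (Subgroup.zpowers x : Set L) ∧ ¬ p ∣ orderOf g := by
  constructor
  · refine fun hg => ⟨Subgroup.mem_centralizer_iff.mpr fun h _ => Subgroup.mem_center_iff.mp hg h,
      fun hd => D.center_reg (hd.trans ?_)⟩
    have := orderOf_dvd_natCard (⟨g, hg⟩ : Subgroup.center L)
    rwa [Subgroup.orderOf_mk] at this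
  · rintro ⟨hg, hreg⟩
    obtain ⟨i, l, z, hz, rfl⟩ := D.norm g (Subgroup.centralizer_le_normalizer _ hg)
    have hx : x * (x ^ i * y ^ l * z) = x ^ i * y ^ l * z * x :=
      Subgroup.mem_centralizer_iff.mp hg x (Subgroup.mem_zpowers x)
    have h1 : x ^ (r ^ l).val = x := by
      rw [← D.conj_pow_l l]
      have hxz := Subgroup.mem_center_iff.mp hz x
      have h2 : x ^ i * (x * y ^ l) * z = x ^ i * (y ^ l * x) * z := by
        calc x ^ i * (x * y ^ l) * z = x * (x ^ i * y ^ l * z) := by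
              rw [← mul_assoc (x ^ i), ← pow_succ, pow_succ']; group
          _ = x ^ i * y ^ l * z * x := hx
          _ = x ^ i * (y ^ l * x) * z := by simp only [mul_assoc, hxz]
      rw [mul_inv_eq_iff_eq_mul]
      exact (mul_left_cancel (mul_right_cancel h2)).symm
    have h2 : r ^ l = 1 := by
      apply ZMod.val_injective
      rw [ZMod.val_one]
      refine pow_injOn_Iio_orderOf (x := x) ?_ ?_ (h1.trans (pow_one x).symm)
      · rw [D.ord]; exact ZMod.val_lt _
      · rw [D.ord]; exact hpf.out.one_lt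
    obtain ⟨m, rfl⟩ := D.prim.dvd_of_pow_eq_one l h2
    set w := y ^ (e * m) * z with hw
    have hwc : w ∈ Subgroup.center L := by
      rw [hw, pow_mul]; exact mul_mem (Subgroup.pow_mem _ D.pow_mem m) hz
    rw [mul_assoc, ← hw] at hreg ⊢
    have hwr : ¬ p ∣ orderOf w := fun hd => D.center_reg (hd.trans (by
      have := orderOf_dvd_natCard (⟨w, hwc⟩ : Subgroup.center L)
      rwa [Subgroup.orderOf_mk] at this))
    by_cases hi : x ^ i = 1
    · rw [hi, one_mul]; exact hwc
    · refine absurd ?_ hreg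
      have hcom : Commute (x ^ i) w := Subgroup.mem_center_iff.mp hwc (x ^ i)
      have hord : orderOf (x ^ i) = p := orderOf_eq_prime
        (by rw [← pow_mul, mul_comm, pow_mul, D.pow_p, one_pow]) hi
      rw [hcom.orderOf_mul_eq_mul_orderOf_of_coprime (by rw [hord]; exact hpf.out.coprime_iff_not_dvd.mpr hwr),
        hord]
      exact dvd_mul_right p _

theorem stdPsi_fourier (v : ZMod p) (s : Finset ℕ) (w : ℕ → ZMod p) :
    ∑ i ∈ univ.erase (0 : ZMod p), (∑ l ∈ s, stdPsi p (i * w l)) * stdPsi p (-(i * v)) =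
      (p : ℂ) * (s.filter fun l => w l = v).card - s.card := by
  rw [Finset.sum_congr rfl (g := fun i => ∑ l ∈ s, stdPsi p (i * (w l - v))) fun i _ => by
    rw [Finset.sum_mul]
    refine Finset.sum_congr rfl fun l _ => ?_
    rw [← AddChar.map_add_eq_mul]; congr 1; ring,
    Finset.sum_comm, Finset.sum_congr rfl fun l _ => sum_stdPsi_erase _, Finset.sum_sub_distrib,
    Finset.sum_ite, Finset.sum_const, Finset.sum_const_zero, add_zero, Finset.sum_const]
  simp only [nsmul_eq_mul, mul_one, sub_eq_zero]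
  ring

/-- Equal orbit sums have equal orbits. -/
theorem orbit_eq_of_sum_eq (hr : IsPrimitiveRoot r e) (he : e ≠ 0) {a b : ZMod p} (hb : b ≠ 0)
    (h : ∀ i : ZMod p, i ≠ 0 →
      ∑ l ∈ range e, stdPsi p (i * (a * r ^ l)) = ∑ l ∈ range e, stdPsi p (i * (b * r ^ l))) :
    ∃ l < e, b = a * r ^ l := by
  have h1 := stdPsi_fourier b (range e) fun l => a * r ^ l
  rw [Finset.sum_congr rfl fun i hi => by rw [h i (mem_erase.mp hi).1],
    stdPsi_fourier b (range e) fun l => b * r ^ l] at h1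
  have h0 : 0 < ((range e).filter fun l => b * r ^ l = b).card := card_pos.mpr ⟨0, by
    simp [Nat.pos_of_ne_zero he]⟩
  have h2 : ((range e).filter fun l => b * r ^ l = b).card =
      ((range e).filter fun l => a * r ^ l = b).card := by
    have h3 := mul_left_cancel₀ (Nat.cast_ne_zero.mpr hpf.out.ne_zero : (p : ℂ) ≠ 0) (sub_left_inj.mp h1)
    exact_mod_cast h3
  rw [h2] at h0
  obtain ⟨l, hl⟩ := card_pos.mp h0
  rw [mem_filter, mem_range] at hl
  exact ⟨l, hl.1, hl.2.symm⟩

theorem exists_coset_iff (hr : IsPrimitiveRoot r e) (he : e ≠ 0) (E : Subgroup (ZMod p)ˣ)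
    (hE : ∀ s : (ZMod p)ˣ, s ∈ E ↔ ∃ l < e, (s : ZMod p) = r ^ l) (u v : (ZMod p)ˣ) :
    u⁻¹ * v ∈ E ↔ ∃ l < e, (v : ZMod p) = (u : ZMod p) * r ^ l := by
  rw [hE]
  refine exists_congr fun l => and_congr_right fun _ => ?_
  rw [Units.val_mul]
  constructor
  · intro h; rw [← h, Units.mul_inv_cancel_left]
  · intro h; rw [h, Units.inv_mul_cancel_left]

/-- The characters of a block with a linear character of the centre. -/
theorem exists_fam (D : NData p e x y r) (lam : L → ℂ)
    (hmul : ∀ z ∈ Subgroup.center L, ∀ z' ∈ Subgroup.center L, lam (z * z') = lam z * lam z')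
    (hne : ∀ z ∈ Subgroup.center L, lam z ≠ 0) : Nonempty (Fam x r e lam) := by
  classical
  obtain ⟨M, hM⟩ := exists_pModular hpf.out
  haveI := hM.2.1
  have hone : lam 1 = 1 := by
    have h := hmul 1 (one_mem _) 1 (one_mem _)
    rw [one_mul] at h
    exact (mul_left_eq_self₀.mp h.symm).resolve_right (hne 1 (one_mem _))
  let φ : Subgroup.center L →* ℂˣ :=
    MonoidHom.mk' (fun z => Units.mk0 (lam z) (hne z z.2)) fun a b => Units.ext (hmul a a.2 b b.2)
  let S : CycSetup p L :=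
    { Q := Subgroup.zpowers x
      x := x
      K := Subgroup.center L
      φ := ⟨_, isIrrCharacter_lin φ⟩
      hQ := by rw [Nat.card_zpowers, D.ord]
      hsq := D.not_sq
      hx := Subgroup.mem_zpowers x
      hx1 := D.ne_one
      hK := D.mem_centralizer_iff }
  let _ : Fintype S.K := Fintype.ofFinite _
  let _ : Fintype (Subgroup.centralizer (S.Q : Set L)) := Fintype.ofFinite _
  have hφv : ∀ z : S.K, (S.φ : S.K → ℂ) z = lam (z : L) := fun z => rfl
  have hconj : ∀ (n : L) (hn : n ∈ Subgroup.normalizer (S.Q : Set L)),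
      conjKChar S.hQ S.hK hn S.φ = S.φ := fun n hn => Subtype.ext (funext fun z => by
    show (S.φ : S.K → ℂ) (conjK S.hQ S.hK (inv_mem hn) z) = (S.φ : S.K → ℂ) z
    rw [show conjK S.hQ S.hK (inv_mem hn) z = z from Subtype.ext (by
      show n⁻¹ * (z : L) * n⁻¹⁻¹ = z
      rw [Subgroup.mem_center_iff.mp z.2 n⁻¹, mul_inv_cancel_right])])
  have horb : ∀ φ', S.InOrbit φ' → φ' = S.φ := by
    rintro φ' ⟨n, hn, rfl⟩
    exact hconj n hn
  have hexpo : ∀ (i l : ℕ) (z : L) (_ : z ∈ Subgroup.center L)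
      (hn : x ^ i * y ^ l * z ∈ Subgroup.normalizer (S.Q : Set L)),
      S.expo0 ⟨_, hn⟩ = r ^ l := by
    intro i l z hz hn
    refine S.xp_injective ?_
    rw [S.expo0_spec]
    show x ^ i * y ^ l * z * x * (x ^ i * y ^ l * z)⁻¹ = x ^ (r ^ l).val
    rw [show x ^ i * y ^ l * z * x * (x ^ i * y ^ l * z)⁻¹ =
        x ^ i * (y ^ l * (z * x * z⁻¹) * (y ^ l)⁻¹) * (x ^ i)⁻¹ by group,
      ← Subgroup.mem_center_iff.mp hz x, mul_inv_cancel_right, D.conj_pow_l]
    group
  have hE : ∀ s : (ZMod p)ˣ, s ∈ S.expE ↔ ∃ l < e, (s : ZMod p) = r ^ l := by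
    intro s
    constructor
    · rintro ⟨⟨n, hn⟩, rfl⟩
      obtain ⟨i, l, z, hz, rfl⟩ := D.norm n hn.1
      refine ⟨l % e, Nat.mod_lt _ (Nat.pos_of_ne_zero D.e_ne_zero), ?_⟩
      show (S.expo ⟨_, hn.1⟩ : ZMod p) = _
      rw [S.coe_expo, hexpo i l z hz, ← pow_eq_pow_mod _ D.prim.pow_eq_one]
    · rintro ⟨l, -, hs⟩
      have hmem : x ^ 0 * y ^ l * 1 ∈ Subgroup.normalizer (S.Q : Set L) := by
        rw [pow_zero, one_mul, mul_one]; exact Subgroup.pow_mem _ D.normalizes_y l
      refine ⟨⟨_, ⟨hmem, hconj _ hmem⟩⟩, Units.ext ?_⟩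
      show (S.expo ⟨_, hmem⟩ : ZMod p) = _
      rw [S.coe_expo, hexpo 0 l 1 (one_mem _) hmem, hs]
  have hcardE : Nat.card S.expE = e := by
    rw [Nat.card_eq_fintype_card, Fintype.card_subtype]
    conv_rhs => rw [← card_coset_filter D.prim D.e_ne_zero 1]
    congr 1
    exact filter_congr fun s _ => by rw [hE, Units.val_one]; simp only [one_mul]
  obtain ⟨B, hB⟩ := S.exists_blockData hM
  obtain ⟨E⟩ := S.exists_exceptional_family hM hB
  have := Fintype.ofFinite (IrrCharacter S.K)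
  set Y : (ZMod p)ˣ → IrrCharacter L := fun u => E.Y (u : (ZMod p)ˣ ⧸ S.expE) with hY
  have hvec : ∀ u v : (ZMod p)ˣ, S.vec (Y u) v =
      E.δ * (if ∃ l < e, (v : ZMod p) = (u : ZMod p) * r ^ l then 1 else 0) := fun u v => by
    rw [hY, E.vec_Y]
    congr 1
    exact if_congr (QuotientGroup.eq.trans (exists_coset_iff D.prim D.e_ne_zero _ hE u v)) rfl rfl
  -- the values
  have hdval : ∀ u, ∀ i : ZMod p, i ≠ 0 →
      S.dval (Y u : L → ℂ) i = (E.δ : ℂ) * ∑ l ∈ range e, stdPsi p (i * ((u : ZMod p) * r ^ l)) := by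
    intro u i hi
    rw [S.dval_eq_sum_vec _ hi, sum_zmod_split, S.vec_zero, Int.cast_zero, mul_zero, zero_add]
    rw [Finset.sum_congr rfl (g := fun v : (ZMod p)ˣ => if ∃ l < e, (v : ZMod p) = (u : ZMod p) * r ^ l
        then (E.δ : ℂ) * stdPsi p (i * (v : ZMod p)) else 0) fun v _ => by
      rw [hvec]; split_ifs <;> push_cast <;> ring]
    rw [← Finset.sum_filter, ← Finset.mul_sum]
    congr 1
    refine (Finset.sum_bij (fun l _ => u * Units.mk0 r D.r_ne_zero ^ l) (fun l hl => ?_) ?_ ?_ ?_).symm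
    · rw [mem_filter]
      exact ⟨mem_univ _, l, mem_range.mp hl, by
        rw [Units.val_mul, Units.val_pow_eq_pow_val, Units.val_mk0]⟩
    · intro l hl l' hl' h
      have h1 := congrArg Units.val (mul_left_cancel h)
      rw [Units.val_pow_eq_pow_val, Units.val_pow_eq_pow_val, Units.val_mk0] at h1
      exact D.prim.pow_inj (mem_range.mp hl) (mem_range.mp hl') h1
    · intro v hv
      obtain ⟨-, l, hl, hv⟩ := mem_filter.mp hv
      exact ⟨l, mem_range.mpr hl, Units.ext (by
        rw [Units.val_mul, Units.val_pow_eq_pow_val, Units.val_mk0, hv])⟩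
    · intro l _
      rw [Units.val_mul, Units.val_pow_eq_pow_val, Units.val_mk0]
  have hxz : ∀ u, ∀ i : ZMod p, i ≠ 0 → ∀ z ∈ Subgroup.center L,
      (Y u : L → ℂ) (x ^ i.val * z) = S.dval (Y u : L → ℂ) i * lam z := by
    intro u i hi z hz
    rw [show x ^ i.val * z = S.xp i * ((⟨z, hz⟩ : S.K) : L) from rfl,
      value_eq_sum S.hQ S.hK (isClassFunction_irr _) (S.xp_mem i), Finset.sum_eq_single S.φ]
    · rw [hφv]; rfl
    · intro φ' _ hne
      rw [hB.sec_out _ (E.mem_of_range _) φ' (fun ho => hne (horb φ' ho)) i hi, zero_mul]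
    · exact fun h => absurd (mem_univ _) h
  have hcen : ∀ u, ∀ z ∈ Subgroup.center L, (Y u : L → ℂ) z = (Y u : L → ℂ) 1 * lam z := by
    intro u z hz
    obtain ⟨i, hi, hne⟩ : ∃ i : ZMod p, i ≠ 0 ∧ S.dval (Y u : L → ℂ) i ≠ 0 := by
      by_contra hc
      push Not at hc
      have h1 := hvec u u
      rw [S.vec_eq_zero hc, if_pos ⟨0, Nat.pos_of_ne_zero D.e_ne_zero, by rw [pow_zero, mul_one]⟩,
        mul_one] at h1
      rcases E.sign with e1 | e1 <;> omega
    have h1 := DegreePSubTwo.irr_central_mul (χ := Y u) hz (x ^ i.val)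
    rw [← Subgroup.mem_center_iff.mp hz, hxz u i hi z hz] at h1
    have h2 := hxz u i hi 1 (one_mem _)
    rw [mul_one, hone, mul_one] at h2
    rw [h2] at h1
    exact mul_right_cancel₀ hne (by rw [← h1]; ring)
  have hval : ∀ u : (ZMod p)ˣ, ∀ i : ZMod p, i ≠ 0 → (Y u : L → ℂ) (x ^ i.val) =
      (E.δ : ℂ) * ∑ l ∈ range e, stdPsi p (i * ((u : ZMod p) * r ^ l)) := fun u i hi => by
    have h2 := hxz u i hi 1 (one_mem _)
    rw [mul_one, hone, mul_one] at h2
    rw [h2, hdval u i hi]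
  have hdeg : ∀ u, (charDegree (Y u : L → ℂ) : ℤ) = p * S.multN (Y u) 0 + E.δ * e := by
    intro u
    have h0 : S.dval (Y u : L → ℂ) 0 = (Y u : L → ℂ) 1 := by
      show classInner (fun z : S.K => (Y u : L → ℂ) (S.xp 0 * (z : L))) (S.φ : S.K → ℂ) = _
      rw [show (fun z : S.K => (Y u : L → ℂ) (S.xp 0 * (z : L))) = (Y u : L → ℂ) 1 • (S.φ : S.K → ℂ) from
        funext fun z => by rw [S.xp_zero, one_mul, hcen u z z.2]; rfl,
        classInner_smul_left, classInner_irr_self, mul_one]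
    rw [S.dval_eq_sum_mult] at h0
    simp only [zero_mul, AddChar.map_zero_eq_one, one_mul, S.mult_eq, (charDegree_eq _).1] at h0
    have h1 : ((∑ j : ZMod p, S.multN (Y u) j : ℕ) : ℤ) = charDegree (Y u : L → ℂ) := by
      exact_mod_cast h0
    rw [← h1, Nat.cast_sum, sum_zmod_split,
      Finset.sum_congr rfl (g := fun v : (ZMod p)ˣ => (S.multN (Y u) 0 : ℤ) +
        E.δ * (if ∃ l < e, (v : ZMod p) = (u : ZMod p) * r ^ l then 1 else 0)) fun v _ => by
        rw [← hvec u v, CycSetup.vec]; ring,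
      Finset.sum_add_distrib, Finset.sum_const, Finset.card_univ, ZMod.card_units, nsmul_eq_mul,
      ← Finset.mul_sum, Finset.sum_boole, card_coset_filter D.prim D.e_ne_zero, Nat.cast_sub hpf.out.one_lt.le]
    push_cast
    ring
  have hreg : ∀ u v g, ¬ p ∣ orderOf g → (Y u : L → ℂ) g = (Y v : L → ℂ) g :=
    fun u v => E.regular_eq _ _
  refine ⟨⟨Y, S.multN (Y 1) 0, E.δ, E.sign, hval, fun u => ?_, hcen, hreg, fun u v => ?_⟩⟩
  · have h1 : charDegree (Y u : L → ℂ) = charDegree (Y 1 : L → ℂ) := by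
      have h := hreg u 1 1 (by simp [hpf.out.ne_one])
      rw [(charDegree_eq _).1, (charDegree_eq _).1] at h
      exact_mod_cast h
    rw [h1, hdeg 1]
  · rw [hY, E.inj.eq_iff, QuotientGroup.eq, exists_coset_iff D.prim D.e_ne_zero _ hE]

/-- A member of degree `e` is trivial in a perfect group. -/
theorem Fam.m0_pos (hperf : commutator L = ⊤) (D : NData p e x y r) {lam : L → ℂ} (F : Fam x r e lam)
    (he : 2 * e + 1 < p) : F.δ = 1 → 0 < F.m0 := by
  intro hδ
  rcases Nat.eq_zero_or_pos F.m0 with h0 | h0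
  · exfalso
    obtain ⟨n, ρ, hρ, hρθ⟩ := (F.θ 1).2
    have hn : charDegree (F.θ 1 : L → ℂ) = n := by
      rw [← hρθ]; simp [charDegree, Representation.char_one]
    have hdeg := F.deg 1
    rw [hδ, h0, hn] at hdeg
    push_cast at hdeg
    have hne : n = e := by omega
    subst hne
    have hx := trivial_of_small hperf D.not_sq D.ord ρ he
    have ha := F.a0 D 1
    rw [h0, ← hρθ] at ha
    have hc : ∀ i : ZMod p, ρ.character (x ^ i.val) = n := fun i => by
      show LinearMap.trace ℂ _ (ρ (x ^ i.val)) = _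
      rw [map_pow, hx, one_pow, LinearMap.trace_one, Module.finrank_fin_fun]
    simp only [hc, Finset.sum_const, Finset.card_univ, ZMod.card, nsmul_eq_mul, Nat.cast_zero] at ha
    rw [← mul_assoc, inv_mul_cancel₀ (Nat.cast_ne_zero.mpr hpf.out.ne_zero), one_mul] at ha
    exact D.e_ne_zero (by exact_mod_cast ha)
  · exact h0

end CfsgLib.Char.SmallDegree
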