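import Cfsg.Agent.Lib.Char.SmallDegree.Lift

/-!
# A projective two-dimensional representation from a character of degree `(p + 1) / 2`
-/

set_option autoImplicit false
set_option linter.unusedSectionVars false

namespace CfsgLib.Char.SmallDegree

open Cfsg CfsgLib.Block CfsgLib.Block.Cyclic CfsgLib.Char CfsgLib.Char.HalfDegree Matrix Finset

universe u

variable {p : ℕ} [hpf : Fact p.Prime] {L : Type u} [Group L] [Fintype L] {e : ℕ} {x y : L} {r : ZMod p}

/-- A character of degree `(p + 1) / 2` gives a projective representation of degree two. -/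
theorem exists_psi_middle (N : NData p e x y r) (hp11 : 11 ≤ p) (χ : IrrCharacter L)
    (hdeg : 2 * charDegree (χ : L → ℂ) = p + 1) (hcomm : x ∈ commutator L)
    (hgen : Subgroup.normalClosure {x} = ⊤) :
    ∃ (k : Type) (_ : Field k) (_ : IsAlgClosed k) (_ : CharP k p)
      (ψ : L →* Matrix.ProjGenLinGroup (Fin 2) k), ψ x ≠ 1 := by
  classical
  obtain ⟨M, hM⟩ := exists_pModular hpf.out
  haveI := hM.2.1
  haveI := charP_resField hM
  haveI := isAlgClosed_resField (M := M)
  obtain ⟨c, hc⟩ : ∃ c, charDegree (χ : L → ℂ) = c + 1 := ⟨charDegree (χ : L → ℂ) - 1, by omega⟩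
  have hcp : 2 * c + 1 = p := by omega
  have hc3 : c + 3 < p := by omega
  have hcp' : c < p := by omega
  set k := ResField M with hk
  obtain ⟨ρ, c1, htr, hc1, hρx, hρy⟩ := exists_model hM N (by omega) (by omega) χ hc
  set rr := castK k p r with hrr
  have hrr0 : rr ≠ 0 := castK_ne_zero N.r_ne_zero
  let ρk : L →* Matrix (Fin (c + 1)) (Fin (c + 1)) k := (resRam p M).mapMatrix.toMonoidHom.comp ρ
  set J : Matrix (Fin (c + 1)) (Fin (c + 1)) k := jmat with hJ
  set Ji : Matrix (Fin (c + 1)) (Fin (c + 1)) k := jinv with hJi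
  have hJJ : J * Ji = 1 := jmat_mul_jinv (p := p) hcp'
  have hJJ' : Ji * J = 1 := jinv_mul_jmat (p := p) hcp'
  let σ : L →* Module.End k (Matrix (Fin (c + 1)) (Fin (c + 1)) k) :=
    { toFun := fun g => (LinearMap.mulLeft k (ρk g)).comp (LinearMap.mulRight k (J * (ρk g)ᵀ * Ji))
      map_one' := LinearMap.ext fun f => by
        show ρk 1 * (f * (J * (ρk 1)ᵀ * Ji)) = f
        rw [map_one, transpose_one, mul_one, hJJ, one_mul, mul_one]
      map_mul' := fun g h => LinearMap.ext fun f => by
        show ρk (g * h) * (f * (J * (ρk (g * h))ᵀ * Ji)) =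
          ρk g * (ρk h * (f * (J * (ρk h)ᵀ * Ji)) * (J * (ρk g)ᵀ * Ji))
        rw [map_mul, transpose_mul]
        simp only [mul_assoc]
        rw [← mul_assoc Ji J, hJJ', one_mul] }
  have hσ : ∀ g f, σ g f = ρk g * (f * adjJ (ρk g)) := fun g f => rfl
  have hσx : σ x = adX := LinearMap.ext fun f => by
    rw [hσ, adX_apply, show ρk x = tmat 1 from hρx, adjJ_apply, jmat_tmat (p := p) hcp', mul_assoc]
  have hσy : σ y = adY (c1 * c1 * rr⁻¹ ^ c) rr := LinearMap.ext fun f => by
    rw [hσ, show ρk y = c1 • mmat rr from hρy, map_smul, adjJ_apply, jmat_mmat (p := p) hcp' hrr0]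
    show (c1 • mmat rr) * (f * (c1 • (rr⁻¹ ^ c • mmat rr⁻¹))) =
      (c1 * c1 * rr⁻¹ ^ c) • (mmat rr * (f * mmat rr⁻¹))
    simp only [smul_mul_assoc, mul_smul_comm, smul_smul]
    congr 1
    ring
  have hσz : ∀ z ∈ Subgroup.center L, ∃ a : k, σ z = a • 1 := by
    intro z hz
    obtain ⟨a, ha⟩ : ∃ a : k, ρk z = a • 1 := by
      obtain ⟨b, hb, -⟩ := exists_scalar_mat (Nat.succ_pos c) ρ χ htr hz
      refine ⟨resRam p M b, ?_⟩
      show (ρ z).map (resRam p M) = _
      rw [hb, Matrix.map_smul' (resRam p M) b 1 (map_mul _), Matrix.map_one _ (map_zero _) (map_one _)]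
    refine ⟨a * a, LinearMap.ext fun f => ?_⟩
    rw [hσ, ha, map_smul, adjJ_one (p := p) hcp']
    simp only [smul_mul_assoc, mul_smul_comm, one_mul, mul_one, smul_smul, LinearMap.smul_apply,
      Module.End.one_apply]
  have hcomm' : ∀ g f, adjJ (σ g f) = σ g (adjJ f) := fun g f => by
    rw [hσ, hσ, adjJ_mul (p := p) hcp', adjJ_mul (p := p) hcp', adjJ_adjJ (p := p) hcp', mul_assoc]
  obtain ⟨s, hs, hε⟩ : ∃ s : ℕ, (s = 1 ∨ s = 2) ∧ (-1 : k) ^ s = -((-1 : k) ^ c) := by
    rcases Nat.even_or_odd c with h | h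
    · exact ⟨1, Or.inl rfl, by rw [h.neg_one_pow, pow_one]⟩
    · exact ⟨2, Or.inr rfl, by rw [h.neg_one_pow]; simp⟩
  set ε : k := (-1 : k) ^ s with hεdef
  have h2 : (2 : k) ≠ 0 := by
    have : ((2 : ℕ) : k) ≠ 0 := by
      rw [Ne, CharP.cast_eq_zero_iff k p]
      exact Nat.not_dvd_of_pos_of_lt two_pos (by omega)
    simpa using this
  set V : Submodule k (Matrix (Fin (c + 1)) (Fin (c + 1)) k) := LinearMap.ker (adjJ - ε • 1) with hV
  have hmemV : ∀ f, f ∈ V ↔ adjJ f = ε • f := fun f => by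
    rw [hV, LinearMap.mem_ker, LinearMap.sub_apply, LinearMap.smul_apply, Module.End.one_apply, sub_eq_zero]
  have hσV : ∀ g, ∀ f ∈ V, σ g f ∈ V := fun g f hf => by
    rw [hmemV] at hf ⊢
    rw [hcomm', hf, map_smul]
  let τ : L →* Module.End k V :=
    { toFun := fun g => (σ g).restrict (hσV g)
      map_one' := LinearMap.ext fun v => Subtype.ext (by simp [map_one])
      map_mul' := fun a b => LinearMap.ext fun v => Subtype.ext (by simp [map_mul]) }
  have hKV : ∀ f ∈ (kSp s : Submodule k (Matrix (Fin (c + 1)) (Fin (c + 1)) k)), f ∈ V := by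
    intro f hf
    unfold kSp at hf
    induction hf using Submodule.span_induction with
    | mem f hf =>
      obtain ⟨i, rfl⟩ := hf
      rw [hmemV]
      have hc' : Commute (adjJ : Module.End k (Matrix (Fin (c + 1)) (Fin (c + 1)) k)) adA :=
        (show Commute (adjJ : Module.End k (Matrix (Fin (c + 1)) (Fin (c + 1)) k)) adX from
          LinearMap.ext fun u => adjJ_adX (p := p) hcp' u).sub_right (Commute.one_right _)
      rw [← Module.End.mul_apply, (hc'.pow_right (i : ℕ)).eq, Module.End.mul_apply,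
        adjJ_ymat_pow (p := p) hcp', map_smul]
    | zero => exact zero_mem _
    | add f g _ _ hf hg => exact add_mem hf hg
    | smul a f _ hf => exact Submodule.smul_mem _ _ hf
  obtain ⟨π₀, hπmem, hπfix, hπcomm⟩ := exists_proj (k := k) (c := c) (p := p) hc3 hs (by omega)
  let π : Module.End k V := π₀.restrict fun f _ => hKV _ (hπmem f)
  have hππ : π * π = π := LinearMap.ext fun v => Subtype.ext (hπfix _ (hπmem _))
  have hD : LocData p x := N.locData
  have hinjσ : ∀ g, Function.Injective (σ g) := fun g a b hab => by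
    have := congrArg (σ g⁻¹) hab
    rwa [← Module.End.mul_apply, ← Module.End.mul_apply, ← map_mul, inv_mul_cancel, map_one,
      Module.End.one_apply, Module.End.one_apply] at this
  have hNc : ∀ n ∈ Subgroup.normalizer (Subgroup.zpowers x : Set L), τ n * π = π * τ n := by
    have hx' : Commute (σ x) π₀ := by
      refine hπcomm _ 1 (hinjσ x) (fun f g => ?_) fun f hf => by rw [hσx]; exact adX_mem_kSp hf
      rw [hσx, ← adX_mul, adX_apply, one_mul, Matrix.trace_mul_comm, ← mul_assoc, tmat_neg_mul_one,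
        one_mul]
    have hy' : Commute (σ y) π₀ := by
      refine hπcomm _ ((c1 * c1 * rr⁻¹ ^ c) * (c1 * c1 * rr⁻¹ ^ c)) (hinjσ y) (fun f g => ?_) fun f hf => by
        rw [hσy]; exact adY_mem_kSp N.r_ne_zero hf
      rw [hσy]
      show (((c1 * c1 * rr⁻¹ ^ c) • (mmat rr * (f * mmat rr⁻¹))) *
        ((c1 * c1 * rr⁻¹ ^ c) • (mmat rr * (g * mmat rr⁻¹)))).trace = _
      rw [smul_mul_assoc, mul_smul_comm, Matrix.trace_smul, Matrix.trace_smul, smul_eq_mul, smul_eq_mul,
        ← mul_assoc]
      congr 1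
      have hmm : (mmat rr⁻¹ : Matrix (Fin (c + 1)) (Fin (c + 1)) k) * mmat rr = 1 := by
        have h := mmat_mul_inv (k := k) (c := c) (inv_ne_zero hrr0)
        rwa [inv_inv] at h
      rw [Matrix.trace_mul_comm]
      simp only [← mul_assoc]
      rw [Matrix.trace_mul_comm]
      simp only [← mul_assoc, hmm, one_mul]
      simp only [mul_assoc]
      rw [← mul_assoc (mmat rr⁻¹) (mmat rr), hmm, one_mul, Matrix.trace_mul_comm]
    intro n hn
    obtain ⟨i, l, z, hz, rfl⟩ := N.norm n hn
    obtain ⟨a, ha⟩ := hσz z hz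
    have h : Commute (σ (x ^ i * y ^ l * z)) π₀ := by
      rw [map_mul, map_mul, map_pow, map_pow, ha]
      exact ((hx'.pow_left i).mul_left (hy'.pow_left l)).mul_left ((Commute.one_left π₀).smul_left a)
    exact LinearMap.ext fun v => Subtype.ext (LinearMap.congr_fun h.eq (v : Matrix (Fin (c + 1)) (Fin (c + 1)) k))
  have hτA : ∀ (n : ℕ) (v : V), ((((τ x - 1) ^ n) v : V) : Matrix (Fin (c + 1)) (Fin (c + 1)) k) =
      ((adA : Module.End k (Matrix (Fin (c + 1)) (Fin (c + 1)) k)) ^ n) v := by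
    intro n
    induction n with
    | zero => intro v; rfl
    | succ n ih =>
      intro v
      rw [pow_succ', pow_succ', Module.End.mul_apply, Module.End.mul_apply, ← ih]
      show σ x _ - _ = _
      rw [hσx]
      rfl
  have hnil : (τ x - 1) ^ (p - 1) = 0 := LinearMap.ext fun v => Subtype.ext (by
    rw [hτA, show p - 1 = 2 * c by omega]
    exact adA_pow_top (p := p) h2 hcp' hε ((hmemV _).mp v.2))
  obtain ⟨π', hidem, hcom, m, hm⟩ := exists_lift_idem (k := k) (R := Module.End k V) hD τ hnil hππ hNc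
  set W := LinearMap.range π' with hW
  have hfix : ∀ w ∈ W, π' w = w := by
    rintro _ ⟨v, rfl⟩
    rw [← Module.End.mul_apply, hidem]
  have hzero : ∀ (v : V) (a : k), a ≠ 0 → (π' - π) v = a • v → v = 0 := by
    intro v a ha hv
    have h1 : ∀ n : ℕ, ((π' - π) ^ n) v = a ^ n • v := fun n => by
      induction n with
      | zero => simp
      | succ n ih => rw [pow_succ', Module.End.mul_apply, ih, map_smul, hv, smul_smul, pow_succ]
    have h2 := h1 m
    rw [hm, LinearMap.zero_apply] at h2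
    exact (smul_eq_zero.1 h2.symm).resolve_left (pow_ne_zero _ ha)
  let toK : W →ₗ[k] (kSp s : Submodule k (Matrix (Fin (c + 1)) (Fin (c + 1)) k)) :=
    LinearMap.codRestrict _ (π₀.comp (V.subtype.comp W.subtype)) fun w => hπmem _
  let fromK : (kSp s : Submodule k (Matrix (Fin (c + 1)) (Fin (c + 1)) k)) →ₗ[k] W :=
    LinearMap.codRestrict _ (π'.comp (Submodule.inclusion (show kSp s ≤ V from hKV)))
      fun f => LinearMap.mem_range_self π' _
  have hto : Function.Injective toK := by
    rw [injective_iff_map_eq_zero]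
    intro w h
    refine Subtype.ext (hzero _ 1 one_ne_zero ?_)
    have h' : π (w : V) = 0 := Subtype.ext (congrArg Subtype.val h :)
    rw [LinearMap.sub_apply, hfix _ w.2, h', sub_zero, one_smul]
  have hfrom : Function.Injective fromK := by
    rw [injective_iff_map_eq_zero]
    intro f h
    have h' : π' ⟨(f : Matrix (Fin (c + 1)) (Fin (c + 1)) k), hKV _ f.2⟩ = 0 := congrArg Subtype.val h
    have h0 := hzero ⟨(f : Matrix (Fin (c + 1)) (Fin (c + 1)) k), hKV _ f.2⟩ (-1) (neg_ne_zero.mpr one_ne_zero) (by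
      rw [LinearMap.sub_apply, h', zero_sub, show π ⟨(f : Matrix (Fin (c + 1)) (Fin (c + 1)) k), hKV _ f.2⟩ =
        ⟨(f : Matrix (Fin (c + 1)) (Fin (c + 1)) k), hKV _ f.2⟩ from Subtype.ext (hπfix _ f.2)]
      exact (neg_one_smul k _).symm)
    exact Subtype.ext (congrArg Subtype.val h0 :)
  have hrank : Module.finrank k W =
      Module.finrank k (kSp s : Submodule k (Matrix (Fin (c + 1)) (Fin (c + 1)) k)) :=
    le_antisymm (LinearMap.finrank_le_finrank_of_injective hto) (LinearMap.finrank_le_finrank_of_injective hfrom)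
  have hW5 : Module.finrank k W ≤ 5 := by
    rw [hrank]
    refine (finrank_range_le_card _).trans ?_
    rw [Fintype.card_fin]
    omega
  have hsurj : Function.Surjective toK :=
    LinearMap.range_eq_top.1 (Submodule.eq_top_of_finrank_eq (by rw [LinearMap.finrank_range_of_inj hto, hrank]))
  have hτW : ∀ g, ∀ w ∈ W, τ g w ∈ W := fun g w hw => by
    refine ⟨τ g w, ?_⟩
    conv_rhs => rw [← hfix w hw, ← Module.End.mul_apply, hcom g, Module.End.mul_apply]
  let υ : L →* Module.End k W :=
    { toFun := fun g => (τ g).restrict (hτW g)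
      map_one' := LinearMap.ext fun v => Subtype.ext (by simp [map_one])
      map_mul' := fun a b => LinearMap.ext fun v => Subtype.ext (by simp [map_mul]) }
  have hυ : υ x ≠ 1 := by
    intro h1
    obtain ⟨w, hw⟩ := hsurj ⟨_, by simpa using adA_pow_mem (k := k) (c := c) s 0⟩
    have hw' : π₀ ((w : V) : Matrix (Fin (c + 1)) (Fin (c + 1)) k) = (ymat : Matrix (Fin (c + 1)) (Fin (c + 1)) k) ^ s :=
      congrArg Subtype.val hw
    have hxw : adX ((w : V) : Matrix (Fin (c + 1)) (Fin (c + 1)) k) = ((w : V) : Matrix (Fin (c + 1)) (Fin (c + 1)) k) := by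
      have h := congrArg (fun T : Module.End k W => (((T w : W) : V) : Matrix (Fin (c + 1)) (Fin (c + 1)) k)) h1
      simp only [Module.End.one_apply] at h
      rw [← hσx]
      exact h
    have hπx : Commute (adX : Module.End k (Matrix (Fin (c + 1)) (Fin (c + 1)) k)) π₀ := by
      rw [← hσx]
      refine hπcomm _ 1 (hinjσ x) (fun f g => ?_) fun f hf => by rw [hσx]; exact adX_mem_kSp hf
      rw [hσx, ← adX_mul, adX_apply, one_mul, Matrix.trace_mul_comm, ← mul_assoc, tmat_neg_mul_one,
        one_mul]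
    have hAy : adA ((ymat : Matrix (Fin (c + 1)) (Fin (c + 1)) k) ^ s) = 0 := by
      rw [← hw', LinearMap.sub_apply, Module.End.one_apply, ← Module.End.mul_apply, hπx.eq,
        Module.End.mul_apply, hxw, sub_self]
    refine top_pairing (k := k) (c := c) (p := p) hc3 hs (by omega) ?_
    obtain ⟨j, hj⟩ : ∃ j, 2 * s = j + 1 := ⟨2 * s - 1, by omega⟩
    rw [hj, pow_succ, Module.End.mul_apply, hAy, map_zero, zero_mul, Matrix.trace_zero]
  obtain ⟨c', ρ', hc', hirr, hρ'⟩ := exists_irred_aux (k := k) hcomm hgen (Module.finrank k W) (V := W) υ rfl hυ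
  obtain ⟨ψ, hψ⟩ := HalfDegree.exists_psi hD (by omega) hirr hgen hρ'
  exact ⟨k, inferInstance, inferInstance, inferInstance, ψ, hψ⟩

end CfsgLib.Char.SmallDegree
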