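import Cfsg.Agent.Lib.Char.SmallDegree.Main
import Cfsg.Agent.Lib.Char.SmallDegree.Middle
import Cfsg.Agent.Lib.Char.SmallDegree.Automizer

/-!
# Faithful irreducible characters of degree less than `p - 1`
-/

set_option autoImplicit false
set_option linter.unusedSectionVars false

namespace CfsgLib.Char.SmallDegree

open Cfsg CfsgLib.Block CfsgLib.Block.Cyclic CfsgLib.Char CfsgLib.Char.HalfDegree Finset

universe u

variable {p : ℕ} [hpf : Fact p.Prime] {G : Type u} [Group G] [Finite G]

theorem char_inj {n : ℕ} (ρ : Representation ℂ G (Fin n → ℂ))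
    (hρ : ∀ g, ρ.character g = ρ.character 1 → g = 1) (g : G) (hg : ρ g = 1) : g = 1 :=
  hρ g (by simp [Representation.character, hg])

set_option maxHeartbeats 1000000 in
/-- The theorem for the group. -/
theorem small_group (hp7 : 7 < p) {x₀ : G} (D₀ : LocData p x₀)
    (hnn : ∀ H : Subgroup G, H.Normal → Nat.card H ≠ p) {n : ℕ}
    (ρ : Representation ℂ G (Fin n → ℂ)) [ρ.IsIrreducible]
    (hρ : ∀ g, ρ.character g = ρ.character 1 → g = 1) (hlo : p ≤ 2 * n) (hhi : n + 2 ≤ p) :
    ∃ e t : ℕ, n + e = p ∧ t * e = p - 1 ∧ 2 ≤ t ∧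
      (∃ (x : G) (D : LocData p x), Nat.card (autom x D.pow_eq_one) = e) ∧
      (3 ≤ t → e + 3 ≤ t ∧ (Odd (Nat.card (Subgroup.center G)) → e = 2)) ∧
      (t = 2 → Nonempty ((G ⧸ Subgroup.center G) ≃*
        Matrix.ProjectiveSpecialLinearGroup (Fin 2) (ZMod p))) := by
  classical
  have hp : p.Prime := hpf.out
  have hp2 : p ≠ 2 := by omega
  obtain ⟨-, D, hP, -, hgen⟩ := closure_facts D₀ hnn
  obtain ⟨-, hperf⟩ := closure_perfect D₀ hnn ⟨n, ρ, rfl⟩ hρ
    (by rw [Representation.char_one, Module.finrank_fin_fun]) (by omega : n + 1 < p)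
  let L : Subgroup G := Subgroup.normalClosure {x₀}
  let _ : Fintype L := Fintype.ofFinite _
  have hx₀ne : ρ x₀ ≠ 1 := fun h => by
    have h2 := D₀.order
    rw [char_inj ρ hρ _ h, orderOf_one] at h2
    exact hp.one_lt.ne h2
  have hno := no_invariant_restrict ρ L hperf D.sq (x := ncGen x₀) D.order hgen
    (by rw [Module.finrank_fin_fun]; exact hhi) hp2 hx₀ne
  haveI : Nonempty (Fin n) := ⟨⟨0, by omega⟩⟩
  let ρL : Representation ℂ L (Fin n → ℂ) := ρ.comp L.subtype
  haveI hirr : ρL.IsIrreducible := isIrreducible_of_no_invariant ρL hno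
  let χ : IrrCharacter L := ⟨ρL.character, n, ρL, hirr, rfl⟩
  have hdeg : charDegree (χ : L → ℂ) = n := by
    show charDegree ρL.character = n
    simp [charDegree, Representation.char_one]
  have hfaith : ∀ g : L, (χ : L → ℂ) g = (χ : L → ℂ) 1 → g = 1 := fun g hg => by
    refine Subtype.ext (hρ g ?_)
    simpa [χ, ρL, Representation.character] using hg
  have hgenN : ∀ N : Subgroup L, N.Normal → p ∣ Nat.card N → N = ⊤ := fun N hN hd => by
    haveI := hN
    exact eq_top_iff.2 (hgen ▸ Subgroup.normalClosure_le_normal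
      (Set.singleton_subset_iff.2 (D.mem_of_dvd N hd)))
  obtain ⟨e, t, x, y, r, a, ν, μ, N, S, hde, hte, ht2, hcases⟩ := small_cases hp7 D.dvd D.sq hgenN
    (fun Q hQ hn => haveI := hn; not_normal_of_perfect hperf D.sq Q hQ) hperf χ hfaith
    (hdeg.symm ▸ hlo) (hdeg.symm ▸ hhi)
  rw [hdeg] at hde S
  have hcen : ∀ z ∈ Subgroup.center L, (z : G) ∈ Subgroup.center G := by
    intro z hz
    obtain ⟨c, hc⟩ := exists_scalar_of_mem_center ρL hz
    rw [Subgroup.mem_center_iff]
    intro g
    have hc' : ρ (z : G) = c • LinearMap.id := hc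
    have hcom : ρ (g * z) = ρ ((z : G) * g) := by
      rw [map_mul, map_mul, hc']
      ext v
      simp
    have h1 : ρ ((g * (z : G)) * ((z : G) * g)⁻¹) = 1 := by
      rw [map_mul, hcom, ← map_mul, mul_inv_cancel, map_one]
    exact mul_inv_eq_one.mp (char_inj ρ hρ _ h1)
  have hxG : LocData p (x : G) := ⟨by rw [Subgroup.orderOf_coe]; exact N.ord, D₀.sq⟩
  refine ⟨e, t, hde, hte, ht2, ⟨_, hxG, ?_⟩, fun h3 => ⟨(hcases h3).1, fun ho => (hcases h3).2 ?_⟩, ?_⟩
  · have hr0 := N.r_ne_zero
    set r₀ : (ZMod p)ˣ := Units.mk0 r hr0 with hr₀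
    have hA : autom (x : G) hxG.pow_eq_one = Subgroup.zpowers r₀ := by
      refine le_antisymm (fun s hs => ?_) (Subgroup.zpowers_le.2 ⟨(y : G), ?_⟩)
      · obtain ⟨g, hg⟩ := hs
        have ha := S.a_ne_zero N hde
        have hsum : ∀ i : ZMod p, i ≠ 0 →
            ∑ l ∈ range e, stdPsi p (i * (((s : ZMod p) * a) * r ^ l)) =
              ∑ l ∈ range e, stdPsi p (i * (a * r ^ l)) := by
          intro i hi
          have hconj : g * ((x : G) ^ i.val) * g⁻¹ = (x : G) ^ ((s : ZMod p) * i).val := by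
            rw [← conj_pow, hg, pow_val_mul_eq hxG.pow_eq_one]
          have h1 : (χ : L → ℂ) (x ^ ((s : ZMod p) * i).val) = (χ : L → ℂ) (x ^ i.val) := by
            show ρ.character ((x ^ ((s : ZMod p) * i).val : L) : G) = ρ.character ((x ^ i.val : L) : G)
            rw [Subgroup.coe_pow, Subgroup.coe_pow, ← hconj, Representation.char_conj]
          rw [S.val _ (mul_ne_zero s.ne_zero hi), S.val i hi, neg_inj] at h1
          rw [← h1]
          exact Finset.sum_congr rfl fun l _ => by ring_nf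
        obtain ⟨l, -, hl⟩ := orbit_eq_of_sum_eq N.prim N.e_ne_zero ha hsum
        have h2 : (s : ZMod p) * r ^ l = 1 := by
          refine mul_left_cancel₀ ha ?_
          rw [mul_one]
          conv_rhs => rw [hl]
          ring
        have h3 : s = (r₀ ^ l)⁻¹ := eq_inv_of_mul_eq_one_left (Units.ext (by
          rw [Units.val_mul, Units.val_pow_eq_pow_val, hr₀, Units.val_mk0, h2, Units.val_one]))
        rw [h3]
        exact inv_mem (Subgroup.pow_mem _ (Subgroup.mem_zpowers r₀) l)
      · simpa [hr₀] using congrArg Subtype.val N.conj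
    rw [hA, Nat.card_zpowers, ← orderOf_units, hr₀, Units.val_mk0, N.prim.eq_orderOf]
  · refine Odd.of_dvd_nat ho ?_
    rw [← Subgroup.card_map_of_injective (f := L.subtype) (Subtype.val_injective)]
    exact Subgroup.card_dvd_of_le (Subgroup.map_le_iff_le_comap.2 fun z hz => hcen z hz)
  · intro ht
    subst ht
    have h11 : 11 ≤ p := by
      by_contra hh
      interval_cases p <;> norm_num at hp
    have hgenx : Subgroup.normalClosure {x} = ⊤ :=
      hgenN _ inferInstance (by
        have h1 := orderOf_dvd_natCard (⟨x, Subgroup.subset_normalClosure rfl⟩ :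
          Subgroup.normalClosure {x})
        rwa [Subgroup.orderOf_mk, N.ord] at h1)
    obtain ⟨k, hkf, hka, hkc, ψ, hψ⟩ :=
      exists_psi_middle N h11 χ (by rw [hdeg]; omega) (hperf ▸ Subgroup.mem_top x) hgenx
    refine psl_of_hom (by omega) D₀ hnn (by omega) (by omega) ρ hρ ψ (fun h1 => hψ ?_) hno
    have hle : Subgroup.normalClosure {ncGen x₀} ≤ ψ.ker :=
      Subgroup.normalClosure_le_normal (Set.singleton_subset_iff.2 (MonoidHom.mem_ker.2 h1))
    exact MonoidHom.mem_ker.1 (hle (hgen ▸ Subgroup.mem_top x))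

/-- The degree `(p - 1) / 2`. -/
theorem half_group (hp7 : 7 < p) {x₀ : G} (D₀ : LocData p x₀)
    (hnn : ∀ H : Subgroup G, H.Normal → Nat.card H ≠ p) {n : ℕ}
    (ρ : Representation ℂ G (Fin n → ℂ)) (hρ : ∀ g, ρ.character g = ρ.character 1 → g = 1)
    (hn : 2 * n + 1 = p) :
    Nonempty ((G ⧸ Subgroup.center G) ≃* Matrix.ProjectiveSpecialLinearGroup (Fin 2) (ZMod p)) ∧
      Nat.card (autom x₀ D₀.pow_eq_one) = n := by
  classical
  have hp : p.Prime := hpf.out
  have hE := psl_of_half_degree (by omega) D₀.dvd D₀.sq hnn hn ρ hρ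
  refine ⟨hE, le_antisymm (card_autom_le D₀ ρ fun h => ?_) ?_⟩
  · have h2 := D₀.order
    rw [char_inj ρ hρ _ h, orderOf_one] at h2
    exact hp.one_lt.ne h2
  · obtain ⟨E⟩ := hE
    obtain ⟨R, hR, hRsq⟩ := squares_finset (p := p) hn
    have hnc : x₀ ∉ Subgroup.center G := fun hc => by
      refine hnn (Subgroup.zpowers x₀) ⟨fun z hz g => ?_⟩ (by rw [Nat.card_zpowers, D₀.order])
      rw [Subgroup.mem_center_iff.1 (Subgroup.zpowers_le.2 hc hz) g, mul_inv_cancel_right]
      exact hz
    refine hR.trans ?_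
    rw [Nat.card_eq_fintype_card, Fintype.card_subtype]
    refine Finset.card_le_card fun r hr => ?_
    obtain ⟨s, rfl⟩ := hRsq r hr
    exact Finset.mem_filter.2 ⟨Finset.mem_univ _, squares_le_autom (by omega) D₀ hnc E s⟩

/-- A faithful character has degree at least `(p - 1) / 2`. -/
theorem le_two_mul_add_one {x₀ : G} (D₀ : LocData p x₀)
    (hnn : ∀ H : Subgroup G, H.Normal → Nat.card H ≠ p) {n : ℕ}
    (ρ : Representation ℂ G (Fin n → ℂ)) (hρ : ∀ g, ρ.character g = ρ.character 1 → g = 1) :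
    p ≤ 2 * n + 1 := by
  have h := Cfsg.Agent.S4503.result p hpf.out D₀.dvd D₀.sq hnn ρ.character ⟨n, ρ, rfl⟩ hρ
  rwa [show charDegree ρ.character = n by simp [charDegree, Representation.char_one]] at h

/-- The data from a Sylow subgroup of order `p` that is not normal. -/
theorem exists_locData (P : Sylow p G) (hP : Nat.card P = p) (hnn : ¬ (P : Subgroup G).Normal) :
    (∃ x : G, LocData p x) ∧ ∀ H : Subgroup G, H.Normal → Nat.card H ≠ p := by
  have hfac : (Nat.card G).factorization p = 1 := by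
    have h1 := P.card_eq_multiplicity
    rw [hP] at h1
    exact (Nat.pow_eq_self_iff hpf.out.one_lt).1 h1.symm
  have hdiv : p ∣ Nat.card G := hP ▸ Subgroup.card_subgroup_dvd_card (P : Subgroup G)
  have hsq : ¬ p ^ 2 ∣ Nat.card G := fun h => by
    have := (hpf.out.pow_dvd_iff_le_factorization Nat.card_pos.ne').1 h
    omega
  refine ⟨?_, fun H hH hcard => hnn ?_⟩
  · obtain ⟨x, hx⟩ := exists_prime_orderOf_dvd_card' (G := G) p hdiv
    exact ⟨x, hx, hsq⟩
  · let Q : Sylow p G := Sylow.ofCard H (by rw [hcard, hfac, pow_one])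
    haveI : (Q : Subgroup G).Normal := hH
    haveI := Sylow.unique_of_normal Q hH
    rw [Subsingleton.elim P Q]
    exact hH

end CfsgLib.Char.SmallDegree
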