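import Cfsg.Agent.Lib.Char.SmallDegree.Reduce
import Cfsg.Agent.Lib.Char.Scalar
import Cfsg.Agent.Lib.Char.SplittingField
import Cfsg.Agent.Lib.Block.Defect

/-!
# Lattices with a simple socle

An irreducible character is afforded by matrices over the local ring whose reduction has a single
minimal invariant subspace.
-/

set_option autoImplicit false
set_option linter.unusedSectionVars false

namespace CfsgLib.Char.SmallDegree

open Cfsg CfsgLib.Block CfsgLib.Block.Cyclic CfsgLib.Char Matrix

universe u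

variable {p : ℕ} [hpf : Fact p.Prime] {M : Ideal AlgInt} [hMm : M.IsMaximal] (hM : IsPModular p M)
  {L : Type u} [Group L] [Finite L]

/-- The standard vector. -/
noncomputable def stdV {n : ℕ} (i : Fin n) : Fin n → ramField p := Pi.single i 1

theorem exists_mem_field_root (hsq : ¬ p ^ 2 ∣ Nat.card L) (z : ℂ)
    (hz : z ^ Monoid.exponent L = 1) : ∃ a : ramField p, algebraMap (ramField p) ℂ a = z :=
  ⟨⟨z, Subfield.subset_closure ⟨_, fun h => hsq (h.trans Group.exponent_dvd_nat_card), hz⟩⟩, rfl⟩

/-- An irreducible character is afforded over the field, with the orthogonality relations. -/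
theorem exists_field_rep (hsq : ¬ p ^ 2 ∣ Nat.card L) [Fintype L] (χ : IrrCharacter L) :
    ∃ (n : ℕ) (τ : L →* Matrix (Fin n) (Fin n) (ramField p)), 0 < n ∧ n = charDegree (χ : L → ℂ) ∧
      (∀ g, (((τ g).trace : ramField p) : ℂ) = (χ : L → ℂ) g) ∧
      ∀ i j : Fin n, (n : ramField p) • ∑ g : L, τ g⁻¹ j i • τ g =
        (Nat.card L : ramField p) • Matrix.single i j 1 := by
  classical
  obtain ⟨n, ρ, hρ, hρχ⟩ := χ.2
  obtain ⟨σ, ⟨eσ⟩, hσ⟩ := Splitting.exists_realization (K := ramField p)
    (exists_mem_field_root (p := p) hsq) ρ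
  haveI := hρ
  haveI : σ.IsIrreducible := isIrreducible_of_equiv eσ
  choose a ha using hσ
  let emb : Matrix (Fin n) (Fin n) (ramField p) →+* Matrix (Fin n) (Fin n) ℂ :=
    (algebraMap (ramField p) ℂ).mapMatrix
  have hinj : Function.Injective emb := Matrix.map_injective (algebraMap (ramField p) ℂ).injective
  have hA : ∀ g, emb (Matrix.of (a g)) = LinearMap.toMatrix' (σ g) := fun g =>
    Matrix.ext fun i j => ha g i j
  let τ : L →* Matrix (Fin n) (Fin n) (ramField p) :=
    { toFun := fun g => Matrix.of (a g)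
      map_one' := hinj (by rw [hA, map_one σ, LinearMap.toMatrix'_one, map_one emb])
      map_mul' := fun g h => hinj (by rw [hA, map_mul σ, LinearMap.toMatrix'_mul, map_mul emb, hA, hA]) }
  have hτ : ∀ g, emb (τ g) = LinearMap.toMatrix' (σ g) := hA
  have hn : 0 < n := by
    have := finrank_pos_of_irreducible ρ
    rwa [Module.finrank_fin_fun] at this
  have hdeg : n = charDegree (χ : L → ℂ) := by
    rw [← hρχ]; simp [charDegree, Representation.char_one]
  have htr : ∀ g, (((τ g).trace : ramField p) : ℂ) = (χ : L → ℂ) g := fun g => by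
    rw [← hρχ, Representation.char_iso eσ, Representation.character,
      LinearMap.trace_eq_matrix_trace ℂ (Pi.basisFun ℂ (Fin n)), LinearMap.toMatrix_eq_toMatrix', ← hτ g]
    exact AddMonoidHom.map_trace (algebraMap (ramField p) ℂ).toAddMonoidHom (τ g)
  refine ⟨n, τ, hn, hdeg, htr, fun i j => ?_⟩
  -- the averaged elementary matrices are scalar
  have hscal : ∀ i j : Fin n, ∃ c : ramField p,
      ∑ g : L, τ g * Matrix.single i j 1 * τ g⁻¹ = c • 1 := by
    intro i j
    set T := ∑ g : L, τ g * Matrix.single i j 1 * τ g⁻¹ with hT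
    have hTc : ∀ h, T * τ h = τ h * T := by
      intro h
      rw [hT, Finset.sum_mul, Finset.mul_sum]
      refine Fintype.sum_equiv (Equiv.mulLeft h⁻¹) _ _ fun g => ?_
      simp only [Equiv.coe_mulLeft, map_mul, _root_.mul_inv_rev, inv_inv, mul_assoc]
      rw [← mul_assoc (τ h) (τ h⁻¹), ← map_mul τ h, mul_inv_cancel, map_one, one_mul]
    obtain ⟨c, hc⟩ := schur_scalar σ (Matrix.toLin' (emb T)) fun h => by
      rw [← Matrix.toLin'_toMatrix' (σ h), ← hτ]
      show (Matrix.toLin' (emb T)).comp (Matrix.toLin' (emb (τ h))) =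
        (Matrix.toLin' (emb (τ h))).comp (Matrix.toLin' (emb T))
      rw [← Matrix.toLin'_mul, ← Matrix.toLin'_mul, ← map_mul, ← map_mul, hTc]
    have hc' : emb T = c • 1 := by
      have := congrArg LinearMap.toMatrix' hc
      rwa [LinearMap.toMatrix'_toLin', map_smul, LinearMap.toMatrix'_id] at this
    refine ⟨T ⟨0, hn⟩ ⟨0, hn⟩, hinj ?_⟩
    have h0 := congrFun (congrFun hc' ⟨0, hn⟩) ⟨0, hn⟩
    simp only [Matrix.smul_apply, Matrix.one_apply_eq, smul_eq_mul, mul_one] at h0
    rw [hc']
    ext k l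
    rw [← h0]
    show _ = algebraMap (ramField p) ℂ ((T ⟨0, hn⟩ ⟨0, hn⟩) • (1 : Matrix (Fin n) (Fin n) _) k l)
    rw [smul_eq_mul, map_mul]
    by_cases hkl : k = l <;> simp [hkl, Matrix.one_apply, emb]
  have hent : ∀ i' j' a' b', (∑ g : L, τ g * Matrix.single i' j' (1 : ramField p) * τ g⁻¹ : Matrix (Fin n) (Fin n) (ramField p)) a' b' =
      ∑ g : L, τ g⁻¹ j' b' * τ g a' i' := by
    intro i' j' a' b'
    rw [Matrix.sum_apply]
    refine Finset.sum_congr rfl fun g _ => ?_
    rw [Matrix.mul_apply, Finset.sum_eq_single j' (fun k _ hk => by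
      rw [Matrix.mul_single_apply_of_ne _ _ _ _ _ hk, zero_mul]) (by simp),
      Matrix.mul_single_apply_same, mul_one, mul_comm]
  ext a' b'
  rw [Matrix.smul_apply, Matrix.sum_apply, Matrix.smul_apply, smul_eq_mul, smul_eq_mul]
  simp only [Matrix.smul_apply, smul_eq_mul]
  obtain ⟨c, hc⟩ := hscal b' j
  have htr' := congrArg Matrix.trace hc
  rw [Matrix.trace_sum, Matrix.trace_smul, Matrix.trace_one, Fintype.card_fin,
    Finset.sum_congr rfl fun g _ => by
      rw [Matrix.trace_mul_cycle, ← map_mul τ, inv_mul_cancel, map_one, one_mul]] at htr'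
  rw [← hent b' j a' i, hc, Matrix.smul_apply, smul_eq_mul]
  rw [Finset.sum_const, Finset.card_univ, ← Nat.card_eq_fintype_card, nsmul_eq_mul, smul_eq_mul] at htr'
  rw [← mul_assoc, mul_comm (n : ramField p) c, ← htr', mul_assoc]
  congr 1
  rcases eq_or_ne b' j with rfl | hne
  · rw [Matrix.trace_single_eq_same, one_mul]
    rcases eq_or_ne a' i with rfl | ha
    · simp
    · rw [Matrix.one_apply_ne ha, Matrix.single_apply_of_ne]
      simp [Ne.symm ha]
  · rw [Matrix.trace_single_eq_of_ne _ _ _ hne, zero_mul, Matrix.single_apply_of_ne]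
    simp [Ne.symm hne]

include hM in
/-- Multiplication by a power of `π` makes an element of the field integral. -/
theorem exists_clear (x : ramField p) :
    ∃ m : ℕ, ∀ m', m ≤ m' → ((piR p M : ℂ) ^ m' * (x : ℂ)) ∈ ram p M := by
  obtain ⟨a, ha, b, hb, hab⟩ := Subfield.mem_closure_iff.mp x.2
  rcases eq_or_ne b 0 with rfl | hb0
  · exact ⟨0, fun m _ => by rw [← hab, div_zero, mul_zero]; exact zero_mem _⟩
  have hB0 : (⟨b, ramBase_le_ram p M hb⟩ : ram p M) ≠ 0 := fun h => hb0 (congrArg Subtype.val h)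
  obtain ⟨k, v, hv, hbv⟩ := exists_eq_pow_mul hM hB0
  obtain ⟨v', hv'⟩ := isUnit_iff_exists_inv.mp (isUnit_of_res hv)
  refine ⟨k, fun m hm => ?_⟩
  have eb : b = (piR p M : ℂ) ^ k * v := congrArg Subtype.val hbv
  have ev : (v : ℂ) * v' = 1 := congrArg Subtype.val hv'
  obtain ⟨l, rfl⟩ := Nat.exists_eq_add_of_le hm
  have : (piR p M : ℂ) ^ (k + l) * (x : ℂ) =
      ((piR p M ^ l * ⟨a, ramBase_le_ram p M ha⟩ * v' : ram p M) : ℂ) := by
    push_cast
    rw [← hab, mul_div_assoc', div_eq_iff hb0, eb, pow_add]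
    linear_combination (-(piR p M : ℂ) ^ k * (piR p M : ℂ) ^ l * a) * ev
  rw [this]
  exact Subtype.prop _

include hM in
set_option maxHeartbeats 1600000 in
/-- An irreducible character is afforded by matrices over the local ring whose reduction has a
single minimal invariant subspace. -/
theorem exists_lattice (hsq : ¬ p ^ 2 ∣ Nat.card L) (χ : IrrCharacter L) :
    ∃ (n : ℕ) (σ : L →* Matrix (Fin n) (Fin n) (ram p M)) (s : Fin n → ResField M),
      0 < n ∧ n = charDegree (χ : L → ℂ) ∧ (∀ g, (((σ g).trace : ram p M) : ℂ) = (χ : L → ℂ) g) ∧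
      s ≠ 0 ∧ ∀ U : Submodule (ResField M) (Fin n → ResField M),
        (∀ g, ∀ v ∈ U, (σ g).map (resRam p M) *ᵥ v ∈ U) → U ≠ ⊥ → s ∈ U := by
  classical
  haveI := Fintype.ofFinite L
  obtain ⟨n, τ, hn, hdeg, htr, horth⟩ := exists_field_rep (p := p) hsq χ
  letI algOK : Algebra (ram p M) (ramField p) := (toK (p := p) (M := M)).toAlgebra
  have halg : ∀ (r : ram p M) (x : ramField p), r • x = toK r * x := fun r x => rfl
  haveI : IsPrincipalIdealRing (ram p M) := isPrincipalIdealRing_ram hM
  haveI : Module.IsTorsionFree (ram p M) (ramField p) :=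
    Module.isTorsionFree_iff_algebraMap_injective.mpr toK_injective
  let V := Fin n → ramField p
  have hsm : ∀ (r : ram p M) (v : V), r • v = toK r • v := fun r v => rfl
  set π : ramField p := toK (piR p M) with hπ
  have hπ0 : π ≠ 0 := fun h => piR_ne_zero (toK_injective (h.trans (map_zero _).symm))
  choose D hD using fun x : L × Fin n × Fin n => exists_clear hM (τ x.1 x.2.1 x.2.2)
  set E := Finset.univ.sup D with hE
  have hint : ∀ g a b, ∃ r : ram p M, toK r = π ^ E * τ g a b := fun g a b =>
    ⟨⟨_, hD (g, a, b) E (Finset.le_sup (Finset.mem_univ _))⟩, Subtype.ext (by simp [hπ])⟩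
  choose Ri hRi using hint
  -- the first lattice
  set L0 : Submodule (ram p M) V :=
    Submodule.span (ram p M) (Set.range fun x : L × Fin n => τ x.1 *ᵥ stdV x.2) with hL0
  let Stab : Submodule (ram p M) V → Prop := fun N => ∀ g, ∀ v ∈ N, τ g *ᵥ v ∈ N
  have hL0s : Stab L0 := by
    intro g v hv
    induction hv using Submodule.span_induction with
    | mem x hx =>
      obtain ⟨⟨h, i⟩, rfl⟩ := hx
      exact Submodule.subset_span ⟨(g * h, i), by simp only [map_mul, mulVec_mulVec]⟩
    | zero => rw [mulVec_zero]; exact zero_mem _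
    | add x y _ _ hx hy => rw [mulVec_add]; exact add_mem hx hy
    | smul r x _ hx => rw [hsm, mulVec_smul, ← hsm]; exact L0.smul_mem r hx
  have hstd : ∀ i, stdV i ∈ L0 := fun i =>
    Submodule.subset_span ⟨(1, i), by show τ 1 *ᵥ stdV i = stdV i; rw [map_one, one_mulVec]⟩
  have hvec : ∀ v : V, v = ∑ i, v i • stdV i := fun v => by
    funext l
    simp [stdV, Pi.single_apply, Finset.sum_apply]
  have hL0int : ∀ v ∈ L0, ∀ i, ∃ r : ram p M, toK r = π ^ E * v i := by
    intro v hv i
    induction hv using Submodule.span_induction with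
    | mem x hx =>
      obtain ⟨⟨h, j⟩, rfl⟩ := hx
      exact ⟨Ri h i j, by rw [hRi]; congr 1; simp [stdV, Matrix.mulVec_single_one]⟩
    | zero => exact ⟨0, by rw [map_zero]; exact (mul_zero _).symm⟩
    | add x y _ _ hx hy =>
      obtain ⟨r, hr⟩ := hx
      obtain ⟨r', hr'⟩ := hy
      exact ⟨r + r', by rw [map_add, hr, hr', Pi.add_apply, mul_add]⟩
    | smul c x _ hx =>
      obtain ⟨r, hr⟩ := hx
      exact ⟨c * r, by rw [map_mul, hr, Pi.smul_apply, halg, mul_left_comm]⟩
  set P : Submodule (ram p M) V :=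
    L0.map ((LinearMap.lsmul (ramField p) V π⁻¹).restrictScalars (ram p M)) with hP
  have hPmem : ∀ v, v ∈ P ↔ π • v ∈ L0 := fun v => by
    rw [hP, Submodule.mem_map]
    constructor
    · rintro ⟨w, hw, rfl⟩
      show π • π⁻¹ • w ∈ L0
      rw [smul_smul, mul_inv_cancel₀ hπ0, one_smul]
      exact hw
    · exact fun h => ⟨_, h, by show π⁻¹ • π • v = v; rw [smul_smul, inv_mul_cancel₀ hπ0, one_smul]⟩
  -- the bound
  set C : ramField p := π ^ (2 * E + 1) * (Nat.card L : ramField p) with hC
  have hC0 : C ≠ 0 := mul_ne_zero (pow_ne_zero _ hπ0) (Nat.cast_ne_zero.mpr Nat.card_pos.ne')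
  set B : Submodule (ram p M) V :=
    Submodule.span (ram p M) (Set.range fun i : Fin n => C⁻¹ • stdV i) with hB
  have hbound : ∀ N : Submodule (ram p M) V, Stab N → ¬ P ≤ N → N ≤ B := by
    intro N hN hPN v hv
    have hx : ∀ j, ∃ r : ram p M, toK r = C * v j := by
      intro j
      set x := π ^ E * (Nat.card L : ramField p) * v j with hx
      have hxe : ∀ b, x • stdV b ∈ N := by
        intro b
        have hmem : ∑ g : L, ((n : ram p M) * Ri g⁻¹ j b) • (τ g *ᵥ v) ∈ N :=
          sum_mem fun g _ => N.smul_mem _ (hN g v hv)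
        have e : ∑ g : L, ((n : ram p M) * Ri g⁻¹ j b) • (τ g *ᵥ v) = x • stdV b := by
          have h1 : ∀ g, ((n : ram p M) * Ri g⁻¹ j b) • (τ g *ᵥ v) =
              π ^ E • ((n : ramField p) • (τ g⁻¹ j b • τ g)) *ᵥ v := fun g => by
            rw [hsm, map_mul, map_natCast, hRi, smul_mulVec, smul_mulVec, smul_smul, smul_smul]
            congr 1
            ring
          rw [Finset.sum_congr rfl fun g _ => h1 g]
          have h2 : ∑ g : L, π ^ E • ((n : ramField p) • (τ g⁻¹ j b • τ g)) *ᵥ v =
              π ^ E • ((n : ramField p) • ∑ g : L, τ g⁻¹ j b • τ g) *ᵥ v := by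
            simp only [← smul_mulVec, ← Matrix.sum_mulVec, ← Finset.smul_sum]
          rw [h2, horth b j, smul_mulVec, smul_smul, Matrix.single_mulVec, one_mul, hx,
            mul_smul, mul_smul]
          funext l
          rcases eq_or_ne l b with rfl | hl
          · simp [stdV, mul_assoc]
          · simp [stdV, hl]
        rw [← e]
        exact hmem
      have hCx : C * v j = π ^ (E + 1) * x := by rw [hC, hx]; ring
      rcases mem_or_inv hM (π ^ (E + 1) * x) with h | ⟨y, hy⟩
      · exact ⟨⟨_, h⟩, by rw [hCx]; rfl⟩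
      · exfalso
        refine hPN fun w hw => ?_
        have hw' := hL0int _ ((hPmem w).mp hw)
        choose r hr using hw'
        rw [hvec w]
        refine sum_mem fun b _ => ?_
        have hy' : (π ^ (E + 1) * x) * (π * toK y) = 1 := Subtype.ext (by
          push_cast
          rw [hπ, coe_toK]
          exact_mod_cast hy)
        have e : w b • (stdV b : V) = ((r b * piR p M * y : ram p M)) • (x • stdV b) := by
          rw [hsm, smul_smul]
          congr 1
          rw [map_mul, map_mul, hr, Pi.smul_apply, smul_eq_mul, ← hπ]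
          linear_combination (-(w b)) * hy'
        rw [e]
        exact N.smul_mem _ (hxe b)
    choose r hr using hx
    rw [hvec v]
    refine sum_mem fun i _ => ?_
    have e : v i • (stdV i : V) = r i • (C⁻¹ • (stdV i : V)) := by
      rw [hsm, smul_smul, hr, mul_comm C, mul_assoc, mul_inv_cancel₀ hC0, mul_one]
    rw [e]
    exact B.smul_mem _ (Submodule.subset_span ⟨i, rfl⟩)
  have hstart : ¬ P ≤ L0 := by
    intro hle
    have hiter : ∀ m : ℕ, ∀ v ∈ L0, (π⁻¹) ^ m • v ∈ L0 := by
      intro m
      induction m with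
      | zero => intro v hv; simpa using hv
      | succ m ih =>
        intro v hv
        rw [pow_succ', mul_smul]
        exact hle ((hPmem _).mpr (by rw [smul_smul, mul_inv_cancel₀ hπ0, one_smul]; exact ih v hv))
    obtain ⟨r, hr⟩ := hL0int _ (hiter (E + 1) _ (hstd ⟨0, hn⟩)) ⟨0, hn⟩
    have h1 : toK (r * piR p M) = 1 := by
      rw [map_mul, hr, Pi.smul_apply, smul_eq_mul, stdV, Pi.single_eq_same, mul_one, ← hπ, inv_pow]
      field_simp
      ring
    have h2 := congrArg (resRam p M) (toK_injective (h1.trans (map_one _).symm))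
    rw [map_mul, resRam_piR hM, mul_zero, map_one] at h2
    exact zero_ne_one h2
  -- a maximal lattice
  haveI : IsNoetherian (ram p M) B := isNoetherian_span_of_finite _ (Set.finite_range _)
  obtain ⟨N', hN', hmax⟩ := set_has_maximal_iff_noetherian.mpr (inferInstance : IsNoetherian (ram p M) B)
    {N : Submodule (ram p M) B | L0 ≤ N.map B.subtype ∧ Stab (N.map B.subtype) ∧ ¬ P ≤ N.map B.subtype}
    ⟨L0.comap B.subtype, by
      have e := (Submodule.map_comap_subtype B L0).trans (inf_eq_right.mpr (hbound L0 hL0s hstart))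
      simp only [Set.mem_setOf_eq, e]
      exact ⟨le_rfl, hL0s, hstart⟩⟩
  obtain ⟨hL0N, hNs, hPN⟩ := hN'
  set N := N'.map B.subtype with hNdef
  have hNB : N ≤ B := Submodule.map_subtype_le _ _
  have hgrow : ∀ N₂ : Submodule (ram p M) V, Stab N₂ → N < N₂ → P ≤ N₂ := by
    intro N₂ hs hlt
    by_contra hP2
    have hle : N₂ ≤ B := hbound N₂ hs hP2
    have e := (Submodule.map_comap_subtype B N₂).trans (inf_eq_right.mpr hle)
    refine hmax (N₂.comap B.subtype) ?_ ?_
    · simp only [Set.mem_setOf_eq, e]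
      exact ⟨hL0N.trans hlt.le, hs, hP2⟩
    · refine lt_of_le_of_ne (Submodule.map_le_iff_le_comap.mp hlt.le) fun h => hlt.ne ?_
      rw [hNdef, h, e]
  haveI : Module.Finite (ram p M) N := Module.Finite.iff_fg.mpr
    (Submodule.FG.map _ (IsNoetherian.noetherian N'))
  let b := Module.Free.chooseBasis (ram p M) N
  set m := Fintype.card (Module.Free.ChooseBasisIndex (ram p M) N) with hm
  -- it is a basis over the field
  have hliK : LinearIndependent (ramField p) fun i => (b i : V) := by
    rw [Fintype.linearIndependent_iff]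
    intro c hc
    by_contra hne
    push Not at hne
    obtain ⟨j, hj0, hj⟩ := exists_dominant hM c (Function.ne_iff.mpr hne)
    have h1 : ∑ i, (⟨_, hj i⟩ : ram p M) • b i = 0 := Subtype.ext (by
      simp only [AddSubmonoidClass.coe_finsetSum, Submodule.coe_smul, ZeroMemClass.coe_zero, hsm]
      have h3 : ∀ i, toK (⟨_, hj i⟩ : ram p M) = c i / c j := fun i => rfl
      rw [Finset.sum_congr rfl fun i _ => by rw [h3 i, div_eq_inv_mul, mul_smul], ← Finset.smul_sum, hc,
        smul_zero])
    have h2 := Fintype.linearIndependent_iff.mp b.linearIndependent _ h1 j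
    exact one_ne_zero (α := ram p M) ((Subtype.ext (by simp [hj0])).symm.trans h2)
  have hspan : ⊤ ≤ Submodule.span (ramField p) (Set.range fun i => (b i : V)) := by
    intro v _
    rw [hvec v]
    refine sum_mem fun i _ => Submodule.smul_mem _ _ ?_
    have h := congrArg Subtype.val (b.sum_repr ⟨_, hL0N (hstd i)⟩)
    simp only [AddSubmonoidClass.coe_finsetSum, Submodule.coe_smul, hsm] at h
    rw [← h]
    exact sum_mem fun k _ => Submodule.smul_mem _ _ (Submodule.subset_span ⟨k, rfl⟩)
  let bK := Module.Basis.mk hliK hspan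
  have hmn : Fintype.card (Module.Free.ChooseBasisIndex (ram p M) N) = n := by
    rw [← Module.finrank_eq_card_basis bK, Module.finrank_fin_fun]
  let ix := Fintype.equivFinOfCardEq hmn
  let b' := b.reindex ix
  let bK' := bK.reindex ix
  have hbb : ∀ i, bK' i = (b' i : V) := fun i => by simp [bK', b', bK]
  let act : L →* Module.End (ram p M) N :=
    { toFun := fun g => ((Matrix.mulVecLin (τ g)).restrictScalars (ram p M)).restrict (hNs g)
      map_one' := LinearMap.ext fun v => Subtype.ext (by simp)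
      map_mul' := fun g h => LinearMap.ext fun v => Subtype.ext (show τ (g * h) *ᵥ (v : V) = τ g *ᵥ (τ h *ᵥ (v : V)) by rw [map_mul, mulVec_mulVec]) }
  have hact : ∀ g (v : N), (act g v : V) = τ g *ᵥ (v : V) := fun g v => rfl
  let σ : L →* Matrix (Fin n) (Fin n) (ram p M) := (LinearMap.toMatrixAlgEquiv b').toMonoidHom.comp act
  have hσ : ∀ g (v : N), b'.repr (act g v) = σ g *ᵥ ⇑(b'.repr v) := fun g v =>
    (LinearMap.toMatrix_mulVec_repr b' b' (act g) v).symm
  have htrace : ∀ g, (((σ g).trace : ram p M) : ℂ) = (χ : L → ℂ) g := by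
    intro g
    rw [← htr g]
    have h1 : (σ g).map toK = LinearMap.toMatrix bK' bK' (Matrix.mulVecLin (τ g)) := by
      refine Matrix.ext fun i j => ?_
      rw [LinearMap.toMatrix_apply, Matrix.mulVecLin_apply, hbb, ← hact]
      show toK ((LinearMap.toMatrix b' b' (act g)) i j) = _
      rw [LinearMap.toMatrix_apply]
      have h := congrArg Subtype.val (b'.sum_repr (act g (b' j)))
      simp only [AddSubmonoidClass.coe_finsetSum, Submodule.coe_smul, hsm, ← hbb] at h
      rw [← h, Module.Basis.repr_sum_self]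
    have h2 := congrArg Matrix.trace h1
    rw [← LinearMap.trace_eq_matrix_trace, ← Matrix.toLin'_apply', Matrix.trace_toLin'_eq,
      show ((σ g).map toK).trace = toK (σ g).trace from
        (AddMonoidHom.map_trace (toK (p := p) (M := M)).toAddMonoidHom (σ g)).symm] at h2
    rw [← h2]
    rfl
  -- the socle
  let co : ∀ v : V, π • v ∈ N → Fin n → ResField M := fun v h => redK ⇑(b'.repr ⟨π • v, h⟩)
  have hcoπ : ∀ v (hv : v ∈ N) (h : π • v ∈ N), co v h = 0 := by
    intro v hv h
    funext i
    show resRam p M (b'.repr ⟨π • v, h⟩ i) = 0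
    rw [show (⟨π • v, h⟩ : N) = piR p M • ⟨v, hv⟩ from Subtype.ext (hsm _ _).symm, map_smul,
      Finsupp.smul_apply, smul_eq_mul, map_mul, resRam_piR hM, zero_mul]
  obtain ⟨v0, hv0P, hv0N⟩ := SetLike.not_le_iff_exists.mp hPN
  have hv0π : π • v0 ∈ N := hL0N ((hPmem v0).mp hv0P)
  refine ⟨n, σ, co v0 hv0π, hn, hdeg, htrace, fun h0 => hv0N ?_, fun U hU hU0 => ?_⟩
  · -- the coordinates are divisible by `π`
    have hdvd : ∀ i, piR p M ∣ b'.repr ⟨π • v0, hv0π⟩ i := fun i =>
      (res_eq_zero_iff hM _).mp (congrFun h0 i)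
    choose c hc using hdvd
    have h := congrArg Subtype.val (b'.sum_repr ⟨π • v0, hv0π⟩)
    simp only [AddSubmonoidClass.coe_finsetSum, Submodule.coe_smul, hc, mul_smul] at h
    rw [← Finset.smul_sum, hsm, ← hπ] at h
    rw [← smul_right_injective V hπ0 h]
    exact sum_mem fun i _ => N.smul_mem _ (b' i).2
  · let N₂ : Submodule (ram p M) V :=
      { carrier := {v | ∃ h : π • v ∈ N, co v h ∈ U}
        zero_mem' := ⟨by rw [smul_zero]; exact zero_mem _, by
          rw [hcoπ 0 (zero_mem _)]; exact zero_mem _⟩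
        add_mem' := by
          rintro v w ⟨hv, hv'⟩ ⟨hw, hw'⟩
          refine ⟨by rw [smul_add]; exact add_mem hv hw, ?_⟩
          convert add_mem hv' hw' using 1
          funext i
          simp only [co, redK, Pi.add_apply, ← map_add, ← Finsupp.add_apply]
          congr 3
          exact Subtype.ext (smul_add _ _ _)
        smul_mem' := by
          rintro r v ⟨hv, hv'⟩
          have e : π • r • v = r • π • v := by rw [hsm, hsm, smul_comm]
          refine ⟨by rw [e]; exact N.smul_mem r hv, ?_⟩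
          convert U.smul_mem (resRam p M r) hv' using 1
          funext i
          show resRam p M (b'.repr ⟨π • r • v, _⟩ i) = resRam p M r * resRam p M (b'.repr ⟨π • v, hv⟩ i)
          rw [show (⟨π • r • v, by rw [e]; exact N.smul_mem r hv⟩ : N) = r • (⟨π • v, hv⟩ : N) from
            Subtype.ext e, map_smul, Finsupp.smul_apply, smul_eq_mul, map_mul] }
    have hs : Stab N₂ := by
      rintro g v ⟨hv, hv'⟩
      have e : π • (τ g *ᵥ v) = τ g *ᵥ (π • v) := (mulVec_smul _ _ _).symm
      refine ⟨by rw [e]; exact hNs g _ hv, ?_⟩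
      convert hU g _ hv' using 1
      show redK ⇑(b'.repr _) = _
      rw [show (⟨π • (τ g *ᵥ v), by rw [e]; exact hNs g _ hv⟩ : N) = act g ⟨π • v, hv⟩ from
        Subtype.ext (e.trans (hact g ⟨π • v, hv⟩).symm), hσ]
      funext i
      exact RingHom.map_mulVec _ _ _ i
    have hlt : N < N₂ := by
      refine lt_of_le_of_ne (fun v hv => ⟨by rw [hπ, ← hsm]; exact N.smul_mem _ hv, by
        rw [hcoπ v hv]; exact zero_mem _⟩) fun heq => ?_
      obtain ⟨u, hu, hu0⟩ := Submodule.exists_mem_ne_zero_of_ne_bot hU0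
      choose c hc using fun i => resRam_surjective hM (u i)
      set w : N := ∑ i, c i • b' i with hw
      have hwπ : π • (π⁻¹ • (w : V)) = w := by rw [smul_smul, mul_inv_cancel₀ hπ0, one_smul]
      have hrepr : ∀ h, co (π⁻¹ • (w : V)) h = u := fun h => by
        funext i
        show resRam p M (b'.repr _ i) = u i
        rw [show (⟨π • (π⁻¹ • (w : V)), h⟩ : N) = w from Subtype.ext hwπ, hw, Module.Basis.repr_sum_self, hc]
      have hmem : π⁻¹ • (w : V) ∈ N₂ := ⟨by rw [hwπ]; exact w.2, by rw [hrepr]; exact hu⟩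
      rw [← heq] at hmem
      refine hu0 ?_
      rw [← hrepr (by rw [hwπ]; exact w.2)]
      exact hcoπ _ hmem _
    exact (hgrow N₂ hs hlt hv0P).2

end CfsgLib.Char.SmallDegree
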