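import Cfsg.Agent.Lib.Char.HalfDegree.Setup

/-!
# A Sylow subgroup of order `p` with central `p'`-part of the centraliser
-/

set_option autoImplicit false
set_option linter.unusedSectionVars false

namespace CfsgLib.Char.SmallDegree

open CfsgLib.Char.HalfDegree

universe u

/-- `x` has order `p`, `y` induces a generator `r` of the automizer of `⟨x⟩`, and the normaliser of
`⟨x⟩` is generated by `x`, `y` and the centre. -/
structure NData (p e : ℕ) {L : Type u} [Group L] (x y : L) (r : ZMod p) : Prop where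
  ord : orderOf x = p
  not_sq : ¬ p ^ 2 ∣ Nat.card L
  two_le : 2 ≤ e
  dvd_pred : e ∣ p - 1
  prim : IsPrimitiveRoot r e
  conj : y * x * y⁻¹ = x ^ r.val
  pow_mem : y ^ e ∈ Subgroup.center L
  y_reg : ¬ p ∣ orderOf y
  center_reg : ¬ p ∣ Nat.card (Subgroup.center L)
  norm : ∀ n ∈ Subgroup.normalizer (Subgroup.zpowers x : Set L),
    ∃ (i l : ℕ) (z : L), z ∈ Subgroup.center L ∧ n = x ^ i * y ^ l * z
  sing : ∀ g : L, p ∣ orderOf g → ∃ (c z : L) (i : ℕ),
    z ∈ Subgroup.center L ∧ ¬ p ∣ i ∧ c * g * c⁻¹ = x ^ i * z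

variable {p e : ℕ} [hp : Fact p.Prime] {L : Type u} [Group L] {x y : L} {r : ZMod p}

theorem NData.locData (D : NData p e x y r) : LocData p x := ⟨D.ord, D.not_sq⟩

theorem NData.pow_p (D : NData p e x y r) : x ^ p = 1 := D.ord ▸ pow_orderOf_eq_one x

theorem NData.e_lt (D : NData p e x y r) : e < p := by
  have := Nat.le_of_dvd (by have := hp.out.two_le; omega) D.dvd_pred
  have := hp.out.two_le
  omega

theorem NData.e_ne_zero (D : NData p e x y r) : e ≠ 0 := by have := D.two_le; omega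

theorem NData.not_dvd_e (D : NData p e x y r) : ¬ p ∣ e :=
  Nat.not_dvd_of_pos_of_lt (by have := D.two_le; omega) D.e_lt

theorem NData.r_ne_zero (D : NData p e x y r) : r ≠ 0 := D.prim.ne_zero D.e_ne_zero

theorem NData.mul_x (D : NData p e x y r) : y * x = x ^ r.val * y :=
  mul_inv_eq_iff_eq_mul.mp D.conj

theorem NData.conj_pow_l (D : NData p e x y r) (l : ℕ) : y ^ l * x * (y ^ l)⁻¹ = x ^ (r ^ l).val := by
  induction l with
  | zero => simp [ZMod.val_one]
  | succ l ih =>
    rw [pow_succ', show y * y ^ l * x * (y * y ^ l)⁻¹ = y * (y ^ l * x * (y ^ l)⁻¹) * y⁻¹ by group, ih,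
      ← conj_pow, D.conj, ← pow_mul, pow_succ' r l, ZMod.val_mul, ← pow_eq_pow_mod _ D.pow_p]

end CfsgLib.Char.SmallDegree
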