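import Cfsg.Agent.Lib.Char.SmallDegree.Reduce
import Cfsg.Agent.Lib.Char.SmallDegree.Avg
import Cfsg.Agent.Lib.Char.SmallDegree.Setting
import Mathlib.RepresentationTheory.Character

/-!
# From the normaliser to the group

For a lattice with trivial centre, the rank of the fixed vectors of the normaliser exceeds the rank
of the fixed vectors of the group at most by the fixed vectors in the image of `(x - 1) ^ (p - 1)`
modulo `π`.
-/

set_option autoImplicit false
set_option linter.unusedSectionVars false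

namespace CfsgLib.Char.SmallDegree

open Cfsg CfsgLib.Block CfsgLib.Block.Cyclic Finset Matrix

universe u

variable {p : ℕ} [hpf : Fact p.Prime] {M : Ideal AlgInt} [hMm : M.IsMaximal] (hM : IsPModular p M)
  {ι : Type*} [Fintype ι] [DecidableEq ι] {L : Type u} [Group L] [Finite L]

/-- The representation over the field. -/
noncomputable def overK (u : L →* Matrix ι ι (ram p M)) :
    L →* Module.End (ramField p) (ι → ramField p) :=
  (Matrix.toLinAlgEquiv'.toMonoidHom.comp ((toK (p := p) (M := M)).mapMatrix.toMonoidHom)).comp u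

/-- The representation modulo `π`. -/
noncomputable def overRes (u : L →* Matrix ι ι (ram p M)) :
    L →* Module.End (ResField M) (ι → ResField M) :=
  (Matrix.toLinAlgEquiv'.toMonoidHom.comp ((resRam p M).mapMatrix.toMonoidHom)).comp u

theorem overK_apply (u : L →* Matrix ι ι (ram p M)) (g : L) (v : ι → ramField p) :
    overK u g v = (u g).map toK *ᵥ v := rfl

theorem overRes_apply (u : L →* Matrix ι ι (ram p M)) (g : L) (v : ι → ResField M) :
    overRes u g v = (u g).map (resRam p M) *ᵥ v := rfl

theorem overK_lift (u : L →* Matrix ι ι (ram p M)) (g : L) (v : ι → ram p M) :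
    overK u g (liftK v) = liftK (u g *ᵥ v) := by
  rw [overK_apply]
  funext i
  exact (RingHom.map_mulVec toK (u g) v i).symm

theorem overRes_red (u : L →* Matrix ι ι (ram p M)) (g : L) (v : ι → ram p M) :
    overRes u g (redK v) = redK (u g *ᵥ v) := by
  rw [overRes_apply]
  funext i
  exact (RingHom.map_mulVec (resRam p M) (u g) v i).symm

theorem liftK_injective : Function.Injective (liftK (p := p) (M := M) (ι := ι)) :=
  fun _ _ h => funext fun i => toK_injective (congrFun h i)

theorem trace_overK (u : L →* Matrix ι ι (ram p M)) (g : L) :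
    ((LinearMap.trace (ramField p) (ι → ramField p) (overK u g) : ramField p) : ℂ) =
      ((u g).trace : ℂ) := by
  show ((LinearMap.trace _ _ (Matrix.toLin' ((u g).map toK)) : ramField p) : ℂ) = _
  rw [Matrix.trace_toLin'_eq, show ((u g).map toK).trace = toK (u g).trace from
    (AddMonoidHom.map_trace (toK (p := p) (M := M)).toAddMonoidHom (u g)).symm]
  rfl

/-- The vectors fixed by the group. -/
noncomputable def fixG (u : L →* Matrix ι ι (ram p M)) : Submodule (ramField p) (ι → ramField p) :=
  Representation.invariants (overK u)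

/-- The vectors fixed by one element. -/
noncomputable def fixOne (u : L →* Matrix ι ι (ram p M)) (g : L) :
    Submodule (ramField p) (ι → ramField p) :=
  LinearMap.ker (overK u g - 1)

/-- The vectors fixed by one element, modulo `π`. -/
noncomputable def fixRes (u : L →* Matrix ι ι (ram p M)) (g : L) :
    Submodule (ResField M) (ι → ResField M) :=
  LinearMap.ker (overRes u g - 1)

theorem finrank_fixG (u : L →* Matrix ι ι (ram p M)) [Fintype L] :
    (Module.finrank (ramField p) (fixG u) : ℂ) =
      (Nat.card L : ℂ)⁻¹ * ∑ g : L, ((u g).trace : ℂ) := by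
  haveI : Invertible ((Nat.card L : ℕ) : ramField p) :=
    invertibleOfNonzero (Nat.cast_ne_zero.mpr Nat.card_pos.ne')
  haveI : Invertible (Fintype.card L : ramField p) :=
    invertibleOfNonzero (Nat.cast_ne_zero.mpr Fintype.card_ne_zero)
  have h := (Representation.isProj_averageMap (overK u)).trace
  have h2 : LinearMap.trace (ramField p) (ι → ramField p) (Representation.averageMap (overK u)) =
      (Fintype.card L : ramField p)⁻¹ * ∑ g : L, LinearMap.trace (ramField p) _ (overK u g) := by
    simp [GroupAlgebra.average, map_sum, invOf_eq_inv]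
  rw [h2] at h
  have h3 := congrArg (fun z : ramField p => (z : ℂ)) h
  push_cast at h3
  rw [fixG, ← h3, Nat.card_eq_fintype_card]
  congr 1
  exact Finset.sum_congr rfl fun g _ => trace_overK u g

variable {e : ℕ} {x y : L} {r : ZMod p}

theorem overK_pow_e (D : NData p e x y r) (u : L →* Matrix ι ι (ram p M))
    (hz : ∀ z ∈ Subgroup.center L, u z = 1) : overK u y ^ e = 1 := by
  rw [← map_pow]
  show Matrix.toLinAlgEquiv' ((toK (p := p) (M := M)).mapMatrix (u (y ^ e))) = 1
  rw [hz _ D.pow_mem, map_one, map_one]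

theorem finrank_fixN (D : NData p e x y r) (u : L →* Matrix ι ι (ram p M))
    (hz : ∀ z ∈ Subgroup.center L, u z = 1) :
    (Module.finrank (ramField p) (fixOne u x ⊓ fixOne u y : Submodule _ _) : ℂ) =
      (p : ℂ)⁻¹ * (e : ℂ)⁻¹ * ∑ i : ZMod p, ∑ l ∈ range e, ((u (x ^ i.val * y ^ l)).trace : ℂ) := by
  have h := finrank_fix_two (p := p) (X := overK u x) (Y := overK u y) (r := r)
    (by rw [← map_pow, D.pow_p, map_one]) (overK_pow_e D u hz)
    (Nat.cast_ne_zero.mpr hpf.out.ne_zero) (Nat.cast_ne_zero.mpr D.e_ne_zero) D.r_ne_zero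
    (by rw [← map_pow, ← map_mul, ← map_mul, D.mul_x])
  have h3 := congrArg (fun z : ramField p => (z : ℂ)) h
  push_cast at h3
  unfold fixOne
  rw [h3]
  congr 1
  refine Finset.sum_congr rfl fun i _ => Finset.sum_congr rfl fun l _ => ?_
  rw [← map_pow, ← map_pow, ← map_mul]
  exact trace_overK u _

theorem finrank_fixY (D : NData p e x y r) (u : L →* Matrix ι ι (ram p M))
    (hz : ∀ z ∈ Subgroup.center L, u z = 1) :
    (Module.finrank (ramField p) (fixOne u y) : ℂ) =
      (e : ℂ)⁻¹ * ∑ l ∈ range e, ((u (y ^ l)).trace : ℂ) := by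
  have h := finrank_fix (T := overK u y) (Nat.cast_ne_zero.mpr D.e_ne_zero) (overK_pow_e D u hz)
  have h3 := congrArg (fun z : ramField p => (z : ℂ)) h
  push_cast at h3
  unfold fixOne
  rw [h3]
  congr 1
  refine Finset.sum_congr rfl fun l _ => ?_
  rw [← map_pow]
  exact trace_overK u _

theorem mem_fixOne_lift {u : L →* Matrix ι ι (ram p M)} {g : L} {v : ι → ram p M} :
    liftK v ∈ fixOne u g ↔ u g *ᵥ v = v := by
  rw [fixOne, mem_ker_sub_one, overK_lift]
  exact liftK_injective.eq_iff

theorem mem_fixRes_red {u : L →* Matrix ι ι (ram p M)} {g : L} {v : ι → ram p M}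
    (h : u g *ᵥ v = v) : redK v ∈ fixRes u g := by
  rw [fixRes, mem_ker_sub_one, overRes_red, h]

include hM in
/-- The fixed space of `y` keeps its dimension. -/
theorem finrank_fixY_red (D : NData p e x y r) (u : L →* Matrix ι ι (ram p M))
    (hz : ∀ z ∈ Subgroup.center L, u z = 1) :
    Module.finrank (ResField M) (fixRes u y) = Module.finrank (ramField p) (fixOne u y) := by
  classical
  rw [← finrank_redS hM (fixOne u y)]
  suffices h : fixRes u y = redS hM (fixOne u y) by rw [h]
  refine le_antisymm (fun w hw => ?_) ?_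
  · have := charP_resField hM
    choose v hv using fun i => resRam_surjective hM (w i)
    have he : resRam p M (e : ram p M) ≠ 0 := by
      rw [map_natCast, Ne, CharP.cast_eq_zero_iff (ResField M) p]
      exact D.not_dvd_e
    obtain ⟨q, hq⟩ := isUnit_iff_exists_inv.mp (isUnit_of_res he)
    set A := ∑ l ∈ range e, u y ^ l with hA
    have hyA : u y * A = A := by
      have h := mul_geom_sum (u y) e
      rw [show u y ^ e = 1 by rw [← map_pow, hz _ D.pow_mem], sub_self, sub_mul, one_mul,
        sub_eq_zero] at h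
      exact h
    refine ⟨q • (A *ᵥ v), ?_, ?_⟩
    · rw [mem_fixOne_lift, mulVec_smul, mulVec_mulVec, hyA]
    · have hw1 : ∀ l, overRes u (y ^ l) w = w := fun l => by
        induction l with
        | zero => rw [pow_zero, map_one]; rfl
        | succ l ih =>
          rw [pow_succ, map_mul, Module.End.mul_apply]
          rw [fixRes, mem_ker_sub_one] at hw
          rw [hw, ih]
      funext i
      show resRam p M ((q • (A *ᵥ v)) i) = w i
      rw [Pi.smul_apply, smul_eq_mul, map_mul, hA, Matrix.sum_mulVec, Finset.sum_apply, map_sum]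
      have h4 : ∀ l, resRam p M ((u y ^ l *ᵥ v) i) = w i := fun l => by
        have h5 := congrFun (overRes_red u (y ^ l) v) i
        rw [show redK v = w from funext hv, hw1, map_pow] at h5
        exact h5.symm
      rw [Finset.sum_congr rfl fun l _ => h4 l, Finset.sum_const, card_range, nsmul_eq_mul, ← mul_assoc,
        ← map_natCast (resRam p M), ← map_mul, mul_comm q, hq, map_one, one_mul]
  · rintro w ⟨v, hv, rfl⟩
    exact mem_fixRes_red (mem_fixOne_lift.mp hv)

/-- A sum over a set permuted freely by an operator lies in the image of the norm. -/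
theorem sum_free_mem_range {k : Type*} [Field k] {V : Type*} [AddCommGroup V] [Module k V]
    {S : Type*} [Fintype S] [DecidableEq S] (T : Finset S) (σ : Equiv.Perm S) (X : Module.End k V)
    (f : S → V) (hT : ∀ q, q ∈ T ↔ σ q ∈ T) (hσ : σ ^ p = 1) (hfree : ∀ q ∈ T, σ q ≠ q)
    (hf : ∀ q ∈ T, f (σ q) = X (f q)) :
    ∃ w, ∑ q ∈ T, f q = (∑ i ∈ range p, X ^ i) w := by
  classical
  have hp := hpf.out
  have hmem : ∀ (i : ℕ) q, q ∈ T → (σ ^ i) q ∈ T := fun i q hq => by
    induction i with
    | zero => exact hq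
    | succ i ih => rw [pow_succ', Equiv.Perm.mul_apply]; exact (hT _).mp ih
  have hfpow : ∀ (i : ℕ) q, q ∈ T → f ((σ ^ i) q) = (X ^ i) (f q) := fun i q hq => by
    induction i with
    | zero => rfl
    | succ i ih =>
      rw [pow_succ', Equiv.Perm.mul_apply, hf _ (hmem i q hq), ih, pow_succ', Module.End.mul_apply]
  have hinj : ∀ q ∈ T, ∀ i < p, ∀ j < p, (σ ^ i) q = (σ ^ j) q → i = j := by
    intro q hq i hi j hj hij
    wlog hle : i ≤ j generalizing i j
    · exact (this j hj i hi hij.symm (Nat.le_of_not_le hle)).symm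
    by_contra hne
    obtain ⟨m, rfl⟩ := Nat.exists_eq_add_of_le hle
    rw [add_comm i m, pow_add, Equiv.Perm.mul_apply] at hij
    have hper : Function.IsPeriodicPt σ m ((σ ^ i) q) := by
      show (⇑σ)^[m] _ = _
      rw [Equiv.Perm.iterate_eq_pow]
      exact hij.symm
    have hperp : Function.IsPeriodicPt σ p ((σ ^ i) q) := by
      show (⇑σ)^[p] _ = _
      rw [Equiv.Perm.iterate_eq_pow, hσ]
      rfl
    have h1 := hper.gcd hperp
    rw [Nat.Coprime.gcd_eq_one (hp.coprime_iff_not_dvd.2
      (Nat.not_dvd_of_pos_of_lt (by omega) (by omega))).symm] at h1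
    exact hfree _ (hmem i q hq) h1
  set idx := Fintype.equivFin S with hidx
  let orb : S → Finset S := fun q => (range p).image fun i => (σ ^ i) q
  have horb : ∀ q i, orb ((σ ^ i) q) = orb q := by
    intro q i
    have hper : ∀ a : ℕ, (σ ^ a) q = (σ ^ (a % p)) q := fun a => by rw [← pow_eq_pow_mod a hσ]
    refine Finset.eq_of_subset_of_card_le ?_ ?_
    · intro z hz
      obtain ⟨j, -, rfl⟩ := Finset.mem_image.mp hz
      refine Finset.mem_image.mpr ⟨(j + i) % p, mem_range.2 (Nat.mod_lt _ hp.pos), ?_⟩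
      rw [← hper, pow_add, Equiv.Perm.mul_apply]
    · refine Finset.card_le_card fun z hz => ?_
      obtain ⟨j, hj, rfl⟩ := Finset.mem_image.mp hz
      refine Finset.mem_image.mpr ⟨(j + (p - 1) * i) % p, mem_range.2 (Nat.mod_lt _ hp.pos), ?_⟩
      rw [← Equiv.Perm.mul_apply, ← pow_eq_pow_mod _ hσ, ← pow_add]
      congr 1
      rw [pow_eq_pow_mod _ hσ, show j + (p - 1) * i + i = j + p * i by
        obtain ⟨p', rfl⟩ := Nat.exists_eq_add_of_le hp.one_le; rw [Nat.add_sub_cancel_left]; ring,
        Nat.add_mul_mod_self_left, ← pow_eq_pow_mod _ hσ]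
  have hne : ∀ q, (orb q).Nonempty := fun q =>
    ⟨q, Finset.mem_image.mpr ⟨0, mem_range.2 hp.pos, rfl⟩⟩
  let isrep : S → Prop := fun q => ∀ z ∈ orb q, idx q ≤ idx z
  refine ⟨∑ q ∈ T.filter isrep, f q, ?_⟩
  rw [LinearMap.sum_apply, Finset.sum_congr rfl fun i _ => map_sum (X ^ i) _ _,
    Finset.sum_congr rfl fun i _ => Finset.sum_congr rfl fun q hq =>
      (hfpow i q (Finset.mem_filter.mp hq).1).symm, ← Finset.sum_product']
  refine (Finset.sum_bij (fun a _ => (σ ^ a.1) a.2) (fun a ha => ?_) (fun a ha b hb hab => ?_)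
    (fun z hz => ?_) fun a _ => rfl).symm
  · simp only [mem_product, mem_filter] at ha
    exact hmem _ _ ha.2.1
  · simp only [mem_product, mem_filter, mem_range] at ha hb
    have horb' : orb a.2 = orb b.2 := by rw [← horb a.2 a.1, hab, horb]
    have hself : ∀ q, q ∈ orb q := fun q => Finset.mem_image.mpr ⟨0, mem_range.2 hp.pos, rfl⟩
    have h2 : a.2 = b.2 := idx.injective (le_antisymm (ha.2.2 _ (horb' ▸ hself b.2))
      (hb.2.2 _ (horb'.symm ▸ hself a.2)))
    exact Prod.ext (hinj a.2 ha.2.1 a.1 ha.1 b.1 hb.1 (h2 ▸ hab)) h2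
  · obtain ⟨q, hq, hmin⟩ := Finset.exists_min_image (orb z) idx (hne z)
    obtain ⟨i, -, rfl⟩ := Finset.mem_image.mp hq
    have hz' : (σ ^ ((p - 1) * i % p)) ((σ ^ i) z) = z := by
      rw [← Equiv.Perm.mul_apply, ← pow_eq_pow_mod _ hσ, ← pow_add,
        show (p - 1) * i + i = p * i by
          obtain ⟨p', rfl⟩ := Nat.exists_eq_add_of_le hp.one_le; rw [Nat.add_sub_cancel_left]; ring,
        pow_mul, hσ, one_pow]
      rfl
    refine ⟨((p - 1) * i % p, (σ ^ i) z), ?_, hz'⟩
    simp only [mem_product, mem_filter, mem_range]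
    exact ⟨Nat.mod_lt _ hp.pos, hmem _ _ hz, fun w hw => hmin w (horb z i ▸ hw)⟩

include hM in
/-- The inequality between the fixed vectors of the normaliser and of the group. -/
theorem finrank_fixN_le (D : NData p e x y r) (u : L →* Matrix ι ι (ram p M))
    (hz : ∀ z ∈ Subgroup.center L, u z = 1) :
    Module.finrank (ramField p) (fixOne u x ⊓ fixOne u y : Submodule _ _) ≤
      Module.finrank (ramField p) (fixG u) +
      Module.finrank (ResField M)
        (LinearMap.range ((overRes u x - 1) ^ (p - 1)) ⊓ (fixRes u x ⊓ fixRes u y) :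
          Submodule (ResField M) (ι → ResField M)) := by
  classical
  have := charP_resField hM
  rw [← finrank_redS hM (fixOne u x ⊓ fixOne u y), ← finrank_redS hM (fixG u)]
  refine le_trans (Submodule.finrank_mono ?_) (Submodule.finrank_add_le_finrank_add_finrank _ _)
  rintro _ ⟨v, hv, rfl⟩
  have hvx : u x *ᵥ v = v := mem_fixOne_lift.mp hv.1
  have hvy : u y *ᵥ v = v := mem_fixOne_lift.mp hv.2
  set N := Subgroup.normalizer (Subgroup.zpowers x : Set L) with hNdef
  haveI : Fintype (L ⧸ N) := Fintype.ofFinite _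
  have hN : ∀ n ∈ N, u n *ᵥ v = v := by
    intro n hn
    obtain ⟨i, l, z, hzc, rfl⟩ := D.norm n hn
    have hpow : ∀ (g : L) (j : ℕ), u g *ᵥ v = v → u (g ^ j) *ᵥ v = v := fun g j hg => by
      induction j with
      | zero => rw [pow_zero, map_one, one_mulVec]
      | succ j ih => rw [pow_succ, map_mul, ← mulVec_mulVec, hg, ih]
    rw [map_mul, map_mul, hz z hzc, mul_one, ← mulVec_mulVec, hpow y l hvy, hpow x i hvx]
  have hout : ∀ g : L, u (g : L ⧸ N).out *ᵥ v = u g *ᵥ v := fun g => by
    obtain ⟨n, hn⟩ := QuotientGroup.mk_out_eq_mul N g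
    rw [hn, map_mul, ← mulVec_mulVec, hN _ n.2]
  have hsmul : ∀ (g : L) (q : L ⧸ N), u (g • q).out *ᵥ v = u g *ᵥ (u q.out *ᵥ v) := fun g q => by
    obtain ⟨a, rfl⟩ := QuotientGroup.mk_surjective q
    rw [show g • (a : L ⧸ N) = ((g * a : L) : L ⧸ N) from rfl, hout, hout, map_mul, mulVec_mulVec]
  set w := ∑ q : L ⧸ N, u q.out *ᵥ v with hw
  have hwG : liftK w ∈ fixG u := by
    intro g
    rw [overK_lift]
    congr 1
    rw [hw, Matrix.mulVec_sum]
    exact Fintype.sum_equiv (MulAction.toPerm g) _ _ fun q => (hsmul g q).symm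
  set q₁ : L ⧸ N := ((1 : L) : L ⧸ N) with hq1
  set σ : Equiv.Perm (L ⧸ N) := MulAction.toPermHom L (L ⧸ N) x with hσ
  have hσq : ∀ q, σ q = x • q := fun q => rfl
  have hxN : x ∈ N := Subgroup.le_normalizer (Subgroup.mem_zpowers x)
  have hq1fix : σ q₁ = q₁ := by
    rw [hσq, hq1]
    exact QuotientGroup.eq.mpr (by simpa using inv_mem hxN)
  obtain ⟨w', hw'⟩ := sum_free_mem_range (p := p) (Finset.univ.erase q₁) σ (overRes u x)
    (fun q => redK (u q.out *ᵥ v))
    (fun q => by
      simp only [mem_erase, mem_univ, and_true]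
      exact not_congr ⟨fun h => by rw [h, hq1fix], fun h => σ.injective (h.trans hq1fix.symm)⟩)
    (by rw [hσ, ← map_pow, D.pow_p, map_one])
    (fun q hq hfx => (mem_erase.mp hq).1 (by
      obtain ⟨a, rfl⟩ := QuotientGroup.mk_surjective q
      rw [hσq, show x • (a : L ⧸ N) = ((x * a : L) : L ⧸ N) from rfl, QuotientGroup.eq] at hfx
      rw [hq1, QuotientGroup.eq, mul_one]
      refine inv_mem (D.locData.fix ?_)
      have := inv_mem hfx
      simpa [mul_assoc] using this))
    (fun q _ => by rw [hσq, hsmul, overRes_red])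
  have hS : ∑ q ∈ univ.erase q₁, redK (u q.out *ᵥ v) ∈
      LinearMap.range ((overRes u x - 1) ^ (p - 1)) := by
    rw [hw', HalfDegree.geom_sum_eq_sub_pow (k := ResField M)]
    exact LinearMap.mem_range_self _ _
  have hsplit : redK w = redK v + ∑ q ∈ univ.erase q₁, redK (u q.out *ᵥ v) := by
    have h1 : redK w = ∑ q : L ⧸ N, redK (u q.out *ᵥ v) := by
      funext i
      simp [hw, redK, Finset.sum_apply, map_sum]
    rw [h1, ← Finset.add_sum_erase _ _ (mem_univ q₁), hq1, hout, map_one, one_mulVec]
  rw [Submodule.mem_sup]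
  refine ⟨redK w, ⟨w, hwG, rfl⟩, redK v - redK w, ⟨?_, ?_⟩, by abel⟩
  · rw [hsplit, sub_add_cancel_left]
    exact neg_mem hS
  · exact ⟨sub_mem (mem_fixRes_red hvx) (mem_fixRes_red (mem_fixOne_lift.mp (by
        rw [fixOne, mem_ker_sub_one]; exact hwG x))),
      sub_mem (mem_fixRes_red hvy) (mem_fixRes_red (mem_fixOne_lift.mp (by
        rw [fixOne, mem_ker_sub_one]; exact hwG y)))⟩

end CfsgLib.Char.SmallDegree
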