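import Cfsg.Agent.Lib.Char.SmallDegree.Block
import Cfsg.Agent.Lib.Char.SmallDegree.Transfer

/-!
# Local endomorphism rings

If every nonzero invariant subspace contains a fixed nonzero vector, every equivariant endomorphism
is a scalar plus a nilpotent one; so of an idempotent of the normaliser and its complement one is a
trace from the trivial group.
-/

set_option autoImplicit false
set_option linter.unusedSectionVars false

namespace CfsgLib.Char.SmallDegree

open Finset CfsgLib.Char

universe u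

variable {k : Type*} [Field k] [IsAlgClosed k] {p : ℕ} [hp : Fact p.Prime] [CharP k p]
  {V : Type*} [AddCommGroup V] [Module k V] [FiniteDimensional k V]

/-- An equivariant endomorphism has a single eigenvalue. -/
theorem exists_scalar_add_nilpotent {L : Type*} [Group L] (ρ : L →* Module.End k V) {s : V}
    (hs : s ≠ 0) (hsoc : ∀ W : Submodule k V, (∀ g, ∀ v ∈ W, ρ g v ∈ W) → W ≠ ⊥ → s ∈ W)
    {T : Module.End k V} (hT : ∀ g, Commute (ρ g) T) : ∃ a : k, IsNilpotent (T - a • 1) := by
  haveI : Nontrivial V := ⟨⟨s, 0, hs⟩⟩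
  obtain ⟨a, ha⟩ := Module.End.exists_eigenvalue T
  set T' := T - a • 1 with hT'
  have hc : ∀ (n : ℕ) g, Commute (ρ g) (T' ^ n) := fun n g =>
    ((hT g).sub_right ((Commute.one_right _).smul_right a)).pow_right n
  obtain ⟨v, hv, hv0⟩ := ha.exists_hasEigenvector
  rw [Module.End.mem_eigenspace_iff] at hv
  have hv' : T' v = 0 := by
    rw [hT', LinearMap.sub_apply, hv, LinearMap.smul_apply, Module.End.one_apply, sub_self]
  have hker : ∀ n, 0 < n → LinearMap.ker (T' ^ n) ≠ ⊥ := fun n hn h => hv0 (by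
    have : v ∈ LinearMap.ker (T' ^ n) := by
      rw [LinearMap.mem_ker, show n = n - 1 + 1 by omega, pow_succ, Module.End.mul_apply, hv', map_zero]
    rwa [h, Submodule.mem_bot] at this)
  obtain ⟨N, hN⟩ := Filter.eventually_atTop.mp T'.eventually_disjoint_ker_pow_range_pow
  set n := N + 1 with hn
  refine ⟨a, n, ?_⟩
  have hd : Disjoint (LinearMap.ker (T' ^ n)) (LinearMap.range (T' ^ n)) := hN n (by omega)
  by_contra hne
  refine hs (Submodule.disjoint_def.mp hd s (hsoc _ (fun g v hv => ?_) (hker n (by omega)))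
    (hsoc _ (fun g v hv => ?_) (fun h => hne (LinearMap.range_eq_bot.mp h))))
  · rw [LinearMap.mem_ker] at hv ⊢
    rw [← Module.End.mul_apply, ← (hc n g).eq, Module.End.mul_apply, hv, map_zero]
  · obtain ⟨w, rfl⟩ := hv
    exact ⟨ρ g w, by rw [← Module.End.mul_apply, ← (hc n g).eq, Module.End.mul_apply]⟩

theorem trOp_mul {X ψ φ : Module.End k V} (h : Commute φ X) : trOp p X ψ * φ = trOp p X (ψ * φ) := by
  simp only [trOp, Finset.sum_mul, mul_assoc]
  exact Finset.sum_congr rfl fun i _ => by rw [← (h.pow_right _).eq]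

theorem mul_trOp {X ψ φ : Module.End k V} (h : Commute φ X) : φ * trOp p X ψ = trOp p X (φ * ψ) := by
  simp only [trOp, Finset.mul_sum]
  exact Finset.sum_congr rfl fun i _ => by simp only [← mul_assoc, (h.pow_right i).eq]

theorem trOp_add {X ψ φ : Module.End k V} : trOp p X ψ + trOp p X φ = trOp p X (ψ + φ) := by
  simp only [trOp, ← Finset.sum_add_distrib, mul_add, add_mul]

theorem trOp_smul {X ψ : Module.End k V} (c : k) : c • trOp p X ψ = trOp p X (c • ψ) := by
  simp only [trOp, Finset.smul_sum, mul_smul_comm, smul_mul_assoc]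

theorem trOp_zero {X : Module.End k V} : trOp p X 0 = 0 := by simp [trOp]

theorem isTr_pow_sub_pow {X A B : Module.End k V} (hA : Commute A X) (hB : Commute B X)
    (h : IsTr p X (A - B)) (n : ℕ) : IsTr p X (A ^ n - B ^ n) := by
  obtain ⟨ψ, hψ⟩ := h
  induction n with
  | zero => exact ⟨0, by rw [trOp_zero, pow_zero, pow_zero, sub_self]⟩
  | succ n ih =>
    obtain ⟨φ, hφ⟩ := ih
    refine ⟨A * φ + ψ * B ^ n, ?_⟩
    rw [← trOp_add, ← mul_trOp hA, ← trOp_mul (hB.pow_left n), ← hφ, ← hψ, mul_sub, sub_mul,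
      pow_succ', pow_succ']
    abel

variable {L : Type u} [Group L] [Finite L] {e : ℕ} {x y : L} {r : ZMod p}

/-- Of an idempotent of the normaliser and its complement one is a trace. -/
theorem dichotomy (D : NData p e x y r) (ρ : L →* Module.End k V) {s : V} (hs : s ≠ 0)
    (hsoc : ∀ W : Submodule k V, (∀ g, ∀ v ∈ W, ρ g v ∈ W) → W ≠ ⊥ → s ∈ W)
    (hz : ∀ z ∈ Subgroup.center L, ∃ c : k, ρ z = c • 1) {π : Module.End k V} (hπ : π * π = π)
    (hπx : Commute π (ρ x)) (hπy : Commute π (ρ y)) :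
    IsTr p (ρ x) π ∨ IsTr p (ρ x) (1 - π) := by
  classical
  set N := Subgroup.normalizer (Subgroup.zpowers x : Set L) with hNdef
  haveI : Fintype (L ⧸ N) := Fintype.ofFinite _
  have hN : ∀ n ∈ N, ρ n * π = π * ρ n := by
    intro n hn
    obtain ⟨i, l, z, hzc, rfl⟩ := D.norm n hn
    obtain ⟨c, hc⟩ := hz z hzc
    rw [map_mul, map_mul, map_pow, map_pow, hc]
    exact (((hπx.symm.pow_left i).mul_left (hπy.symm.pow_left l)).mul_left
      ((Commute.one_left π).smul_left c)).eq
  set f : L ⧸ N → Module.End k V := fun q => ρ q.out * π * ρ q.out⁻¹ with hf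
  set T := HalfDegree.cosetSum ρ N π with hT
  have hTc : ∀ g, Commute (ρ g) T := fun g => HalfDegree.cosetSum_comm ρ hN g
  obtain ⟨a, m, hm⟩ := exists_scalar_add_nilpotent ρ hs hsoc hTc
  set σ : Equiv.Perm (L ⧸ N) := MulAction.toPermHom L (L ⧸ N) x with hσ
  set q₁ : L ⧸ N := ((1 : L) : L ⧸ N) with hq1
  have hxN : x ∈ N := Subgroup.le_normalizer (Subgroup.mem_zpowers x)
  have hq1fix : σ q₁ = q₁ := by
    show x • q₁ = q₁
    rw [hq1]
    exact QuotientGroup.eq.mpr (by simpa using inv_mem hxN)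
  let Xc : Module.End k (Module.End k V) :=
    (LinearMap.mulLeft k (ρ x)).comp (LinearMap.mulRight k (ρ x⁻¹))
  obtain ⟨φ, hφ⟩ := sum_free_mem_range (p := p) (Finset.univ.erase q₁) σ Xc f
    (fun q => by
      simp only [mem_erase, mem_univ, and_true]
      exact not_congr ⟨fun h => by rw [h, hq1fix], fun h => σ.injective (h.trans hq1fix.symm)⟩)
    (by rw [hσ, ← map_pow, D.pow_p, map_one])
    (fun q hq hfx => (mem_erase.mp hq).1 (by
      obtain ⟨b, rfl⟩ := QuotientGroup.mk_surjective q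
      rw [show σ (b : L ⧸ N) = ((x * b : L) : L ⧸ N) from rfl, QuotientGroup.eq] at hfx
      rw [hq1, QuotientGroup.eq, mul_one]
      refine inv_mem (D.locData.fix ?_)
      have := inv_mem hfx
      simpa [mul_assoc] using this))
    (fun q _ => by
      show f (x • q) = ρ x * (f q * ρ x⁻¹)
      rw [hf]
      dsimp only
      rw [HalfDegree.conj_smul ρ hN]
      simp only [mul_assoc])
  have hTr : (∑ i ∈ range p, Xc ^ i) φ = trOp p (ρ x) φ := by
    rw [LinearMap.sum_apply, trOp]
    refine Finset.sum_congr rfl fun i _ => ?_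
    have hinv : ρ x⁻¹ = ρ x ^ (p - 1) := by
      rw [← map_pow]
      congr 1
      refine inv_eq_of_mul_eq_one_right ?_
      rw [← pow_succ', Nat.sub_add_cancel hp.out.one_le, D.pow_p]
    have : ∀ i, (Xc ^ i) φ = ρ x ^ i * φ * ρ x⁻¹ ^ i := fun i => by
      induction i with
      | zero => simp
      | succ i ih =>
        rw [pow_succ' Xc, Module.End.mul_apply, ih, pow_succ', pow_succ]
        show ρ x * (ρ x ^ i * φ * ρ x⁻¹ ^ i * ρ x⁻¹) = _
        simp only [mul_assoc]
    rw [this, hinv, ← pow_mul]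
  have hsub : IsTr p (ρ x) ((π - a • 1) - (T - a • 1)) := by
    refine ⟨(-1 : k) • φ, ?_⟩
    rw [sub_sub_sub_cancel_right, ← trOp_smul, ← hTr, ← hφ, neg_one_smul, hT, HalfDegree.cosetSum,
      ← Finset.add_sum_erase _ _ (mem_univ q₁), hq1, HalfDegree.conj_mk ρ hN, map_one, inv_one,
      map_one, one_mul, mul_one, sub_add_cancel_left]
  have hax : ∀ A : Module.End k V, Commute A (ρ x) → Commute (A - a • 1) (ρ x) := fun A h =>
    h.sub_left ((Commute.one_left _).smul_left a)
  obtain ⟨ψ, hψ⟩ := isTr_pow_sub_pow (hax π hπx) (hax T (hTc x).symm) hsub (m + 1)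
  rw [pow_succ (T - a • 1), hm, zero_mul, sub_zero] at hψ
  have hπ1 : ∀ n : ℕ, (π - a • 1) ^ n * π = (1 - a) ^ n • π := fun n => by
    induction n with
    | zero => simp
    | succ n ih =>
      rw [pow_succ, mul_assoc, show (π - a • 1) * π = (1 - a) • π by
        rw [sub_mul, hπ, smul_mul_assoc, one_mul, sub_smul, one_smul], mul_smul_comm, ih, smul_smul,
        pow_succ']
  have hπ2 : ∀ n : ℕ, (π - a • 1) ^ n * (1 - π) = (-a) ^ n • (1 - π) := fun n => by
    induction n with
    | zero => simp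
    | succ n ih =>
      rw [pow_succ, mul_assoc, show (π - a • 1) * (1 - π) = (-a) • (1 - π) by
        rw [sub_mul, mul_sub, mul_one, hπ, sub_self, smul_mul_assoc, one_mul, zero_sub, neg_smul],
        mul_smul_comm, ih, smul_smul, pow_succ']
  have hget : ∀ (ε : Module.End k V) (c : k), Commute ε (ρ x) → c ≠ 0 →
      (π - a • 1) ^ (m + 1) * ε = c • ε → IsTr p (ρ x) ε := fun ε c hε hc h =>
    ⟨c⁻¹ • (ψ * ε), by rw [← trOp_smul, ← trOp_mul hε, ← hψ, h, smul_smul, inv_mul_cancel₀ hc, one_smul]⟩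
  by_cases ha : a = 0
  · refine Or.inl (hget π _ hπx (pow_ne_zero _ ?_) (hπ1 _))
    rw [ha, sub_zero]
    exact one_ne_zero
  · exact Or.inr (hget (1 - π) _ ((Commute.one_left _).sub_left hπx) (pow_ne_zero _ (neg_ne_zero.mpr ha))
      (hπ2 _))

end CfsgLib.Char.SmallDegree
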