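import Cfsg.Agent.Lib.Char.SmallDegree.Lattice
import Cfsg.Agent.Lib.Char.SmallDegree.Local
import Cfsg.Agent.Lib.Char.SmallDegree.HomBound
import Cfsg.Agent.Lib.Char.HalfDegree.Model
import Cfsg.Agent.Lib.Char.HalfDegree.Krylov

/-!
# The model of a character of degree below `p`

An irreducible character of degree `c + 1 < p` is afforded over the local ring so that modulo the
maximal ideal `x` is the translation and `y` is a multiple of the scaling.
-/

set_option autoImplicit false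
set_option linter.unusedSectionVars false

namespace CfsgLib.Char.SmallDegree

open Cfsg CfsgLib.Block CfsgLib.Block.Cyclic CfsgLib.Char CfsgLib.Char.HalfDegree Matrix Finset

universe u

variable {p : ℕ} [hpf : Fact p.Prime] {M : Ideal AlgInt} [hMm : M.IsMaximal] (hM : IsPModular p M)
  {L : Type u} [Group L] [Finite L]

/-- A central element acts as a scalar. -/
theorem exists_scalar_mat {n : ℕ} (hn : 0 < n) (σ : L →* Matrix (Fin n) (Fin n) (ram p M))
    (χ : IrrCharacter L) (htr : ∀ g, (((σ g).trace : ram p M) : ℂ) = (χ : L → ℂ) g)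
    {z : L} (hz : z ∈ Subgroup.center L) :
    ∃ a : ram p M, σ z = a • 1 ∧ (a : ℂ) * n = (χ : L → ℂ) z := by
  classical
  haveI := Fintype.ofFinite L
  obtain ⟨m, ρ, hρ, hρχ⟩ := χ.2
  haveI := hρ
  let emb : Matrix (Fin n) (Fin n) (ram p M) →+* Matrix (Fin n) (Fin n) ℂ :=
    ((ram p M).subtype).mapMatrix
  let ρC : Representation ℂ L (Fin n → ℂ) :=
    (Matrix.toLinAlgEquiv'.toMonoidHom.comp emb.toMonoidHom).comp σ
  have hchar : ∀ g, ρC.character g = (χ : L → ℂ) g := fun g => by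
    rw [← htr g]
    show LinearMap.trace ℂ _ (Matrix.toLin' (emb (σ g))) = _
    rw [Matrix.trace_toLin'_eq]
    exact (AddMonoidHom.map_trace (ram p M).subtype.toAddMonoidHom (σ g)).symm
  have hmn : m = n := by
    have h := hchar 1
    rw [← hρχ, Representation.char_one, Representation.char_one, Module.finrank_fin_fun,
      Module.finrank_fin_fun] at h
    exact_mod_cast h.symm
  obtain ⟨ω, hω⟩ := (norm_char_eq_iff ρC z).mp (by
    rw [hchar, ← hρχ, (norm_char_eq_iff ρ z).mpr (exists_scalar_of_mem_center ρ hz),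
      Module.finrank_fin_fun, Module.finrank_fin_fun, hmn])
  have hent : ∀ i j, ((σ z i j : ram p M) : ℂ) = if i = j then ω else 0 := fun i j => by
    have h := congrFun (LinearMap.congr_fun hω (Pi.single j 1)) i
    simp [ρC, emb, Pi.single_apply] at h
    exact h
  refine ⟨σ z ⟨0, hn⟩ ⟨0, hn⟩, ?_, ?_⟩
  · ext i j
    rw [Matrix.smul_apply, smul_eq_mul, Matrix.one_apply]
    split_ifs with h
    · rw [mul_one, hent, hent, if_pos h, if_pos rfl]
    · rw [mul_zero, hent, if_neg h]; rfl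
  · rw [← htr, Matrix.trace, hent, if_pos rfl]
    simp [hent, mul_comm]

theorem toLinAlgEquiv'_pow {k : Type*} [CommRing k] {m : Type*} [Fintype m] [DecidableEq m]
    (A : Matrix m m k) (n : ℕ) (v : m → k) :
    ((Matrix.toLinAlgEquiv' A) ^ n) v = (A ^ n) *ᵥ v := by
  rw [← map_pow]; rfl

/-- The data of a reduced lattice with a simple socle. -/
theorem exists_shape_of_lattice {e n : ℕ} {x y : L} {r : ZMod p} (D : NData p e x y r) (h2 : p ≠ 2)
    (hn : 0 < n) (σ : L →* Matrix (Fin n) (Fin n) (ram p M)) (χ : IrrCharacter L)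
    (htr : ∀ g, (((σ g).trace : ram p M) : ℂ) = (χ : L → ℂ) g) {s : Fin n → ResField M} (hs : s ≠ 0)
    (hsoc : ∀ U : Submodule (ResField M) (Fin n → ResField M),
      (∀ g, ∀ v ∈ U, (σ g).map (resRam p M) *ᵥ v ∈ U) → U ≠ ⊥ → s ∈ U)
    [CharP (ResField M) p] (hpn : ¬ p ∣ n) :
    ∃ (f a : ℕ) (v : Fin f → Fin n → ResField M) (μ : Fin f → ResField M)
      (w : Fin n → ResField M) (γ : ResField M), 0 < a ∧ a < p ∧ f * p + a = n ∧
      (∀ i, overRes σ y (v i) = μ i • v i) ∧ overRes σ y w = γ • w ∧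
      (dop (ResField M) p (overRes σ x) ^ a) w = 0 ∧
      cyc (dop (ResField M) p (overRes σ x)) w a ⊔
        ⨆ i, cyc (dop (ResField M) p (overRes σ x)) (v i) p = ⊤ := by
  haveI := isAlgClosed_resField (M := M)
  have hX : (overRes σ x) ^ p = 1 := by rw [← map_pow, D.pow_p, map_one]
  have hY : (overRes σ y) ^ orderOf y = 1 := by rw [← map_pow, pow_orderOf_eq_one, map_one]
  have hny : (orderOf y : ResField M) ≠ 0 := by
    rw [Ne, CharP.cast_eq_zero_iff (ResField M) p]; exact D.y_reg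
  have hcn : castK (ResField M) p r ^ orderOf y = 1 := by
    have h := D.conj_pow_l (orderOf y)
    rw [pow_orderOf_eq_one, one_mul, inv_one, mul_one] at h
    have h1 : (r ^ orderOf y).val = 1 :=
      (pow_injOn_Iio_orderOf (x := x) (by rw [Set.mem_Iio, D.ord]; exact hpf.out.one_lt)
        (by rw [Set.mem_Iio, D.ord]; exact ZMod.val_lt _) (by simp only [← h, pow_one])).symm
    rw [← map_pow, show r ^ orderOf y = 1 from ZMod.val_injective p (by rw [h1, ZMod.val_one]), map_one]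
  have hcomm : overRes σ y * dop (ResField M) p (overRes σ x) =
      castK (ResField M) p r • (dop (ResField M) p (overRes σ x) * overRes σ y) :=
    mul_dop hX D.r_ne_zero (by rw [← map_pow, ← map_mul, ← map_mul, D.mul_x])
  have hdich : ∀ π : Module.End (ResField M) (Fin n → ResField M), π * π = π →
      Commute π (overRes σ x) → Commute π (overRes σ y) →
      IsTr p (overRes σ x) π ∨ IsTr p (overRes σ x) (1 - π) := fun π hπ hx hy =>
    dichotomy D (overRes σ) hs hsoc (fun z hz => by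
      obtain ⟨b, hb, -⟩ := exists_scalar_mat hn σ χ htr hz
      refine ⟨resRam p M b, LinearMap.ext fun v => ?_⟩
      rw [overRes_apply, hb, LinearMap.smul_apply, Module.End.one_apply,
        Matrix.map_smul' (resRam p M) b 1 (map_mul _), Matrix.map_one _ (map_zero _) (map_one _),
        smul_mulVec, one_mulVec]) hπ hx hy
  obtain ⟨f, a, v, μ, w, γ, ha, hap, hn', hv, hw, hwa, hspan⟩ :=
    exists_shape h2 hX hdich (castK_ne_zero D.r_ne_zero) hcomm hny hY hcn
      (by rwa [Module.finrank_fin_fun])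
  exact ⟨f, a, v, μ, w, γ, ha, hap, by rwa [Module.finrank_fin_fun] at hn', hv, hw, hwa, hspan⟩

include hM in
/-- The model. -/
theorem exists_model {e c : ℕ} {x y : L} {r : ZMod p} (D : NData p e x y r) (h2 : p ≠ 2)
    (hc : c + 1 < p) (χ : IrrCharacter L) (hdeg : charDegree (χ : L → ℂ) = c + 1) :
    ∃ (ρ : L →* Matrix (Fin (c + 1)) (Fin (c + 1)) (ram p M)) (c1 : ResField M),
      haveI := charP_resField hM
      (∀ g, (((ρ g).trace : ram p M) : ℂ) = (χ : L → ℂ) g) ∧ c1 ≠ 0 ∧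
      (ρ x).map (resRam p M) = tmat 1 ∧
      (ρ y).map (resRam p M) = c1 • mmat (castK (ResField M) p r) := by
  classical
  haveI := charP_resField hM
  haveI := isAlgClosed_resField (M := M)
  obtain ⟨n, σ, s, hn, hdn, htr, hs, hsoc⟩ := exists_lattice hM D.not_sq χ
  obtain rfl : n = c + 1 := hdn.trans hdeg
  obtain ⟨f, a, v, μ, w, γ, ha, hap, hna, -, hw, hwa, hspan⟩ := exists_shape_of_lattice D h2 hn σ χ htr
    hs hsoc (Nat.not_dvd_of_pos_of_lt hn hc)
  obtain rfl : f = 0 := by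
    by_contra hf
    have := Nat.le_mul_of_pos_left p (Nat.pos_of_ne_zero hf)
    omega
  obtain rfl : a = c + 1 := by omega
  set Xk := (σ x).map (resRam p M) with hXk
  set Yk := (σ y).map (resRam p M) with hYk
  have hX : (overRes σ x) ^ p = 1 := by rw [← map_pow, D.pow_p, map_one]
  have hXA : ∀ (j : ℕ) (v : Fin (c + 1) → ResField M),
      ((overRes σ x - 1) ^ j) v = ((Xk - 1) ^ j) *ᵥ v := fun j v => by
    rw [← toLinAlgEquiv'_pow, map_sub, map_one]; rfl
  have hN : (Xk - 1) ^ (c + 1) = 0 := by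
    refine HalfDegree.pow_eq_zero_of_nilpotent ⟨p, Matrix.ext_of_mulVec_single fun i => ?_⟩
    rw [← hXA, sub_one_pow_p (ResField M) hX, zero_mulVec, LinearMap.zero_apply]
  have hwv : ((Xk - 1) ^ c) *ᵥ w ≠ 0 := by
    intro h
    obtain ⟨b, -, hb⟩ := exists_basis (p := p) (v := v) (by rw [Module.finrank_fin_fun]; exact hna) hspan
    refine b.ne_zero (Sum.inr (Fin.last c)) ?_
    rw [hb, Fin.val_last]
    obtain ⟨U, W, h1, -, hU, -⟩ := exists_dop_pow_eq (k := ResField M) h2 hX c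
    rw [h1, (hU.pow_right c).symm.eq, Module.End.mul_apply, hXA, h, map_zero]
  have hT : ((tmat 1 : Matrix (Fin (c + 1)) (Fin (c + 1)) (ResField M)) - 1) ^ (c + 1) = 0 :=
    HalfDegree.pow_eq_zero_of_nilpotent (tmat_nilpotent p)
  have hTv := tmat_single_block (k := ResField M) (c := c) (p := p) hc.le
  obtain ⟨Φ, hΦ, hΦw⟩ := HalfDegree.exists_conj hT hTv hN hwv
  choose φ hφ using fun q : Fin (c + 1) × Fin (c + 1) =>
    resRam_surjective hM ((Φ : Matrix (Fin (c + 1)) (Fin (c + 1)) (ResField M)) q.1 q.2)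
  set F : Matrix (Fin (c + 1)) (Fin (c + 1)) (ram p M) := Matrix.of fun i j => φ (i, j) with hF
  have hFmap : F.map (resRam p M) = (Φ : Matrix (Fin (c + 1)) (Fin (c + 1)) (ResField M)) := by
    ext i j; exact hφ (i, j)
  have hFu : IsUnit F := by
    rw [Matrix.isUnit_iff_isUnit_det]
    refine isUnit_of_res ?_
    rw [RingHom.map_det, RingHom.mapMatrix_apply, hFmap]
    exact ((Matrix.isUnit_iff_isUnit_det _).mp Φ.isUnit).ne_zero
  obtain ⟨Fu, hFu'⟩ := hFu
  let ρ : L →* Matrix (Fin (c + 1)) (Fin (c + 1)) (ram p M) :=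
    { toFun := fun g => (Fu : Matrix (Fin (c + 1)) (Fin (c + 1)) (ram p M)) * σ g * ((Fu⁻¹ : (Matrix (Fin (c + 1)) (Fin (c + 1)) (ram p M))ˣ) : Matrix (Fin (c + 1)) (Fin (c + 1)) (ram p M))
      map_one' := by rw [map_one, mul_one, Units.mul_inv]
      map_mul' := fun g h => by
        simp only [map_mul, mul_assoc]
        rw [← mul_assoc ((Fu⁻¹ : (Matrix (Fin (c + 1)) (Fin (c + 1)) (ram p M))ˣ) : Matrix (Fin (c + 1)) (Fin (c + 1)) (ram p M)) ↑Fu, Units.inv_mul,
          one_mul] }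
  have hFum : (↑Fu : Matrix (Fin (c + 1)) (Fin (c + 1)) (ram p M)).map (resRam p M) = Φ := hFu' ▸ hFmap
  have hFinv : ((Fu⁻¹ : (Matrix (Fin (c + 1)) (Fin (c + 1)) (ram p M))ˣ) : Matrix (Fin (c + 1)) (Fin (c + 1)) (ram p M)).map (resRam p M) = ((Φ⁻¹ : (Matrix (Fin (c + 1)) (Fin (c + 1)) (ResField M))ˣ) : Matrix (Fin (c + 1)) (Fin (c + 1)) (ResField M)) := by
    refine (Units.inv_eq_of_mul_eq_one_right ?_).symm
    rw [← hFum, ← Matrix.map_mul, Units.mul_inv, Matrix.map_one _ (map_zero _) (map_one _)]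
  have hmapρ : ∀ g, (ρ g).map (resRam p M) =
      (Φ : Matrix (Fin (c + 1)) (Fin (c + 1)) (ResField M)) * (σ g).map (resRam p M) * ((Φ⁻¹ : (Matrix (Fin (c + 1)) (Fin (c + 1)) (ResField M))ˣ) : Matrix (Fin (c + 1)) (Fin (c + 1)) (ResField M)) := fun g => by
    show ((Fu : Matrix (Fin (c + 1)) (Fin (c + 1)) (ram p M)) * σ g * ((Fu⁻¹ : (Matrix (Fin (c + 1)) (Fin (c + 1)) (ram p M))ˣ) : Matrix (Fin (c + 1)) (Fin (c + 1)) (ram p M))).map _ = _
    rw [Matrix.map_mul, Matrix.map_mul, hFum, hFinv]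
  have hx' : (ρ x).map (resRam p M) = tmat 1 := by
    rw [hmapρ, ← hXk, Units.mul_inv_eq_iff_eq_mul]
    have h := hΦ
    rw [mul_sub, sub_mul, mul_one, one_mul, sub_left_inj] at h
    exact h
  set Y' := (ρ y).map (resRam p M) with hY'
  set rr := castK (ResField M) p r with hrr
  have hrr0 : rr ≠ 0 := castK_ne_zero D.r_ne_zero
  have hYw : Yk *ᵥ w = γ • w := hw
  have hY'e : Y' *ᵥ Pi.single (Fin.last c) 1 = γ • Pi.single (Fin.last c) 1 := by
    rw [hY', hmapρ, ← hYk, ← mulVec_mulVec, ← mulVec_mulVec]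
    have h1 : ((Φ⁻¹ : (Matrix (Fin (c + 1)) (Fin (c + 1)) (ResField M))ˣ) : Matrix (Fin (c + 1)) (Fin (c + 1)) (ResField M)) *ᵥ Pi.single (Fin.last c) 1 = w := by
      rw [← hΦw, mulVec_mulVec, Units.inv_mul, one_mulVec]
    rw [h1, hYw, mulVec_smul, hΦw]
  have hTr : (tmat 1 : Matrix (Fin (c + 1)) (Fin (c + 1)) (ResField M)) ^ r.val = tmat rr := by
    rw [← tmat_natCast, hrr, ← castK_natCast (k := ResField M) (p := p), ZMod.natCast_zmod_val]
  have hYT : Y' * tmat 1 = tmat rr * Y' := by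
    rw [← hTr, hY', ← hx', ← Matrix.map_mul, ← map_mul, D.mul_x, map_mul, map_pow, Matrix.map_mul]
    congr 1
    exact map_pow (resRam p M).mapMatrix (ρ x) r.val
  set Q := (mmat rr⁻¹ : Matrix (Fin (c + 1)) (Fin (c + 1)) (ResField M)) * Y' with hQ
  have hinv : (mmat rr⁻¹ : Matrix (Fin (c + 1)) (Fin (c + 1)) (ResField M)) * mmat rr = 1 := by
    have h := mmat_mul_inv (c := c) (inv_ne_zero hrr0)
    rwa [inv_inv] at h
  have hQc : Commute Q ((tmat 1 : Matrix (Fin (c + 1)) (Fin (c + 1)) (ResField M)) - 1) := by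
    refine Commute.sub_right ?_ (Commute.one_right _)
    show Q * tmat 1 = tmat 1 * Q
    rw [hQ, mul_assoc, hYT, ← mul_assoc, mmat_mul_tmat (inv_ne_zero hrr0), inv_mul_cancel₀ hrr0,
      mul_assoc]
  have hQe : Q *ᵥ Pi.single (Fin.last c) 1 =
      (((γ * rr ^ c) • (1 : Matrix (Fin (c + 1)) (Fin (c + 1)) (ResField M)))) *ᵥ Pi.single (Fin.last c) 1 := by
    rw [hQ, ← mulVec_mulVec, hY'e, mulVec_smul, smul_mulVec, one_mulVec, mmat, mulVec_single_one]
    funext i
    rw [Pi.smul_apply, Pi.smul_apply, Matrix.col_apply, Matrix.diagonal_apply, inv_inv, Pi.single_apply]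
    split_ifs with h
    · rw [h, Fin.val_last, smul_eq_mul, smul_eq_mul, mul_one]
    · rw [smul_zero, smul_zero]
  have hQ' := HalfDegree.eq_of_commute hT hTv hQc ((Commute.one_left _).smul_left _) hQe
  have hγ : γ ≠ 0 := by
    intro h
    rw [h, zero_smul] at hYw
    have hy : IsUnit ((σ y).map (resRam p M)) :=
      (IsUnit.map σ (IsUnit.of_pow_eq_one (pow_orderOf_eq_one y) (orderOf_pos y).ne')).map
        (resRam p M).mapMatrix
    obtain ⟨Yu, hYu⟩ := hy
    refine hwv ?_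
    rw [show w = 0 by
      rw [← one_mulVec w, ← Units.inv_mul Yu, ← mulVec_mulVec, hYu, ← hYk, hYw, mulVec_zero], mulVec_zero]
  refine ⟨ρ, γ * rr ^ c, fun g => ?_, mul_ne_zero hγ (pow_ne_zero _ hrr0), hx', ?_⟩
  · rw [← htr]
    congr 1
    show ((Fu : Matrix (Fin (c + 1)) (Fin (c + 1)) (ram p M)) * σ g * ((Fu⁻¹ : (Matrix (Fin (c + 1)) (Fin (c + 1)) (ram p M))ˣ) : Matrix (Fin (c + 1)) (Fin (c + 1)) (ram p M))).trace = _
    rw [Matrix.trace_mul_comm, ← mul_assoc, Units.inv_mul, one_mul]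
  · calc Y' = (mmat rr : Matrix (Fin (c + 1)) (Fin (c + 1)) (ResField M)) * Q := by
          rw [hQ, ← mul_assoc, mmat_mul_inv hrr0, one_mul]
      _ = (γ * rr ^ c) • mmat rr := by rw [hQ', mul_smul_comm, mul_one]

end CfsgLib.Char.SmallDegree
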