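import Cfsg.Agent.Lib.Char.SmallDegree.Sym
import Cfsg.Agent.Lib.Char.SmallDegree.Model
import Cfsg.Agent.Lib.Char.HalfDegree.Form
import Cfsg.Agent.Lib.Char.HalfDegree.ModP

/-!
# A small module from a character of degree `(p + 1) / 2`
-/

set_option autoImplicit false
set_option linter.unusedSectionVars false

namespace CfsgLib.Char.SmallDegree

open Cfsg CfsgLib.Block CfsgLib.Block.Cyclic CfsgLib.Char CfsgLib.Char.HalfDegree Matrix Finset

universe u

/-- An idempotent commuting with the normaliser lifts to one commuting with the group. -/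
theorem exists_lift_idem {k : Type*} [Field k] {p : ℕ} [Fact p.Prime] [CharP k p] {L : Type*} [Group L]
    [Finite L] {x : L} (D : LocData p x) {R : Type*} [Ring R] [Algebra k R] (τ : L →* R)
    (hnil : (τ x - 1) ^ (p - 1) = 0) {π : R} (hπ : π * π = π)
    (hN : ∀ n ∈ Subgroup.normalizer (Subgroup.zpowers x : Set L), τ n * π = π * τ n) :
    ∃ π' : R, π' * π' = π' ∧ (∀ g, τ g * π' = π' * τ g) ∧ IsNilpotent (π' - π) := by
  classical
  have hp : p.Prime := Fact.out
  set N := Subgroup.normalizer (Subgroup.zpowers x : Set L) with hNdef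
  haveI : Fintype (L ⧸ N) := Fintype.ofFinite _
  set A : R := τ x - 1 with hA
  have hxN : x ∈ N := Subgroup.le_normalizer (Subgroup.mem_zpowers x)
  have hb : ∑ i ∈ range p, τ x⁻¹ ^ i = 0 := by
    rw [geom_sum_eq_sub_pow (k := k) p]
    have h1 : τ x⁻¹ - 1 = A * -τ x⁻¹ := by
      rw [hA, sub_mul, one_mul, mul_neg, ← map_mul, mul_inv_cancel, map_one]
      abel
    have h2 : Commute A (-τ x⁻¹) := by
      refine (Commute.neg_right ?_).sub_left (Commute.one_left _).neg_right
      show τ x * τ x⁻¹ = τ x⁻¹ * τ x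
      rw [← map_mul, ← map_mul, mul_inv_cancel, inv_mul_cancel]
    rw [h1, h2.mul_pow, hnil, zero_mul]
  obtain ⟨s, hs⟩ := cosetSum_sub_mem τ hN hxN hp D.pow_eq_one (fun g => D.fix) hb
  set T := cosetSum τ N π with hT
  have hcomm : ∀ g, Commute (τ g) T := fun g => cosetSum_comm τ hN g
  have hAT : Commute A T := (hcomm x).sub_left (Commute.one_left _)
  have hAπ : Commute A π := Commute.sub_left (hN x hxN) (Commute.one_left _)
  have hp1 : p - 1 ≠ 0 := by have := hp.two_le; omega
  obtain ⟨hidem, t, ht⟩ := liftIdem_spec (n := p - 1) hp1 hnil hπ hAT hAπ hs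
  refine ⟨liftIdem (p - 1) T, hidem, fun g => (commute_liftIdem (hcomm g) _).eq, p - 1, ?_⟩
  have hc' : Commute A (A * t) := ht ▸ (commute_liftIdem hAT _).sub_right hAπ
  rw [ht]
  exact pow_mul_eq_zero hnil hc'

variable {k : Type*} [Field k] {c : ℕ}

local notation "Mat" => Matrix (Fin (c + 1)) (Fin (c + 1)) k

/-- The orbit of a power of the raising matrix. -/
noncomputable def kSp (s : ℕ) : Submodule k Mat :=
  Submodule.span k (Set.range fun i : Fin (2 * s + 1) =>
    ((adA : Module.End k Mat) ^ (i : ℕ)) ((ymat : Mat) ^ s))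

theorem adA_pow_mem (s : ℕ) (i : ℕ) :
    ((adA : Module.End k Mat) ^ i) ((ymat : Mat) ^ s) ∈ kSp s := by
  rcases Nat.lt_or_ge i (2 * s + 1) with h | h
  · exact Submodule.subset_span ⟨⟨i, h⟩, rfl⟩
  · obtain ⟨j, rfl⟩ := Nat.exists_eq_add_of_le h
    rw [Nat.add_comm (2 * s + 1) j, pow_add, Module.End.mul_apply, adA_ymat_pow, map_zero]
    exact zero_mem _

theorem adA_mem_kSp {s : ℕ} {f : Mat} (hf : f ∈ (kSp s : Submodule k Mat)) : adA f ∈ kSp s := by
  unfold kSp at hf
  induction hf using Submodule.span_induction with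
  | mem f hf =>
    obtain ⟨i, rfl⟩ := hf
    show adA (((adA : Module.End k Mat) ^ (i : ℕ)) _) ∈ _
    rw [← Module.End.mul_apply, ← pow_succ']
    exact adA_pow_mem s _
  | zero => rw [map_zero]; exact zero_mem _
  | add f g _ _ hf hg => rw [map_add]; exact add_mem hf hg
  | smul a f _ hf => rw [map_smul]; exact Submodule.smul_mem _ _ hf

theorem adX_mem_kSp {s : ℕ} {f : Mat} (hf : f ∈ (kSp s : Submodule k Mat)) : adX f ∈ kSp s := by
  have h : adA f + f ∈ kSp s := add_mem (adA_mem_kSp hf) hf
  rwa [LinearMap.sub_apply, Module.End.one_apply, sub_add_cancel] at h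

theorem adX_pow_mem_kSp {s : ℕ} {f : Mat} (hf : f ∈ (kSp s : Submodule k Mat)) :
    ∀ n : ℕ, ((adX : Module.End k Mat) ^ n) f ∈ kSp s
  | 0 => by simpa using hf
  | n + 1 => by rw [pow_succ', Module.End.mul_apply]; exact adX_mem_kSp (adX_pow_mem_kSp hf n)

variable {p : ℕ} [hpf : Fact p.Prime] [CharP k p]

theorem adY_mem_kSp {s : ℕ} {c0 : k} {r : ZMod p} (hr : r ≠ 0) {f : Mat}
    (hf : f ∈ (kSp s : Submodule k Mat)) : adY c0 (castK k p r) f ∈ kSp s := by
  have hbase : ∀ i : ℕ,
      adY c0 (castK k p r) (((adA : Module.End k Mat) ^ i) ((ymat : Mat) ^ s)) ∈ kSp s := by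
    intro i
    induction i with
    | zero =>
      rw [pow_zero, Module.End.one_apply]
      have h : adY c0 (castK k p r) ((ymat : Mat) ^ s) = (c0 * (castK k p r)⁻¹ ^ s) • (ymat : Mat) ^ s := by
        ext a b
        rw [adY_apply, Matrix.smul_apply, smul_eq_mul, ymat_pow_apply]
        by_cases h : (b : ℕ) + s = a
        · rw [← h, pow_add]
          have h1 : castK k p r ^ (b : ℕ) * (castK k p r)⁻¹ ^ (b : ℕ) = 1 := by
            rw [← mul_pow, mul_inv_cancel₀ (castK_ne_zero hr), one_pow]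
          linear_combination (c0 * (castK k p r)⁻¹ ^ s * (if (b : ℕ) + s = (b : ℕ) + s then
            ∏ l ∈ range s, ((((b : ℕ) + l : ℕ) : k) - c) else 0)) * h1
        · rw [if_neg h]; simp
      rw [h]
      exact Submodule.smul_mem _ _ (by simpa using adA_pow_mem (k := k) (c := c) s 0)
    | succ i ih =>
      rw [pow_succ', Module.End.mul_apply, LinearMap.sub_apply, Module.End.one_apply, map_sub,
        ← Module.End.mul_apply, adY_mul_adX hr, Module.End.mul_apply]
      exact sub_mem (adX_pow_mem_kSp ih _) ih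
  unfold kSp at hf
  induction hf using Submodule.span_induction with
  | mem f hf => obtain ⟨i, rfl⟩ := hf; exact hbase _
  | zero => rw [map_zero]; exact zero_mem _
  | add f g _ _ hf hg => rw [map_add]; exact add_mem hf hg
  | smul a f _ hf => rw [map_smul]; exact Submodule.smul_mem _ _ hf

theorem top_pairing (hc : c + 3 < p) {s : ℕ} (hs : s = 1 ∨ s = 2) (hsc : s ≤ c) :
    (((adA : Module.End k Mat) ^ (2 * s)) ((ymat : Mat) ^ s) * ymat ^ s).trace ≠ 0 := by
  have hp : p.Prime := Fact.out
  have hcast : ∀ n : ℕ, 0 < n → n < p → (n : k) ≠ 0 := fun n h0 h1 => by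
    rw [Ne, CharP.cast_eq_zero_iff k p]
    exact Nat.not_dvd_of_pos_of_lt h0 h1
  have hsc' : ((dmat : Mat) ^ s * ymat ^ s).trace ≠ 0 := by
    rw [trace_dmat_ymat_pow, if_pos rfl]
    have hf : ((s.factorial : ℕ) : k) ≠ 0 := by
      rw [Ne, CharP.cast_eq_zero_iff k p, hp.dvd_factorial]; omega
    have hch : (((c + s + 1).choose (2 * s + 1) : ℕ) : k) ≠ 0 := by
      rw [Ne, CharP.cast_eq_zero_iff k p]
      exact fun hdvd => (hp.coprime_iff_not_dvd.mp
        (Nat.Prime.coprime_choose_of_lt hp (show c + s + 1 < p by omega) (by omega))) hdvd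
    exact mul_ne_zero (pow_ne_zero _ (neg_ne_zero.mpr one_ne_zero)) (mul_ne_zero (mul_ne_zero hf hf) hch)
  have hD : adA (dmat : Mat) = 0 := adA_dmat
  have hY : adA (ymat : Mat) = hmat + dmat := adA_ymat
  have hH : adA ((hmat : Mat) + dmat) = (2 : k) • dmat := by
    rw [map_add, adA_hmat, hD, add_zero, ← Nat.cast_smul_eq_nsmul k, Nat.cast_ofNat]
  rcases hs with rfl | rfl
  · rw [show 2 * 1 = 1 + 1 from rfl, pow_succ, pow_one, Module.End.mul_apply, pow_one, hY, hH,
      smul_mul_assoc, Matrix.trace_smul, smul_eq_mul]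
    rw [pow_one, pow_one] at hsc'
    exact mul_ne_zero (by simpa using hcast 2 two_pos (by omega)) hsc'
  · have h4 : ((adA : Module.End k Mat) ^ 4) ((ymat : Mat) ^ 2) = (24 : k) • (dmat : Mat) ^ 2 := by
      rw [show (4 : ℕ) = 1 + 1 + 1 + 1 from rfl, pow_succ, pow_succ, pow_succ, pow_one, pow_two, pow_two]
      simp only [Module.End.mul_apply, adA_mul, map_add, map_smul, map_zero, hY, hD, adA_hmat, zero_mul,
        mul_zero, add_zero, zero_add, smul_mul_assoc, mul_smul_comm, map_nsmul, smul_zero]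
      module
    rw [show 2 * 2 = 4 from rfl, h4, smul_mul_assoc, Matrix.trace_smul, smul_eq_mul]
    refine mul_ne_zero ?_ hsc'
    have h2 := hcast 2 two_pos (by omega)
    have h3 := hcast 3 (by omega) (by omega)
    push_cast at h2 h3
    rw [show (24 : k) = 2 * 2 * 2 * 3 by norm_num]
    exact mul_ne_zero (mul_ne_zero (mul_ne_zero h2 h2) h2) h3

/-- The trace form is non-degenerate on the orbit. -/
theorem kSp_nondeg (hc : c + 3 < p) {s : ℕ} (hs : s = 1 ∨ s = 2) (hsc : s ≤ c) {u : Mat}
    (hu : u ∈ (kSp s : Submodule k Mat)) (h0 : ∀ w ∈ (kSp s : Submodule k Mat), (w * u).trace = 0) :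
    u = 0 := by
  classical
  have hXi : ∀ f ∈ (kSp s : Submodule k Mat), adXi f ∈ (kSp s : Submodule k Mat) := by
    intro f hf
    have hinj : Function.Injective ((adX : Module.End k Mat).restrict fun f => adX_mem_kSp (s := s)) :=
      fun a b hab => Subtype.ext (by
        have := congrArg (fun z : (kSp s : Submodule k Mat) => adXi (z : Mat)) hab
        simp only [LinearMap.restrict_coe_apply] at this
        rwa [← Module.End.mul_apply, ← Module.End.mul_apply, adXi_mul_adX, Module.End.one_apply,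
          Module.End.one_apply] at this)
    obtain ⟨g, hg⟩ := (LinearMap.injective_iff_surjective.mp hinj) ⟨f, hf⟩
    have hg' : adX (g : Mat) = f := congrArg Subtype.val hg
    rw [← hg', ← Module.End.mul_apply, adXi_mul_adX, Module.End.one_apply]
    exact g.2
  have hstep : ∀ z : Mat, (∀ w ∈ (kSp s : Submodule k Mat), (w * z).trace = 0) →
      ∀ w ∈ (kSp s : Submodule k Mat), (w * adA z).trace = 0 := fun z hz w hw => by
    rw [LinearMap.sub_apply, Module.End.one_apply, mul_sub, Matrix.trace_sub, hz w hw, sub_zero,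
      Matrix.trace_mul_comm, trace_adX, Matrix.trace_mul_comm]
    exact hz _ (hXi w hw)
  have hpow : ∀ n : ℕ, ∀ w ∈ (kSp s : Submodule k Mat),
      (w * ((adA : Module.End k Mat) ^ n) u).trace = 0 := by
    intro n
    induction n with
    | zero => simpa using h0
    | succ n ih => rw [pow_succ', Module.End.mul_apply]; exact hstep _ ih
  obtain ⟨a, rfl⟩ := (Submodule.mem_span_range_iff_exists_fun k).mp hu
  by_contra hne
  obtain ⟨i, hi⟩ : ∃ i, a i ≠ 0 := by
    by_contra hall
    push Not at hall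
    exact hne (Finset.sum_eq_zero fun i _ => by rw [hall i, zero_smul])
  obtain ⟨i₀, hi₀, hmin⟩ := Finset.exists_min_image (univ.filter fun i => a i ≠ 0) id
    ⟨i, mem_filter.mpr ⟨mem_univ _, hi⟩⟩
  have hv : ((adA : Module.End k Mat) ^ (2 * s - (i₀ : ℕ)))
      (∑ j, a j • ((adA : Module.End k Mat) ^ (j : ℕ)) ((ymat : Mat) ^ s)) =
        a i₀ • ((adA : Module.End k Mat) ^ (2 * s)) ((ymat : Mat) ^ s) := by
    rw [map_sum, Finset.sum_eq_single i₀]
    · rw [map_smul, ← Module.End.mul_apply, ← pow_add, Nat.sub_add_cancel (by omega)]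
    · intro j _ hj
      rw [map_smul]
      by_cases h : a j = 0
      · rw [h, zero_smul]
      · have hle : (i₀ : ℕ) < j := lt_of_le_of_ne (hmin j (mem_filter.mpr ⟨mem_univ _, h⟩))
          (fun e => hj (Fin.ext e.symm))
        rw [← Module.End.mul_apply, ← pow_add]
        obtain ⟨m, hm⟩ := Nat.exists_eq_add_of_le (show 2 * s + 1 ≤ 2 * s - (i₀ : ℕ) + j by omega)
        rw [hm, add_comm _ m, pow_add, Module.End.mul_apply, adA_ymat_pow, map_zero, smul_zero]
    · simp
  have h1 := hpow (2 * s - (i₀ : ℕ)) _ (by simpa using adA_pow_mem (k := k) (c := c) s 0)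
  rw [hv, Matrix.trace_mul_comm, smul_mul_assoc, Matrix.trace_smul, smul_eq_mul] at h1
  exact (mem_filter.mp hi₀).2 ((mul_eq_zero.mp h1).resolve_right (top_pairing (p := p) hc hs hsc))

/-- The orthogonal projection on the orbit. -/
theorem exists_proj (hc : c + 3 < p) {s : ℕ} (hs : s = 1 ∨ s = 2) (hsc : s ≤ c) :
    ∃ π : Module.End k Mat, (∀ f, π f ∈ (kSp s : Submodule k Mat)) ∧
      (∀ f ∈ (kSp s : Submodule k Mat), π f = f) ∧
      ∀ (S : Module.End k Mat) (κ : k), Function.Injective S →
        (∀ f g, (S f * S g).trace = κ * (f * g).trace) →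
        (∀ f ∈ (kSp s : Submodule k Mat), S f ∈ (kSp s : Submodule k Mat)) → S * π = π * S := by
  classical
  set K := (kSp s : Submodule k Mat) with hK
  let Φ : Mat →ₗ[k] Module.Dual k K :=
    { toFun := fun f =>
        { toFun := fun w => ((w : Mat) * f).trace
          map_add' := fun a b => by rw [Submodule.coe_add, add_mul, Matrix.trace_add]
          map_smul' := fun a w => by rw [Submodule.coe_smul, smul_mul_assoc, Matrix.trace_smul]; rfl }
      map_add' := fun f g => LinearMap.ext fun w => by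
        simp [mul_add, Matrix.trace_add]
      map_smul' := fun a f => LinearMap.ext fun w => by
        simp [Matrix.trace_smul] }
  have hinj : Function.Injective (Φ.comp K.subtype) := by
    rw [injective_iff_map_eq_zero]
    intro u hu
    exact Subtype.ext (kSp_nondeg (p := p) hc hs hsc u.2 fun w hw => LinearMap.congr_fun hu ⟨w, hw⟩)
  let e : K ≃ₗ[k] Module.Dual k K :=
    LinearMap.linearEquivOfInjective (Φ.comp K.subtype) hinj Subspace.dual_finrank_eq.symm
  set π : Module.End k Mat := K.subtype.comp (e.symm.toLinearMap.comp Φ) with hπ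
  have hspec : ∀ (f : Mat) (w : K), ((w : Mat) * π f).trace = ((w : Mat) * f).trace := fun f w => by
    have h : (Φ.comp K.subtype) (e.symm (Φ f)) = Φ f := e.apply_symm_apply (Φ f)
    exact LinearMap.congr_fun h w
  have huniq : ∀ f, ∀ u ∈ K, (∀ w ∈ K, (w * u).trace = (w * f).trace) → π f = u := by
    intro f u hu hw
    refine sub_eq_zero.mp (kSp_nondeg (p := p) hc hs hsc (sub_mem (e.symm (Φ f)).2 hu) fun w hw' => ?_)
    rw [mul_sub, Matrix.trace_sub, hw w hw', ← hspec f ⟨w, hw'⟩]
    exact sub_self _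
  refine ⟨π, fun f => (e.symm (Φ f)).2, fun f hf => huniq f f hf fun _ _ => rfl, fun S κ hS htr hSK => ?_⟩
  refine LinearMap.ext fun f => ?_
  rw [Module.End.mul_apply, Module.End.mul_apply]
  refine (huniq _ _ (hSK _ (e.symm (Φ f)).2) fun w hw => ?_).symm
  have hinj' : Function.Injective (S.restrict hSK) := fun a b hab =>
    Subtype.ext (hS (congrArg Subtype.val hab))
  obtain ⟨w', hw'⟩ := (LinearMap.injective_iff_surjective.mp hinj') ⟨w, hw⟩
  have h : S (w' : Mat) = w := congrArg Subtype.val hw'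
  rw [← h, htr, htr]
  exact congrArg (κ * ·) (hspec f w')

end CfsgLib.Char.SmallDegree
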