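import Cfsg.Agent.Lib.Char.SmallDegree.Count
import Cfsg.Agent.Lib.Char.DegreePSubTwo.Shape
import Cfsg.Agent.Lib.Char.HalfDegree.Local
import Cfsg.Agent.Lib.Block.Cyclic.SylowCount
import Mathlib.RingTheory.ZMod.UnitsCyclic

/-!
# The shape of a faithful character of degree between `(p - 1) / 2` and `p - 1`
-/

set_option autoImplicit false
set_option linter.unusedSectionVars false

namespace CfsgLib.Char.SmallDegree

open Cfsg CfsgLib.Block CfsgLib.Block.Cyclic CfsgLib.Char Finset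
open scoped ComplexConjugate

universe u

variable {p : ℕ} [hpf : Fact p.Prime] {L : Type u} [Group L] [Fintype L]

open Classical in
/-- The distribution of the multiplicities on the subgroup of order `p`. -/
theorem exists_multiplicities [DecidableEq L] (D : CycSetup p L) [Fintype D.K]
    [Fintype (Subgroup.centralizer (D.Q : Set L))] {M : Ideal AlgInt} [M.IsMaximal]
    (hM : IsPModular p M) {B : Set (IrrCharacter L)} (h : D.BlockData M B) {χ : IrrCharacter L}
    (hχ : χ ∈ B) (hgen : ∀ N : Subgroup L, N.Normal → p ∣ Nat.card N → N = ⊤)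
    (hfaith : ∀ g : L, (χ : L → ℂ) g = (χ : L → ℂ) 1 → g = 1)
    (hnc : D.x ∉ Subgroup.center L)
    (hlo : p ≤ 2 * charDegree (χ : L → ℂ)) (hhi : charDegree (χ : L → ℂ) + 2 ≤ p) :
    D.K ≤ Subgroup.center L ∧ charDegree (χ : L → ℂ) + Nat.card D.expN = p ∧
      ∃ k₀ : (ZMod p)ˣ, ∀ i : ZMod p, i ≠ 0 →
        (χ : L → ℂ) (D.xp i) =
          -∑ j ∈ univ.filter (fun j : (ZMod p)ˣ => k₀⁻¹ * j ∈ D.expN), stdPsi p (i * (j : ZMod p)) := by
  classical
  have hp : p.Prime := hpf.out
  have := Fintype.ofFinite (IrrCharacter D.K)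
  obtain ⟨E⟩ := D.exists_exceptional_family hM h
  set x := charDegree (χ : L → ℂ) with hx
  set d := charDegree (D.φ : D.K → ℂ) with hdd
  set f := D.stab.relIndex (Subgroup.normalizer (D.Q : Set L)) with hf
  obtain ⟨m, hm⟩ := D.deg_eq h hχ
  rw [← hf, ← hdd, ← hx] at hm
  have hm0 : m = 0 := by
    by_contra hne
    have := Nat.le_mul_of_pos_right p (Nat.pos_of_ne_zero hne)
    omega
  rw [hm0, mul_zero, add_zero] at hm
  have hd1 : 0 < d := Nat.pos_of_ne_zero (charDegree_eq D.φ).2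
  have hf1 : 0 < f := by
    refine Nat.pos_of_ne_zero fun h0 => (charDegree_eq χ).2 ?_
    rw [← hx, hm, h0, zero_mul, zero_mul]
  set S := ∑ j : ZMod p, D.multN χ j with hS
  have hSx : S ≤ x := hm ▸ Nat.le_mul_of_pos_left _ (Nat.mul_pos hf1 hd1)
  choose mm hmm using fun (φ' : IrrCharacter D.K) (j : ZMod p) =>
    (D.withChar φ').mult_nat (isCharacter_irr χ) j
  choose aa haa using fun j : ZMod p => D.aP_nat (isCharacter_irr χ) j
  have haeq : ∀ j, aa j = ∑ φ' : IrrCharacter D.K, charDegree (φ' : D.K → ℂ) * mm φ' j := fun j => by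
    have e := D.aP_eq_sum_mult (isClassFunction_irr χ) j
    rw [haa] at e
    have e' : (aa j : ℂ) = ((∑ φ' : IrrCharacter D.K, charDegree (φ' : D.K → ℂ) * mm φ' j : ℕ) : ℂ) := by
      rw [e, Nat.cast_sum]
      exact Finset.sum_congr rfl fun φ' _ => by rw [hmm, (charDegree_eq φ').1]; push_cast; rfl
    exact_mod_cast e'
  have hsum : ∑ j, aa j = x := by
    have e := D.sum_aP (χ : L → ℂ)
    rw [(charDegree_eq χ).1] at e
    have e' : ((∑ j, aa j : ℕ) : ℂ) = (x : ℂ) := by
      rw [Nat.cast_sum, ← e]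
      exact Finset.sum_congr rfl fun j _ => (haa j).symm
    exact_mod_cast e'
  have hmN : ∀ j, mm D.φ j = D.multN χ j := fun j => by
    have e := (hmm D.φ j).symm.trans (D.mult_eq χ j)
    exact_mod_cast e
  have hout : ∀ φ', ¬ D.InOrbit φ' → ∀ j, mm φ' j = 0 := by
    intro φ' ho
    have hconst : ∀ j, mm φ' j = mm φ' 0 := fun j => by
      have e : ∀ j, (mm φ' j : ℂ) = (p : ℂ)⁻¹ * secMult (χ : L → ℂ) (φ' : D.K → ℂ) (D.xp 0) := fun j => by
        rw [← hmm, CycSetup.mult, Finset.sum_eq_single (0 : ZMod p) (fun i _ hi => by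
          rw [coe_withChar_dval, h.sec_out χ hχ φ' ho i hi, mul_zero]) (by simp), zero_mul, neg_zero,
          AddChar.map_zero_eq_one, one_mul, coe_withChar_dval]
      exact_mod_cast (e j).trans (e 0).symm
    intro j
    rw [hconst]
    by_contra hne
    have h1 : ∀ j, 1 ≤ aa j := fun j => by
      rw [haeq]
      refine le_trans ?_ (Finset.single_le_sum (fun _ _ => Nat.zero_le _) (Finset.mem_univ φ'))
      exact Nat.mul_pos (Nat.pos_of_ne_zero (charDegree_eq φ').2) (by rw [hconst]; exact Nat.pos_of_ne_zero hne)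
    have h2 : (Finset.univ : Finset (ZMod p)).card • 1 ≤ ∑ j, aa j :=
      Finset.card_nsmul_le_sum _ _ 1 fun j _ => h1 j
    rw [Finset.card_univ, ZMod.card, smul_eq_mul, mul_one, hsum] at h2
    omega
  have hsupp : ∀ j, aa j ≠ 0 ↔ ∃ r ∈ D.expN, D.multN χ ((r : (ZMod p)ˣ) * j) ≠ 0 := by
    intro j
    constructor
    · intro hne
      rw [haeq] at hne
      obtain ⟨φ', -, hφ'⟩ := Finset.exists_ne_zero_of_sum_ne_zero hne
      by_cases ho : D.InOrbit φ'
      · obtain ⟨n, hn, rfl⟩ := ho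
        refine ⟨D.expo ⟨n, hn⟩, ⟨_, rfl⟩, fun h0 => hφ' ?_⟩
        have e := hmm (conjKChar D.hQ D.hK hn D.φ) j
        rw [D.mult_conj (isClassFunction_irr χ) hn, D.mult_eq, ← D.coe_expo, h0] at e
        rw [show mm (conjKChar D.hQ D.hK hn D.φ) j = 0 by exact_mod_cast e.symm, mul_zero]
      · exact absurd (by rw [hout φ' ho, mul_zero]) hφ'
    · rintro ⟨r, hr, hne⟩
      have e : aa ((r : ZMod p) * j) = aa j := by
        have e1 := D.aP_expN (isClassFunction_irr χ) hr j
        rw [haa, haa] at e1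
        exact_mod_cast e1
      rw [← e, haeq]
      refine ne_of_gt (lt_of_lt_of_le ?_ (Finset.single_le_sum (fun _ _ => Nat.zero_le _)
        (Finset.mem_univ D.φ)))
      rw [hmN]
      exact Nat.mul_pos hd1 (Nat.pos_of_ne_zero hne)
  have hsingle : (∀ j, j ≠ 0 → D.multN χ j = 0) → False := by
    intro hz
    have h0 : ∀ j, j ≠ 0 → D.aP (χ : L → ℂ) j = 0 := fun j hj => by
      rw [haa, Nat.cast_eq_zero]
      by_contra hne
      obtain ⟨r, -, hr⟩ := (hsupp j).mp hne
      exact hr (hz _ (mul_ne_zero r.ne_zero hj))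
    have := DegreePSubTwo.mem_center_of_norm_eq hfaith (D.norm_eq_of_aP_single h0 1)
    rw [D.xp_one] at this
    exact hnc this
  have hmult : ∀ j : (ZMod p)ˣ, (D.multN χ j : ℤ) = D.multN χ 0 + D.vec χ j := fun j => by
    rw [CycSetup.vec]; ring
  have hSsplit : S = D.multN χ 0 + ∑ j : (ZMod p)ˣ, D.multN χ j := sum_zmod_split _
  have hcardU : Fintype.card (ZMod p)ˣ = p - 1 := ZMod.card_units p
  rcases (E.mem χ).mp hχ with hu | ⟨k, rfl⟩
  · exfalso
    have hc : ∀ j : (ZMod p)ˣ, (D.multN χ j : ℤ) = D.multN χ 0 + E.u χ := fun j => by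
      rw [hmult, E.vec_of_u hu]
    rcases (E.u_cases χ).resolve_left hu with e | e <;> simp only [e] at hc
    · have hge : (Finset.univ : Finset (ZMod p)ˣ).card • 1 ≤ ∑ j : (ZMod p)ˣ, D.multN χ j :=
        Finset.card_nsmul_le_sum _ _ 1 fun j _ => by have := hc j; omega
      rw [Finset.card_univ, hcardU, smul_eq_mul, mul_one] at hge
      omega
    · refine hsingle fun j hj => ?_
      have hconst : ∀ j : (ZMod p)ˣ, D.multN χ j = D.multN χ 0 - 1 := fun j => by
        have := hc j; omega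
      rw [Finset.sum_congr rfl fun j _ => hconst j, Finset.sum_const, Finset.card_univ, hcardU,
        smul_eq_mul] at hSsplit
      have hm01 : D.multN χ 0 ≤ 1 := by
        by_contra h2
        have := Nat.le_mul_of_pos_right (p - 1) (show 0 < D.multN χ 0 - 1 by omega)
        omega
      have := hconst (Units.mk0 j hj)
      rw [Units.val_mk0] at this
      omega
  obtain ⟨k₀, rfl⟩ := QuotientGroup.mk_surjective k
  set m0 := D.multN (E.Y k₀) 0 with hm0'
  have hc : ∀ j : (ZMod p)ˣ, (D.multN (E.Y k₀) j : ℤ) =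
      m0 + E.δ * (if k₀⁻¹ * j ∈ D.expE then 1 else 0) :=
    fun j => by
      rw [hmult, E.vec_Y]
      congr 2
      exact if_congr QuotientGroup.eq rfl rfl
  have hcoset : (Finset.univ.filter fun j : (ZMod p)ˣ => k₀⁻¹ * j ∈ D.expE).card = Nat.card D.expE := by
    rw [← Fintype.card_subtype, ← Nat.card_eq_fintype_card]
    exact Nat.card_congr
      { toFun := fun j => ⟨k₀⁻¹ * j.1, j.2⟩
        invFun := fun r => ⟨k₀ * r.1, by rw [inv_mul_cancel_left]; exact r.2⟩
        left_inv := fun j => Subtype.ext (mul_inv_cancel_left _ _)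
        right_inv := fun r => Subtype.ext (inv_mul_cancel_left _ _) }
  have hSint : (∑ j : (ZMod p)ˣ, (D.multN (E.Y k₀) j : ℤ)) =
      ((p - 1 : ℕ) : ℤ) * m0 + E.δ * (Nat.card D.expE : ℤ) := by
    rw [Finset.sum_congr rfl fun j _ => hc j, Finset.sum_add_distrib, Finset.sum_const,
      Finset.card_univ, hcardU, ← Finset.mul_sum, Finset.sum_boole, hcoset, nsmul_eq_mul]
  have hSeq : (S : ℤ) = (p : ℤ) * m0 + E.δ * (Nat.card D.expE : ℤ) := by
    rw [hSsplit]
    push_cast
    rw [hSint, Nat.cast_sub hp.one_lt.le]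
    push_cast
    ring
  have heN : Nat.card D.expE * f = Nat.card D.expN := by rw [hf, D.relIndex_mul, D.card_expN]
  have hedvd : Nat.card D.expN ∣ p - 1 := by
    rw [← hcardU, ← Nat.card_eq_fintype_card]
    exact Subgroup.card_subgroup_dvd_card _
  have hpp : 0 < p - 1 := by have := hp.two_le; omega
  have hNle : Nat.card D.expN ≤ p - 1 := Nat.le_of_dvd hpp hedvd
  have hEle : Nat.card D.expE ≤ p - 1 :=
    (heN ▸ Nat.le_mul_of_pos_right _ hf1).trans hNle
  have hepos : 0 < Nat.card D.expE := Nat.card_pos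
  have horb : f = 1 → ∀ φ', D.InOrbit φ' → φ' = D.φ := by
    rintro hf' φ' ⟨n, hn, rfl⟩
    have hs : n ∈ D.stab := Subgroup.relIndex_eq_one.mp hf' hn
    obtain ⟨_, e⟩ := hs
    exact e
  have hval : f = 1 → ∀ (i : ZMod p) (y : D.K), (E.Y k₀ : L → ℂ) (D.xp i * (y : L)) =
      (∑ j : ZMod p, stdPsi p (i * j) * (D.multN (E.Y k₀) j : ℂ)) * (D.φ : D.K → ℂ) y := by
    intro hf' i y
    rw [value_eq_sum D.hQ D.hK (isClassFunction_irr _) (D.xp_mem i) y, Finset.sum_eq_single D.φ]
    · congr 1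
      exact (D.dval_eq_sum_mult _ i).trans (Finset.sum_congr rfl fun j _ => by rw [D.mult_eq])
    · intro φ' _ hne
      have h1 : (D.withChar φ').dval (E.Y k₀ : L → ℂ) i = 0 := by
        rw [(D.withChar φ').dval_eq_sum_mult]
        refine Finset.sum_eq_zero fun j _ => ?_
        rw [hmm φ' j, hout φ' (fun ho => hne (horb hf' φ' ho)), Nat.cast_zero, mul_zero]
      rw [coe_withChar_dval] at h1
      rw [h1, zero_mul]
    · exact fun hn => absurd (Finset.mem_univ _) hn
  have hKcen : f = 1 → d = 1 → D.K ≤ Subgroup.center L := by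
    intro hf' hd' y hy
    refine DegreePSubTwo.mem_center_of_norm_eq hfaith ?_
    have hv := hval hf' 0 ⟨y, hy⟩
    rw [D.xp_zero, one_mul] at hv
    rw [hv]
    simp only [zero_mul, AddChar.map_zero_eq_one, one_mul, ← Nat.cast_sum, ← hS]
    rw [norm_mul, Complex.norm_natCast, DegreePSubTwo.norm_eq_one_of_degree_one (hdd ▸ hd'), mul_one,
      show charDegree (E.Y k₀ : L → ℂ) = x from hx.symm, hm, hf', hd', one_mul, one_mul]
  rcases E.sign with e | e <;> rw [e] at hSeq <;> simp only [e] at hc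
  · -- the positive sign forces `d = e`
    exfalso
    have hm00 : m0 = 0 := by
      by_contra hne
      have := Nat.le_mul_of_pos_right p (Nat.pos_of_ne_zero hne)
      have : (p : ℤ) ≤ (p : ℤ) * m0 := by exact_mod_cast this
      omega
    have hSe : S = Nat.card D.expE := by rw [hm00] at hSeq; omega
    have hxN : x = d * Nat.card D.expN := by rw [hm, hSe, ← heN]; ring
    have hNlt : Nat.card D.expN + 1 < p := by
      by_contra hlt
      have := Nat.le_mul_of_pos_left (Nat.card D.expN) hd1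
      omega
    have hsupp' : ∀ j : ZMod p, D.aP (E.Y k₀ : L → ℂ) j ≠ 0 ↔
        ∃ r ∈ D.expN, j = ((r * k₀ : (ZMod p)ˣ) : ZMod p) := by
      intro j
      rw [haa, Nat.cast_ne_zero, hsupp]
      constructor
      · rintro ⟨r, hr, hne⟩
        have hj : j ≠ 0 := by
          rintro rfl
          rw [mul_zero] at hne
          exact hne hm00
        have h1 := hc (r * Units.mk0 j hj)
        rw [Units.val_mul, Units.val_mk0, hm00] at h1
        split_ifs at h1 with hE
        · refine ⟨r⁻¹ * (k₀⁻¹ * (r * Units.mk0 j hj)), mul_mem (inv_mem hr) (D.expE_le_expN hE), ?_⟩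
          rw [show r⁻¹ * (k₀⁻¹ * (r * Units.mk0 j hj)) * k₀ = Units.mk0 j hj by
            rw [mul_assoc, mul_comm _ k₀, mul_inv_cancel_left, inv_mul_cancel_left], Units.val_mk0]
        · exfalso; apply hne; omega
      · rintro ⟨r, hr, rfl⟩
        refine ⟨r⁻¹, inv_mem hr, ?_⟩
        rw [← Units.val_mul, inv_mul_cancel_left]
        have h1 := hc k₀
        rw [inv_mul_cancel, if_pos (one_mem _), hm00] at h1
        omega
    obtain ⟨W, hWn, hKW, hQW⟩ := D.exists_normal_ge_K hM hsupp' hNlt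
    have hW : ¬ p ∣ Nat.card W := fun hd => hQW (by rw [hgen W hWn hd]; exact le_top)
    have hxgen : Subgroup.normalClosure {D.x} = ⊤ := hgen _ inferInstance (by
      have h1 := orderOf_dvd_natCard
        (⟨D.x, Subgroup.subset_normalClosure rfl⟩ : Subgroup.normalClosure ({D.x} : Set L))
      rwa [Subgroup.orderOf_mk, D.orderOf_x] at h1)
    have hloc : HalfDegree.LocData p D.x := ⟨D.orderOf_x, D.hsq⟩
    haveI := hWn
    have hK : D.K ≤ Subgroup.center L := hKW.trans
      (hloc.central hxgen (isCharacter_irr _) hfaith (charDegree_eq _).1 (by omega) W hW)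
    have hf' : f = 1 := by
      rw [hf, Subgroup.relIndex_eq_one]
      intro n hn
      refine ⟨hn, Subtype.ext (funext fun y => ?_)⟩
      show (D.φ : D.K → ℂ) (conjK D.hQ D.hK (inv_mem hn) y) = (D.φ : D.K → ℂ) y
      rw [show conjK D.hQ D.hK (inv_mem hn) y = y from Subtype.ext (by
        show n⁻¹ * (y : L) * n⁻¹⁻¹ = y
        rw [Subgroup.mem_center_iff.mp (hK y.2) n⁻¹, mul_inv_cancel_right])]
    have hd' : d = 1 := by
      obtain ⟨n, ρ, hρ, hρφ⟩ := D.φ.2
      obtain ⟨l, hl⟩ : ∃ l : D.K → ℂ, ∀ y, ρ y = l y • LinearMap.id := by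
        choose l hl using fun y : D.K => exists_scalar_of_mem_center ρ (z := y)
          (Subgroup.mem_center_iff.mpr fun g => Subtype.ext (Subgroup.mem_center_iff.mp (hK y.2) g))
        exact ⟨l, hl⟩
      have hn : d = n := by rw [hdd, ← hρφ]; simp [charDegree, Representation.char_one]
      have h1 := classInner_irr_self D.φ
      have hnorm : ∀ y, (D.φ : D.K → ℂ) y * conj ((D.φ : D.K → ℂ) y) = ((n * n : ℕ) : ℂ) := fun y => by
        rw [Complex.mul_conj', ← hρφ, (norm_char_eq_iff ρ y).mpr ⟨_, hl y⟩, Module.finrank_fin_fun]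
        push_cast
        ring
      rw [classInner, Finset.sum_congr rfl fun y _ => hnorm y, Finset.sum_const, Finset.card_univ,
        nsmul_eq_mul, ← Nat.card_eq_fintype_card, ← mul_assoc,
        inv_mul_cancel₀ (Nat.cast_ne_zero.mpr Nat.card_pos.ne'), one_mul] at h1
      have h2 : n * n = 1 := by exact_mod_cast h1
      rw [hn]; exact Nat.eq_one_of_mul_eq_one_right h2
    rw [hd', one_mul] at hxN
    obtain ⟨t, ht⟩ := hedvd
    rcases t with _ | _ | t
    · omega
    · omega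
    · have := Nat.mul_le_mul_left (Nat.card D.expN) (show 2 ≤ t + 1 + 1 by omega)
      omega
  · -- the negative sign
    have hm01 : m0 = 1 := by
      have h2 : ¬ 2 ≤ m0 := fun h2 => by
        have : (p : ℤ) * 2 ≤ (p : ℤ) * m0 := by exact_mod_cast Nat.mul_le_mul_left p h2
        omega
      have h0 : m0 ≠ 0 := by
        intro h0
        have h1 := hc k₀
        rw [inv_mul_cancel, if_pos (one_mem _), h0] at h1
        omega
      omega
    rw [hm01] at hSeq hc
    have hnetop : Nat.card D.expE ≠ p - 1 := by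
      intro hall
      have htop : D.expE = ⊤ := (Subgroup.card_eq_iff_eq_top _).mp (by
        rw [hall, Nat.card_eq_fintype_card, hcardU])
      refine hsingle fun j hj => ?_
      have h1 := hc (Units.mk0 j hj)
      rw [if_pos (htop ▸ Subgroup.mem_top _), Units.val_mk0] at h1
      omega
    obtain ⟨t, ht⟩ : Nat.card D.expE ∣ p - 1 := (heN ▸ dvd_mul_right _ _ : _ ∣ Nat.card D.expN).trans hedvd
    have h2e : 2 * Nat.card D.expE ≤ p - 1 := by
      have ht2 : 2 ≤ t := by
        rcases t with _ | _ | t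
        · rw [mul_zero] at ht; omega
        · exact absurd (by rw [ht, zero_add, mul_one]) hnetop
        · omega
      have := Nat.mul_le_mul_left (Nat.card D.expE) ht2
      omega
    have hfd : f * d = 1 := by
      by_contra hne
      have h2 : 2 ≤ f * d := by
        have := Nat.mul_pos hf1 hd1
        omega
      have := Nat.mul_le_mul_right S h2
      omega
    have hf' : f = 1 := Nat.eq_one_of_mul_eq_one_right hfd
    have hd' : d = 1 := Nat.eq_one_of_mul_eq_one_left hfd
    rw [hf', mul_one] at heN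
    have hEN : D.expE = D.expN := Subgroup.eq_of_le_of_card_ge D.expE_le_expN heN.ge
    have hmem : ∀ s, s ∈ D.expE ↔ s ∈ D.expN := fun s => by rw [hEN]
    refine ⟨hKcen hf' hd', ?_, k₀, fun i hi => ?_⟩
    · rw [hfd, one_mul] at hm
      omega
    · have hv := hval hf' i 1
      rw [OneMemClass.coe_one, mul_one, (charDegree_eq D.φ).1, ← hdd, hd', Nat.cast_one, mul_one] at hv
      rw [hv, sum_zmod_split, mul_zero, AddChar.map_zero_eq_one, one_mul, ← hm0', hm01, Nat.cast_one]
      have hz : ∑ j : (ZMod p)ˣ, stdPsi p (i * (j : ZMod p)) = -1 := by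
        have h1 : ∑ j : ZMod p, stdPsi p (i * j) = 0 := by
          rw [Finset.sum_congr rfl fun j _ => by rw [mul_comm i j], sum_stdPsi_mul, if_neg hi]
        rw [sum_zmod_split, mul_zero, AddChar.map_zero_eq_one] at h1
        linear_combination h1
      rw [Finset.sum_congr rfl (g := fun j : (ZMod p)ˣ => stdPsi p (i * (j : ZMod p)) -
          if k₀⁻¹ * j ∈ D.expN then stdPsi p (i * (j : ZMod p)) else 0) fun j _ => by
        have h1 : (D.multN (E.Y k₀) j : ℂ) = 1 - (if k₀⁻¹ * j ∈ D.expN then 1 else 0) := by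
          have h2 := hc j
          simp only [hmem] at h2
          split_ifs at h2 ⊢ <;> [rw [show D.multN (E.Y k₀) j = 0 by omega]; rw [show D.multN (E.Y k₀) j = 1 by omega]] <;> simp
        rw [h1]; split_ifs <;> ring,
        Finset.sum_sub_distrib, hz, ← Finset.sum_filter]
      ring

/-- The action of `y` on the vectors fixed by `x`. -/
theorem exists_nu {e : ℕ} {x y : L} {r a : ZMod p} (N : NData p e x y r) (χ : IrrCharacter L)
    (hval : ∀ i : ZMod p, i ≠ 0 →
      (χ : L → ℂ) (x ^ i.val) = -∑ l ∈ range e, stdPsi p (i * (a * r ^ l)))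
    (hde : charDegree (χ : L → ℂ) + e = p) (ha : a ≠ 0 := by exact Units.ne_zero _) :
    ∃ ν : ℂ, (∀ l, 0 < l → l < e → (χ : L → ℂ) (y ^ l) = ν ^ l) ∧
      ν ^ e = (χ : L → ℂ) (y ^ e) / (charDegree (χ : L → ℂ) : ℂ) := by
  classical
  have hp : p.Prime := hpf.out
  have hp0 : (p : ℂ) ≠ 0 := Nat.cast_ne_zero.mpr hp.ne_zero
  set d := charDegree (χ : L → ℂ) with hd
  obtain ⟨n, ρ, hρ, hρχ⟩ := χ.2
  have hn : d = n := by rw [hd, ← hρχ]; simp [charDegree, Representation.char_one]
  set W := LinearMap.ker (ρ x - 1) with hW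
  have hX : ρ x ^ p = 1 := by rw [← map_pow, N.pow_p, map_one]
  have hsum : ∑ i : ZMod p, (χ : L → ℂ) (x ^ i.val) = (p : ℂ) := by
    rw [← Finset.add_sum_erase _ _ (mem_univ (0 : ZMod p)), ZMod.val_zero, pow_zero,
      (charDegree_eq χ).1, Finset.sum_congr rfl fun i hi => hval i (mem_erase.mp hi).1,
      Finset.sum_neg_distrib, Finset.sum_comm, Finset.sum_congr rfl fun l _ => sum_stdPsi_erase _,
      Finset.sum_congr rfl fun l _ => by rw [if_neg (mul_ne_zero ha (pow_ne_zero _ N.r_ne_zero))],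
      Finset.sum_const, card_range, nsmul_eq_mul, ← hd]
    have : (p : ℂ) = d + e := by exact_mod_cast hde.symm
    linear_combination -this
  have hW1 : Module.finrank ℂ W = 1 := by
    have h := finrank_fix (T := ρ x) (n := p) hp0 hX
    rw [Finset.sum_congr rfl (g := fun i => ρ.character (x ^ i)) fun i _ => by rw [← map_pow]; rfl,
      hρχ, sum_range_eq_zmod (fun i => (χ : L → ℂ) (x ^ i)), hsum, inv_mul_cancel₀ hp0] at h
    exact_mod_cast h
  obtain ⟨v0, hv0, hspan⟩ := finrank_eq_one_iff'.mp hW1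
  have hfix : ∀ l : ℕ, ρ x (ρ (y ^ l) (v0 : Fin n → ℂ)) = ρ (y ^ l) (v0 : Fin n → ℂ) := by
    intro l
    obtain ⟨s, hs⟩ : ∃ s : ℕ, x * y ^ l = y ^ l * x ^ s := by
      refine ⟨((r ^ l)⁻¹).val, ?_⟩
      have h1 : y ^ l * x ^ ((r ^ l)⁻¹).val * (y ^ l)⁻¹ = x := by
        rw [← conj_pow, N.conj_pow_l, ← pow_mul, pow_eq_pow_mod _ N.pow_p, ← ZMod.val_mul,
          mul_inv_cancel₀ (pow_ne_zero _ N.r_ne_zero), ZMod.val_one, pow_one]
      exact (mul_inv_eq_iff_eq_mul.mp h1).symm
    rw [← Module.End.mul_apply, ← map_mul, hs, map_mul, map_pow ρ x, Module.End.mul_apply]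
    congr 1
    clear hs
    induction s with
    | zero => rfl
    | succ s ih => rw [pow_succ, Module.End.mul_apply, mem_ker_sub_one.mp v0.2, ih]
  obtain ⟨ν, hν⟩ := hspan ⟨_, mem_ker_sub_one.mpr (hfix 1)⟩
  have hνv : ∀ l : ℕ, ρ (y ^ l) (v0 : Fin n → ℂ) = ν ^ l • (v0 : Fin n → ℂ) := fun l => by
    induction l with
    | zero => rw [pow_zero, map_one, pow_zero, one_smul]; rfl
    | succ l ih =>
      have h1 : ρ y (v0 : Fin n → ℂ) = ν • (v0 : Fin n → ℂ) := by
        have := congrArg Subtype.val hν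
        simp only [pow_one] at this
        exact this.symm
      rw [pow_succ y, map_mul, Module.End.mul_apply, h1, map_smul, ih, smul_smul, pow_succ', mul_comm]
  refine ⟨ν, fun l hl hl' => ?_, ?_⟩
  · set π : Module.End ℂ (Fin n → ℂ) := (p : ℂ)⁻¹ • ∑ i ∈ range p, ρ x ^ i with hπ
    have hXπ : ∀ v, π v ∈ W := fun v => by
      rw [hW, mem_ker_sub_one, ← Module.End.mul_apply]
      congr 1
      rw [hπ, mul_smul_comm, Finset.mul_sum]
      congr 1
      have h1 : ∑ i ∈ range p, ρ x ^ (i + 1) = ∑ i ∈ range p, ρ x ^ i := by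
        have h2 := Finset.sum_range_succ' (fun i => ρ x ^ i) p
        rw [Finset.sum_range_succ, hX, pow_zero] at h2
        exact (add_right_cancel h2).symm
      rw [← h1]
      exact Finset.sum_congr rfl fun i _ => (pow_succ' _ _).symm
    have hYπ : ρ (y ^ l) * π = ν ^ l • π := by
      refine LinearMap.ext fun v => ?_
      obtain ⟨c, hc⟩ := hspan ⟨_, hXπ v⟩
      have hc' : π v = c • (v0 : Fin n → ℂ) := (congrArg Subtype.val hc).symm
      rw [Module.End.mul_apply, hc', map_smul, hνv, LinearMap.smul_apply, hc', smul_comm]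
    have h1 := congrArg (LinearMap.trace ℂ _) hYπ
    rw [hπ, mul_smul_comm, map_smul, map_smul, Finset.mul_sum, map_sum, map_smul, map_sum, smul_eq_mul,
      smul_eq_mul] at h1
    have hl1 : ∀ i ∈ range p, LinearMap.trace ℂ _ (ρ (y ^ l) * ρ x ^ i) = (χ : L → ℂ) (y ^ l) := by
      intro i _
      rw [LinearMap.trace_mul_comm, ← map_pow, ← map_mul, ← hρχ,
        show x ^ i = x ^ ((i : ℕ) : ZMod p).val by rw [ZMod.val_natCast, ← pow_eq_pow_mod _ N.pow_p]]
      exact conj_xy N hl hl' (isClassFunction_of_isCharacter ⟨_, ρ, rfl⟩) _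
    rw [Finset.sum_congr rfl hl1, Finset.sum_const, card_range, nsmul_eq_mul, ← mul_assoc,
      inv_mul_cancel₀ hp0, one_mul, smul_eq_mul,
      Finset.sum_congr rfl (g := fun i => ρ.character (x ^ i)) fun i _ => by rw [← map_pow]; rfl, hρχ,
      sum_range_eq_zmod (fun i => (χ : L → ℂ) (x ^ i)), hsum, inv_mul_cancel₀ hp0, mul_one] at h1
    exact h1
  · obtain ⟨ω, hω⟩ := exists_scalar_of_mem_center ρ N.pow_mem
    have h1 : ν ^ e = ω := by
      have h := hνv e
      rw [hω, LinearMap.smul_apply, LinearMap.id_apply] at h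
      exact (smul_left_injective ℂ (fun h0 => hv0 (Subtype.ext h0)) h).symm
    have h2 : (χ : L → ℂ) (y ^ e) = ω * (d : ℂ) := by
      rw [← hρχ, hn]
      show LinearMap.trace ℂ _ (ρ (y ^ e)) = _
      rw [hω, trace_smul_id, Module.finrank_fin_fun]
    rw [h1, h2, mul_div_cancel_right₀ _ (Nat.cast_ne_zero.mpr (charDegree_eq χ).2)]

/-- A character of degree between `(p - 1) / 2` and `p - 1` has the shape. -/
theorem exists_shape_small (hdvd : p ∣ Nat.card L) (hsq : ¬ p ^ 2 ∣ Nat.card L)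
    (hgen : ∀ N : Subgroup L, N.Normal → p ∣ Nat.card N → N = ⊤)
    (hnn : ∀ Q : Subgroup L, Nat.card Q = p → ¬ Q.Normal) (χ : IrrCharacter L)
    (hfaith : ∀ g : L, (χ : L → ℂ) g = (χ : L → ℂ) 1 → g = 1)
    (hlo : p ≤ 2 * charDegree (χ : L → ℂ)) (hhi : charDegree (χ : L → ℂ) + 2 ≤ p) :
    ∃ (e t : ℕ) (x y : L) (r : ZMod p) (a : ZMod p) (ν : ℂ) (μ : L → ℂ),
      NData p e x y r ∧ Small x y r e (charDegree (χ : L → ℂ)) χ a ν μ ∧
        charDegree (χ : L → ℂ) + e = p ∧ t * e = p - 1 ∧ 2 ≤ t := by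
  classical
  have hp : p.Prime := hpf.out
  obtain ⟨M, hM⟩ := exists_pModular hp
  have := hM.2.1
  have := Fintype.ofFinite (IrrCharacter L)
  set d := charDegree (χ : L → ℂ) with hd
  have hB : IsPBlock M (blockOf M (χ : L → ℂ)) := isPBlock_blockOf χ
  have hpos : 0 < blockDefect p (blockOf M (χ : L → ℂ)) := by
    have hndvd : ¬ p ∣ d := fun hh => by
      have := Nat.le_of_dvd (by omega) hh
      omega
    have hmin : sInf ((fun χ : IrrCharacter L => (charDegree (χ : L → ℂ)).factorization p) ''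
        blockOf M (χ : L → ℂ)) = 0 :=
      Nat.le_zero.mp ((Nat.sInf_le (show (charDegree (χ : L → ℂ)).factorization p ∈
        (fun χ : IrrCharacter L => (charDegree (χ : L → ℂ)).factorization p) '' blockOf M (χ : L → ℂ) from
        ⟨χ, self_mem_blockOf χ, rfl⟩)).trans (Nat.factorization_eq_zero_of_not_dvd hndvd).le)
    rw [blockDefect, hmin, Nat.sub_zero]
    exact hp.factorization_pos_of_dvd Nat.card_pos.ne' hdvd
  obtain ⟨D, hDK, hBD⟩ := CycSetup.exists_of_defect_pos hM hsq hB hpos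
  let _ : Fintype (Subgroup.centralizer (D.Q : Set L)) := Fintype.ofFinite _
  have hnc : D.x ∉ Subgroup.center L := by
    intro hc
    refine hnn D.Q D.hQ ⟨fun u hu g => ?_⟩
    have hu' : u ∈ Subgroup.center L := by
      rw [← D.zpowers_x] at hu
      exact Subgroup.zpowers_le.mpr hc hu
    rw [Subgroup.mem_center_iff.mp hu' g, mul_inv_cancel_right]
    exact hu
  obtain ⟨hK, hde, k₀, hval⟩ :=
    exists_multiplicities D hM hBD (self_mem_blockOf χ) hgen hfaith hnc hlo hhi
  set e := Nat.card D.expN with he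
  rw [← hd] at hde
  obtain ⟨t, ht⟩ : e ∣ p - 1 := by
    rw [← ZMod.card_units p, ← Nat.card_eq_fintype_card]
    exact Subgroup.card_subgroup_dvd_card _
  -- a generator
  obtain ⟨r₀, hr₀⟩ : ∃ r₀ : (ZMod p)ˣ, Subgroup.zpowers r₀ = D.expN := by
    obtain ⟨g, hg⟩ := (Subgroup.isCyclic D.expN).exists_generator
    refine ⟨g, le_antisymm (Subgroup.zpowers_le.mpr g.2) fun s hs => ?_⟩
    obtain ⟨k, hk⟩ := hg ⟨s, hs⟩
    exact ⟨k, by simpa using congrArg Subtype.val hk⟩
  have hord : orderOf r₀ = e := by rw [← Nat.card_zpowers, hr₀]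
  obtain ⟨n, hn⟩ : r₀ ∈ D.expo.range := by
    show r₀ ∈ D.expN
    rw [← hr₀]; exact Subgroup.mem_zpowers r₀
  have hpow : r₀ ^ p = r₀ := by
    have h1 : r₀ ^ (p - 1) = 1 := by rw [← ZMod.card_units p]; exact pow_card_eq_one
    calc r₀ ^ p = r₀ ^ ((p - 1) + 1) := by rw [Nat.sub_add_cancel hp.one_lt.le]
      _ = r₀ := by rw [pow_succ, h1, one_mul]
  set y : L := (n : L) ^ p with hy
  have hexpy : D.expo (n ^ p) = r₀ := by rw [map_pow, hn, hpow]
  set r : ZMod p := (r₀ : ZMod p) with hr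
  have hprim : IsPrimitiveRoot r e := by
    refine IsPrimitiveRoot.iff_orderOf.mpr ?_
    rw [hr, orderOf_units, hord]
  have hconj : y * D.x * y⁻¹ = D.x ^ r.val := by
    have h1 := D.expo0_spec (n ^ p)
    rw [← D.coe_expo, hexpy, Subgroup.coe_pow] at h1
    exact h1.symm
  have hyreg : ¬ p ∣ orderOf y := by
    intro h1
    have h2 : orderOf y = orderOf (n : L) / Nat.gcd (orderOf (n : L)) p := orderOf_pow _
    have h4 : orderOf y ∣ orderOf (n : L) := orderOf_pow_dvd p
    have h3 : p ∣ orderOf (n : L) := h1.trans h4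
    rw [Nat.gcd_eq_right h3] at h2
    rw [h2] at h1
    refine hsq (dvd_trans ?_ (orderOf_dvd_natCard (n : L)))
    rw [pow_two]
    exact Nat.mul_dvd_of_dvd_div h3 h1
  have hcreg : ¬ p ∣ Nat.card (Subgroup.center L) := by
    intro hd'
    obtain ⟨z, hz⟩ := exists_prime_orderOf_dvd_card' p hd'
    obtain ⟨c, i, w, hi, hgy⟩ := D.exists_section_conj (g := (z : L)) (by rw [Subgroup.orderOf_coe, hz])
    have h1 : D.xp i ∈ Subgroup.center L := by
      have h2 : D.xp i = (z : L) * (w : L)⁻¹ := by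
        rw [eq_mul_inv_iff_mul_eq, ← hgy, Subgroup.mem_center_iff.mp z.2 c, mul_inv_cancel_right]
      rw [h2]
      exact mul_mem z.2 (inv_mem (hK w.2))
    refine hnc ?_
    have h2 : D.x = D.xp i ^ (i⁻¹).val := by
      rw [D.xp_pow, ZMod.natCast_zmod_val, inv_mul_cancel₀ hi, D.xp_one]
    rw [h2]
    exact Subgroup.pow_mem _ h1 _
  have hye : y ^ e ∈ Subgroup.center L := by
    refine hK ((D.hK _).mpr ⟨?_, fun h1 => hyreg (h1.trans (orderOf_pow_dvd e))⟩)
    have h2 : D.expo ((n ^ p) ^ e) = 1 := by rw [map_pow, hexpy, ← hord, pow_orderOf_eq_one]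
    have h3 := (D.expo_eq_one_iff _).mp h2
    simpa using h3
  have hN : NData p e D.x y r := by
    refine ⟨D.orderOf_x, hsq, by omega, ⟨t, ht⟩, hprim, hconj, hye, hyreg, hcreg, fun g hg => ?_,
      fun g hg => ?_⟩
    · rw [D.zpowers_x] at hg
      have hmem : D.expo ⟨g, hg⟩ ∈ Subgroup.zpowers r₀ := by rw [hr₀]; exact ⟨_, rfl⟩
      obtain ⟨l, hl⟩ := mem_powers_iff_mem_zpowers.mpr hmem
      have hyN : y ^ l ∈ Subgroup.normalizer (D.Q : Set L) :=
        Subgroup.pow_mem _ (Subgroup.pow_mem _ n.2 p) l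
      have h1 : D.expo (⟨g, hg⟩ * ⟨y ^ l, hyN⟩⁻¹) = 1 := by
        rw [map_mul, map_inv, show (⟨y ^ l, hyN⟩ : Subgroup.normalizer (D.Q : Set L)) = (n ^ p) ^ l from
          Subtype.ext (by simp [hy]), map_pow, hexpy, mul_inv_eq_one]
        exact hl.symm
      have hc : g * (y ^ l)⁻¹ ∈ D.C := (D.expo_eq_one_iff _).mp h1
      obtain ⟨i, hi⟩ := D.exists_xp_mul_proj ⟨g * (y ^ l)⁻¹, hc⟩
      refine ⟨i.val, l, _, hK (D.proj ⟨_, hc⟩).2, ?_⟩
      rw [mul_assoc, Subgroup.mem_center_iff.mp (hK (D.proj ⟨_, hc⟩).2) (y ^ l), ← mul_assoc]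
      show g = D.xp i * _ * y ^ l
      rw [← hi, inv_mul_cancel_right]
    · obtain ⟨c, i, w, hi, hgy⟩ := D.exists_section_conj hg
      refine ⟨c, w, i.val, hK w.2, fun hd' => hi ?_, hgy⟩
      rw [← ZMod.natCast_zmod_val i, ZMod.natCast_eq_zero_iff]
      exact hd'
  have hd0 : (d : ℂ) ≠ 0 := Nat.cast_ne_zero.mpr (charDegree_eq χ).2
  -- the values on the subgroup
  have hvx : ∀ i : ZMod p, i ≠ 0 →
      (χ : L → ℂ) (D.x ^ i.val) = -∑ l ∈ range e, stdPsi p (i * ((k₀ : ZMod p) * r ^ l)) := by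
    intro i hi
    show (χ : L → ℂ) (D.xp i) = _
    rw [hval i hi]
    congr 1
    refine (Finset.sum_bij (fun l _ => k₀ * r₀ ^ l) (fun l _ => ?_) ?_ ?_ ?_).symm
    · rw [mem_filter, inv_mul_cancel_left, ← hr₀]
      exact ⟨mem_univ _, Subgroup.pow_mem _ (Subgroup.mem_zpowers r₀) l⟩
    · intro l hl l' hl' h
      exact pow_injOn_Iio_orderOf (by rw [hord]; exact mem_range.mp hl)
        (by rw [hord]; exact mem_range.mp hl') (mul_left_cancel h)
    · intro v hv
      obtain ⟨-, hv⟩ := mem_filter.mp hv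
      rw [← hr₀, ← mem_powers_iff_mem_zpowers] at hv
      obtain ⟨l, hl⟩ := hv
      refine ⟨l % e, mem_range.mpr (Nat.mod_lt _ (by omega)), ?_⟩
      rw [← hord, pow_mod_orderOf, show r₀ ^ l = k₀⁻¹ * v from hl, mul_inv_cancel_left]
    · intro l _
      rw [Units.val_mul, Units.val_pow_eq_pow_val]
  obtain ⟨ν, hν, hνe⟩ := exists_nu hN χ hvx hde
  exact ⟨e, t, D.x, y, r, (k₀ : ZMod p), ν, fun g => (χ : L → ℂ) g / (d : ℂ), hN,
    ⟨rfl, hvx, hν, hνe, fun z _ => by rw [mul_div_cancel₀ _ hd0]⟩, hde, by rw [mul_comm, ← ht],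
    by
      rcases t with _ | _ | t
      · omega
      · omega
      · omega⟩

end CfsgLib.Char.SmallDegree
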