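import Cfsg.Agent.Lib.Char.SmallDegree.Cases
import Cfsg.Agent.Lib.Char.SmallDegree.Alt
import Cfsg.Agent.Lib.Char.SmallDegree.Eta
import Cfsg.Agent.Lib.Char.SmallDegree.Shape

/-!
# The possible values of `e` for a character of degree `p - e`
-/

set_option autoImplicit false
set_option linter.unusedSectionVars false

namespace CfsgLib.Char.SmallDegree

open Cfsg CfsgLib.Block CfsgLib.Block.Cyclic CfsgLib.Char Finset
open scoped ComplexConjugate

universe u

variable {p : ℕ} [hpf : Fact p.Prime] {L : Type u} [Group L] [Fintype L]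

/-- A faithful character of odd degree of a perfect group forces a centre of odd order. -/
theorem odd_center_of_odd_degree (hperf : commutator L = ⊤) (χ : IrrCharacter L)
    (hfaith : ∀ g : L, (χ : L → ℂ) g = (χ : L → ℂ) 1 → g = 1)
    (hd : Odd (charDegree (χ : L → ℂ))) : Odd (Nat.card (Subgroup.center L)) := by
  by_contra h
  obtain ⟨z, hz⟩ := exists_prime_orderOf_dvd_card' (G := Subgroup.center L) 2
    (Nat.not_odd_iff_even.mp h).two_dvd
  obtain ⟨n, ρ, hρ, hρχ⟩ := χ.2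
  have hn : charDegree (χ : L → ℂ) = n := by
    rw [← hρχ]; simp [charDegree, Representation.char_one]
  rw [hn] at hd
  obtain ⟨c, hc⟩ := exists_scalar_of_mem_center ρ z.2
  let δ : L →* ℂˣ := (Units.map (LinearMap.det : ((Fin n → ℂ) →ₗ[ℂ] (Fin n → ℂ)) →* ℂ)).comp ρ.toHomUnits
  have hδ : δ (z : L) = 1 :=
    MonoidHom.mem_ker.mp (Abelianization.commutator_subset_ker δ (hperf ▸ Subgroup.mem_top (z : L)))
  have hcn : c ^ n = 1 := by
    have h1 : LinearMap.det (ρ (z : L)) = 1 := congrArg Units.val hδ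
    rwa [hc, LinearMap.det_smul, LinearMap.det_id, mul_one, Module.finrank_fin_fun] at h1
  have hz2 : (z : L) * (z : L) = 1 := by
    rw [← Subgroup.coe_mul, ← pow_two, ← hz, pow_orderOf_eq_one, Subgroup.coe_one]
  haveI : Nonempty (Fin n) := ⟨⟨0, hd.pos⟩⟩
  have hcc : c * c = 1 := by
    have h1 : ρ ((z : L) * z) = 1 := by rw [hz2, map_one]
    rw [map_mul, hc] at h1
    have h2 := LinearMap.congr_fun h1 (fun _ => 1)
    simp only [Module.End.mul_apply, LinearMap.smul_apply, LinearMap.id_apply, Module.End.one_apply,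
      smul_smul] at h2
    simpa using congrFun h2 ⟨0, hd.pos⟩
  have hc1 : c = 1 := by
    obtain ⟨m, hm⟩ := hd
    rwa [hm, pow_succ, pow_mul, pow_two, hcc, one_pow, one_mul] at hcn
  have hz1 : (z : L) = 1 := hfaith _ (by
    rw [← hρχ]
    show LinearMap.trace ℂ _ (ρ (z : L)) = LinearMap.trace ℂ _ (ρ 1)
    rw [hc, hc1, one_smul, map_one, Module.End.one_eq_id])
  have hz' : z = 1 := Subtype.ext hz1
  rw [hz', orderOf_one] at hz
  exact absurd hz (by norm_num)

/-- The trichotomy. -/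
theorem small_cases (hp7 : 7 < p) (hdvd : p ∣ Nat.card L) (hsq : ¬ p ^ 2 ∣ Nat.card L)
    (hgen : ∀ N : Subgroup L, N.Normal → p ∣ Nat.card N → N = ⊤)
    (hnn : ∀ Q : Subgroup L, Nat.card Q = p → ¬ Q.Normal) (hperf : commutator L = ⊤)
    (χ : IrrCharacter L) (hfaith : ∀ g : L, (χ : L → ℂ) g = (χ : L → ℂ) 1 → g = 1)
    (hlo : p ≤ 2 * charDegree (χ : L → ℂ)) (hhi : charDegree (χ : L → ℂ) + 2 ≤ p) :
    ∃ (e t : ℕ) (x y : L) (r : ZMod p) (a : ZMod p) (ν : ℂ) (μ : L → ℂ),
      NData p e x y r ∧ Small x y r e (charDegree (χ : L → ℂ)) χ a ν μ ∧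
        charDegree (χ : L → ℂ) + e = p ∧ t * e = p - 1 ∧ 2 ≤ t ∧
          (3 ≤ t → e + 3 ≤ t ∧ (Odd (Nat.card (Subgroup.center L)) → e = 2)) := by
  classical
  obtain ⟨e, t, x, y, r, a, ν, μ, N, S, hde, hte, ht2⟩ :=
    exists_shape_small hdvd hsq hgen hnn χ hfaith hlo hhi
  refine ⟨e, t, x, y, r, a, ν, μ, N, S, hde, hte, ht2, fun ht3 => ?_⟩
  rcases eq_or_lt_of_le N.two_le with h2 | h3
  · subst h2
    have h11 : 11 ≤ p := by
      by_contra hh
      have hp : p.Prime := hpf.out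
      interval_cases p <;> norm_num at hp
    exact ⟨by omega, fun _ => rfl⟩
  have he3 : 3 ≤ e := h3
  have hm0 : ∀ {lam : L → ℂ} (F : Fam x r e lam), F.δ = 1 → 0 < F.m0 := fun F =>
    F.m0_pos hperf N (by
      have h1 := Nat.mul_le_mul_right e ht3
      omega)
  obtain ⟨F₁⟩ := exists_fam N (fun _ => (1 : ℂ)) (fun _ _ _ _ => (one_mul _).symm) (fun _ _ => one_ne_zero)
  have het : e ≤ t := S.conj_bound N hde hte ht3 F₁ (fun _ _ => rfl) he3 (hm0 F₁)
  have hlam : ∀ z ∈ Subgroup.center L, μ z * μ z = μ z * conj ((fun g => conj (μ g)) z) := fun z _ => by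
    simp
  have hcase : Odd (Nat.card (Subgroup.center L)) → False := fun ho => by
    obtain ⟨F, hF⟩ := S.exists_eta N hde ho
    exact S.minus_false N S.conj' hde hte ht3 F hlam hF he3 het
  refine ⟨?_, fun ho => (hcase ho).elim⟩
  by_contra hlt
  have hp : p.Prime := hpf.out
  obtain ⟨pm, hpm⟩ := hp.odd_of_ne_two (by omega)
  -- `e` is odd
  have heo : Odd e := by
    rcases Nat.even_or_odd e with he | he
    · obtain ⟨em, hem⟩ := he
      exact (hcase (odd_center_of_odd_degree hperf χ hfaith ⟨pm - em, by omega⟩)).elim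
    · exact he
  have hte2 : Even t := by
    refine (Nat.even_mul.mp (⟨pm, by omega⟩ : Even (t * e))).resolve_right ?_
    exact Nat.not_even_iff_odd.mpr heo
  obtain ⟨em, hem⟩ := heo
  obtain ⟨tm, htm⟩ := hte2
  obtain ⟨F₂⟩ := exists_fam N (fun g => μ g * μ g)
    (fun z hz z' hz' => by rw [S.mu_mul N z hz z' hz']; ring)
    (fun z hz => mul_ne_zero (S.mu_ne_zero N z hz) (S.mu_ne_zero N z hz))
  rcases F₂.sign with hδ | hδ
  · exact S.alt_false N hde hte F₂ (fun _ _ => rfl) hδ (hm0 F₂ hδ) ⟨em, hem⟩ (by omega) (by omega)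
  · exact S.minus_false N S.conj' hde hte ht3 F₂ hlam hδ he3 het

end CfsgLib.Char.SmallDegree
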