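import Cfsg.Agent.Lib.Char.SmallDegree.Model
import Cfsg.Agent.Lib.Char.SmallDegree.Bound

/-!
# Lower bounds for multiplicities in a product of two small characters
-/

set_option autoImplicit false
set_option linter.unusedSectionVars false

namespace CfsgLib.Char.SmallDegree

open Cfsg CfsgLib.Block CfsgLib.Block.Cyclic CfsgLib.Char Matrix Finset
open scoped ComplexConjugate Kronecker

universe u

variable {p : ℕ} [hpf : Fact p.Prime] {M : Ideal AlgInt} [hMm : M.IsMaximal] (hM : IsPModular p M)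
  {L : Type u} [Group L] [Fintype L] {e c : ℕ} {x y : L} {r : ZMod p}

include hM in
/-- The multiplicity `R` of `θ` in the product and the dimension `X` of the vectors of the
corresponding space fixed by `x`. -/
theorem exists_mult_bound (D : NData p e x y r) (hp3 : p ≠ 2) (hd : c + 1 + e = p) (hec : e ≤ c + 1)
    (χ₁ χ₂ θ : IrrCharacter L) (hd₁ : charDegree (χ₁ : L → ℂ) = c + 1)
    (hd₂ : charDegree (χ₂ : L → ℂ) = c + 1) {n : ℕ} (hn : charDegree (θ : L → ℂ) = n)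
    (hcen : ∀ z ∈ Subgroup.center L, (χ₁ : L → ℂ) z * conj ((χ₂ : L → ℂ) z) * conj ((θ : L → ℂ) z) =
      ((c + 1 : ℕ) : ℂ) * ((c + 1 : ℕ) : ℂ) * (n : ℂ)) :
    ∃ R X : ℕ,
      classInner (fun g => (χ₁ : L → ℂ) g * conj ((χ₂ : L → ℂ) g)) (θ : L → ℂ) = R ∧
      (X : ℂ) = (p : ℂ)⁻¹ * ∑ i : ZMod p, (χ₁ : L → ℂ) (x ^ i.val) *
        conj ((χ₂ : L → ℂ) (x ^ i.val)) * conj ((θ : L → ℂ) (x ^ i.val)) ∧
      (n % p = e → 3 * e ≤ p + 1 → X ≤ e * R + e * (c + 1 - e) + n / p * (c + 1) ^ 2) ∧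
      (n % p = p - e → e * (c + 1 - e / 2) + X ≤ e * R + (n / p + 1) * (c + 1) ^ 2) := by
  classical
  haveI := charP_resField hM
  haveI := isAlgClosed_resField (M := M)
  have hc : c + 1 < p := by have := D.two_le; omega
  obtain ⟨ρ₁, c₁, htr₁, hc₁, hx₁, hy₁⟩ := exists_model hM D hp3 hc χ₁ hd₁
  obtain ⟨ρ₂, c₂, htr₂, hc₂, hx₂, hy₂⟩ := exists_model hM D hp3 hc χ₂ hd₂
  obtain ⟨n', σ, s, hn', hdn, htr, hs, hsoc⟩ := exists_lattice hM D.not_sq θ
  obtain rfl : n = n' := by rw [hdn, hn]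
  set u := homRep (homRep ρ₁ ρ₂) σ with hu
  have hcast : ∀ {m : ℕ} (A : Matrix (Fin m) (Fin m) (ram p M)) (a : ram p M), A = a • 1 →
      (A.trace : ℂ) = (a : ℂ) * m := fun {m} A a h => by
    rw [h, Matrix.trace_smul, Matrix.trace_one, Fintype.card_fin, smul_eq_mul]
    simp
  have hz : ∀ z ∈ Subgroup.center L, u z = 1 := by
    intro z hz
    obtain ⟨a₁, h₁, h₁'⟩ := exists_scalar_mat (Nat.succ_pos c) ρ₁ χ₁ htr₁ hz
    obtain ⟨a₂, h₂, h₂'⟩ := exists_scalar_mat (Nat.succ_pos c) ρ₂ χ₂ htr₂ (inv_mem hz)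
    obtain ⟨a, h, h'⟩ := exists_scalar_mat hn' σ θ htr (inv_mem hz)
    rw [irr_inv] at h₂' h'
    have habc : a * a₂ * a₁ = 1 := by
      refine Subtype.ext (mul_right_cancel₀ (b := ((c + 1 : ℕ) : ℂ) * ((c + 1 : ℕ) : ℂ) * (n : ℂ)) ?_ ?_)
      · simp [hn'.ne', Nat.cast_add_one_ne_zero]
      · have := hcen z hz
        rw [← h₁', ← h₂', ← h'] at this
        push_cast at this ⊢
        linear_combination this
    show (σ z⁻¹)ᵀ ⊗ₖ ((ρ₂ z⁻¹)ᵀ ⊗ₖ ρ₁ z) = 1
    rw [h, h₂, h₁, transpose_smul, transpose_smul, transpose_one, transpose_one, smul_kronecker,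
      kronecker_smul, smul_kronecker, kronecker_smul, smul_smul, one_kronecker_one, kronecker_smul,
      one_kronecker_one, smul_smul, mul_right_comm a a₁ a₂, habc, one_smul]
  have htru : ∀ g, ((u g).trace : ℂ) =
      (χ₁ : L → ℂ) g * conj ((χ₂ : L → ℂ) g) * conj ((θ : L → ℂ) g) := fun g => by
    rw [hu, homRep_trace, homRep_trace, ← irr_inv χ₂, ← irr_inv θ, ← htr, ← htr₁, ← htr₂]
    push_cast
    ring
  refine ⟨Module.finrank (ramField p) (fixG u), Module.finrank (ramField p) (fixOne u x), ?_, ?_, ?_⟩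
  · rw [finrank_fixG, classInner]
    congr 1
    exact Finset.sum_congr rfl fun g _ => (htru g).symm
  · have h := finrank_fix (T := overK u x) (n := p) (Nat.cast_ne_zero.mpr hpf.out.ne_zero)
      (by rw [← map_pow, D.pow_p, map_one])
    have h' := congrArg (fun z : ramField p => (z : ℂ)) h
    push_cast at h'
    unfold fixOne
    rw [h', ← sum_range_eq_zmod (fun i => (χ₁ : L → ℂ) (x ^ i) *
        conj ((χ₂ : L → ℂ) (x ^ i)) * conj ((θ : L → ℂ) (x ^ i)))]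
    congr 1
    exact Finset.sum_congr rfl fun i _ => by rw [← map_pow, trace_overK, htru]
  have hshape : n % p ≠ 0 → ∃ (f : ℕ) (v : Fin f → Fin n → ResField M) (μ : Fin f → ResField M)
      (w : Fin n → ResField M) (γ : ResField M), f = n / p ∧ f * p + n % p = n ∧
      (∀ i, overRes σ y (v i) = μ i • v i) ∧ overRes σ y w = γ • w ∧
      (dop (ResField M) p (overRes σ x) ^ (n % p)) w = 0 ∧
      cyc (dop (ResField M) p (overRes σ x)) w (n % p) ⊔
        ⨆ i, cyc (dop (ResField M) p (overRes σ x)) (v i) p = ⊤ := by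
    intro hne
    obtain ⟨f, a, v, μ, w, γ, -, hap, hfa, hv, hw, hwa, hspan⟩ := exists_shape_of_lattice D hp3 hn' σ θ htr
      hs hsoc (fun h => hne (Nat.mod_eq_zero_of_dvd h))
    have ha : n % p = a := by rw [← hfa, Nat.mul_add_mod_self_right, Nat.mod_eq_of_lt hap]
    have hf : n / p = f := by
      rw [← hfa, mul_comm, Nat.mul_add_div hpf.out.pos, Nat.div_eq_of_lt hap, add_zero]
    refine ⟨f, v, μ, w, γ, hf.symm, ?_, hv, hw, ?_, ?_⟩ <;> rw [ha] <;> assumption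
  refine ⟨fun hmod h3 => ?_, fun hmod => ?_⟩
  · obtain ⟨f, v, μ, w, γ, rfl, hfa, hv, hw, hwa, hspan⟩ :=
      hshape (by rw [hmod]; exact D.e_ne_zero)
    rw [hmod] at hfa hwa hspan
    exact rank_plus hM D hp3 ρ₁ ρ₂ σ hc₁ hc₂ hx₁ hx₂ hy₁ hy₂ hz hd h3 hfa hv hw hwa hspan
  · obtain ⟨f, v, μ, w, γ, rfl, hfa, hv, hw, hwa, hspan⟩ :=
      hshape (by rw [hmod]; have := D.e_lt; omega)
    rw [hmod] at hfa hwa hspan
    exact rank_minus hM D hp3 ρ₁ ρ₂ σ hc₁ hc₂ hx₁ hx₂ hy₁ hy₂ hz hd hec hfa hv hw hwa hspan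

end CfsgLib.Char.SmallDegree
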