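import Cfsg.Agent.Lib.Char.SmallDegree.Ring

/-!
# Reduction of subspaces and fixed spaces

A subspace over the field of fractions keeps its dimension after intersecting with the lattice and
reducing.
-/

set_option autoImplicit false
set_option linter.unusedSectionVars false

namespace CfsgLib.Char.SmallDegree

open Cfsg CfsgLib.Block CfsgLib.Block.Cyclic

variable {p : ℕ} [hpf : Fact p.Prime] {M : Ideal AlgInt} [hMm : M.IsMaximal] (hM : IsPModular p M)
  {ι : Type*} [Fintype ι]

/-- A coordinatewise integral vector, over the field. -/
noncomputable def liftK (v : ι → ram p M) : ι → ramField p := fun i => toK (v i)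

/-- The coordinatewise reduction. -/
noncomputable def redK (v : ι → ram p M) : ι → ResField M := fun i => resRam p M (v i)

include hM in
/-- One of finitely many coefficients dominates the others. -/
theorem exists_dominant (f : ι → ramField p) (hne : f ≠ 0) :
    ∃ j, f j ≠ 0 ∧ ∀ i, ((f i / f j : ramField p) : ℂ) ∈ ram p M := by
  classical
  have key : ∀ s : Finset ι, (∃ i ∈ s, f i ≠ 0) →
      ∃ j ∈ s, f j ≠ 0 ∧ ∀ i ∈ s, ((f i / f j : ramField p) : ℂ) ∈ ram p M := by
    intro s
    induction s using Finset.induction_on with
    | empty => simp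
    | @insert a s ha ih =>
      intro hex
      by_cases hs : ∃ i ∈ s, f i ≠ 0
      · obtain ⟨j, hj, hj0, hjs⟩ := ih hs
        rcases mem_or_inv hM (f a / f j) with h | ⟨y, hy⟩
        · refine ⟨j, Finset.mem_insert_of_mem hj, hj0, fun i hi => ?_⟩
          rcases Finset.mem_insert.mp hi with rfl | hi
          · exact h
          · exact hjs i hi
        · have ha0 : f a ≠ 0 := by
            intro h0
            rw [h0] at hy
            simp at hy
          have hinv : ((f j / f a : ramField p) : ℂ) = ((piR p M * y : ram p M) : ℂ) := by
            rw [← inv_div, Subfield.coe_inv, Subring.coe_mul]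
            exact inv_eq_of_mul_eq_one_right hy
          refine ⟨a, Finset.mem_insert_self _ _, ha0, fun i hi => ?_⟩
          rcases Finset.mem_insert.mp hi with rfl | hi
          · rw [div_self ha0]
            exact one_mem _
          · rw [← div_mul_div_cancel₀ hj0, Subfield.coe_mul, hinv]
            exact mul_mem (hjs i hi) (Subtype.prop _)
      · obtain ⟨i, hi, hi0⟩ := hex
        rcases Finset.mem_insert.mp hi with rfl | hi'
        · refine ⟨i, Finset.mem_insert_self _ _, hi0, fun l hl => ?_⟩
          rcases Finset.mem_insert.mp hl with rfl | hl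
          · rw [div_self hi0]
            exact one_mem _
          · rw [show f l = 0 from by_contra fun h => hs ⟨l, hl, h⟩, zero_div]
            exact zero_mem _
        · exact absurd ⟨i, hi', hi0⟩ hs
  obtain ⟨i, hi⟩ := Function.ne_iff.mp hne
  obtain ⟨j, -, hj0, hj⟩ := key Finset.univ ⟨i, Finset.mem_univ _, hi⟩
  exact ⟨j, hj0, fun l => hj l (Finset.mem_univ _)⟩

/-- The reduction of a subspace. -/
noncomputable def redS (S : Submodule (ramField p) (ι → ramField p)) :
    Submodule (ResField M) (ι → ResField M) where
  carrier := {w | ∃ v : ι → ram p M, liftK v ∈ S ∧ redK v = w}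
  zero_mem' := ⟨0, by convert S.zero_mem; funext i; simp [liftK], by funext i; simp [redK]⟩
  add_mem' := by
    rintro _ _ ⟨v, hv, rfl⟩ ⟨v', hv', rfl⟩
    refine ⟨v + v', ?_, by funext i; simp [redK]⟩
    convert S.add_mem hv hv' using 1
    funext i
    simp [liftK]
  smul_mem' := by
    rintro a _ ⟨v, hv, rfl⟩
    obtain ⟨r, rfl⟩ := resRam_surjective hM a
    refine ⟨r • v, ?_, by funext i; simp [redK]⟩
    convert S.smul_mem (toK r) hv using 1
    funext i
    simp [liftK]

theorem mem_redS {S : Submodule (ramField p) (ι → ramField p)} {w : ι → ResField M} :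
    w ∈ redS hM S ↔ ∃ v : ι → ram p M, liftK v ∈ S ∧ redK v = w := Iff.rfl

/-- The reduction keeps the dimension. -/
theorem finrank_redS (S : Submodule (ramField p) (ι → ramField p)) :
    Module.finrank (ResField M) (redS hM S) = Module.finrank (ramField p) S := by
  classical
  refine le_antisymm ?_ ?_
  · set b := Module.finBasis (ResField M) (redS hM S)
    choose v hvS hvr using fun i => (b i).2
    have hli : LinearIndependent (ramField p) (fun i => (⟨liftK (v i), hvS i⟩ : S)) := by
      rw [Fintype.linearIndependent_iff]
      intro c hc
      by_contra hne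
      push Not at hne
      obtain ⟨j, hj0, hj⟩ := exists_dominant hM c (Function.ne_iff.mpr hne)
      set c' : Fin _ → ram p M := fun i => ⟨_, hj i⟩ with hc'
      have h1 : ∑ i, c' i • v i = 0 := by
        funext l
        refine toK_injective ?_
        have h2 := congrFun (congrArg Subtype.val hc) l
        simp only [AddSubmonoidClass.coe_finsetSum, Finset.sum_apply, Submodule.coe_smul, Pi.smul_apply,
          smul_eq_mul, ZeroMemClass.coe_zero, Pi.zero_apply] at h2
        simp only [Finset.sum_apply, Pi.smul_apply, smul_eq_mul, map_sum, map_mul, Pi.zero_apply, map_zero]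
        have h3 : ∀ i, toK (c' i) = c i / c j := fun i => rfl
        simp only [h3, div_mul_eq_mul_div, ← Finset.sum_div]
        rw [show ∑ i, c i * toK (v i l) = 0 from h2, zero_div]
      have h4 : ∑ i, resRam p M (c' i) • (b i : ι → ResField M) = 0 := by
        have := congrArg redK h1
        funext l
        have h5 := congrFun this l
        simp only [redK, Finset.sum_apply, Pi.smul_apply, smul_eq_mul, map_sum, map_mul, Pi.zero_apply,
          map_zero] at h5
        simp only [← hvr, Finset.sum_apply, Pi.smul_apply, smul_eq_mul, Pi.zero_apply]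
        exact h5
      have h6 := Fintype.linearIndependent_iff.mp b.linearIndependent (fun i => resRam p M (c' i))
        (Subtype.ext (by
          simp only [AddSubmonoidClass.coe_finsetSum, Submodule.coe_smul, ZeroMemClass.coe_zero]
          exact h4)) j
      rw [show c' j = 1 from Subtype.ext (by simp [hc', hj0]), map_one] at h6
      exact one_ne_zero h6
    simpa using hli.fintype_card_le_finrank
  · by_contra hlt
    push Not at hlt
    set r := Module.finrank (ResField M) (redS hM S) with hr
    obtain ⟨g, hg⟩ := LinearMap.exists_leftInverse_of_injective (redS hM S).subtype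
      (Submodule.ker_subtype _)
    set Λ := ((Module.finBasis (ResField M) (redS hM S)).equivFun.toLinearMap.comp g) with hΛ
    choose L hL using fun (i : Fin r) (l : ι) => resRam_surjective hM (Λ (Pi.single l 1) i)
    let F : S →ₗ[ramField p] (Fin r → ramField p) :=
      LinearMap.pi fun i => (∑ l, toK (L i l) • LinearMap.proj l).comp S.subtype
    obtain ⟨x, hxF, hx0⟩ : ∃ x, F x = 0 ∧ x ≠ 0 := by
      have hker : LinearMap.ker F ≠ ⊥ := LinearMap.ker_ne_bot_of_finrank_lt (by
        rw [Module.finrank_fin_fun]; exact hlt)
      obtain ⟨x, hx, hx0⟩ := Submodule.exists_mem_ne_zero_of_ne_bot hker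
      exact ⟨x, hx, hx0⟩
    obtain ⟨j, hj0, hj⟩ := exists_dominant hM (x : ι → ramField p) (by simpa using hx0)
    set v : ι → ram p M := fun l => ⟨_, hj l⟩ with hv
    have hvx : liftK v = ((x : ι → ramField p) j)⁻¹ • (x : ι → ramField p) := by
      funext l
      show (x : ι → ramField p) l / (x : ι → ramField p) j = _
      rw [Pi.smul_apply, smul_eq_mul, div_eq_inv_mul]
    have hvS : liftK v ∈ S := hvx ▸ S.smul_mem _ x.2
    have hzero : ∀ i, ∑ l, L i l * v l = 0 := fun i => by
      refine toK_injective ?_
      have h2 := congrFun hxF i
      simp only [F, LinearMap.pi_apply, LinearMap.comp_apply, LinearMap.sum_apply, LinearMap.smul_apply,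
        LinearMap.proj_apply, Submodule.subtype_apply, smul_eq_mul, Pi.zero_apply] at h2
      have h3 : ∀ l, toK (v l) = ((x : ι → ramField p) j)⁻¹ * (x : ι → ramField p) l := fun l => by
        have := congrFun hvx l
        exact this
      simp only [map_sum, map_mul, map_zero, h3, mul_left_comm _ (((x : ι → ramField p) j)⁻¹), ← Finset.mul_sum,
        h2, mul_zero]
    have hw : Λ (redK v) = 0 := by
      funext i
      have h8 := congrArg (resRam p M) (hzero i)
      simp only [map_sum, map_mul, hL, map_zero] at h8
      rw [show redK v = ∑ l, Pi.single l (resRam p M (v l)) from (Finset.univ_sum_single _).symm, map_sum,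
        Finset.sum_apply, Pi.zero_apply, ← h8]
      refine Finset.sum_congr rfl fun l _ => ?_
      rw [show Pi.single l (resRam p M (v l)) = resRam p M (v l) • Pi.single l (1 : ResField M) by
        rw [← Pi.single_smul, smul_eq_mul, mul_one], map_smul, Pi.smul_apply, smul_eq_mul, mul_comm]
    have hmem : redK v ∈ redS hM S := ⟨v, hvS, rfl⟩
    have h0 : (⟨redK v, hmem⟩ : redS hM S) = 0 := by
      have := LinearMap.congr_fun hg ⟨redK v, hmem⟩
      simp only [LinearMap.comp_apply, Submodule.subtype_apply, LinearMap.id_apply] at this
      rw [← this]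
      exact (Module.finBasis (ResField M) (redS hM S)).equivFun.injective (by simpa [hΛ] using hw)
    have h7 := congrFun (congrArg Subtype.val h0) j
    simp only [ZeroMemClass.coe_zero, Pi.zero_apply, redK] at h7
    rw [show v j = 1 from Subtype.ext (by simp [hv, hj0]), map_one] at h7
    exact one_ne_zero h7

end CfsgLib.Char.SmallDegree
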