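import Cfsg.Agent.Lib.Block.Cyclic.UnramRing
import Cfsg.Agent.Lib.Block.Cyclic.SylowMult

/-!
# The local ring of the `p`-th roots of unity

`ram p M` is the ring generated by the roots of unity of order not divisible by `p ^ 2`, localised at
`M`.  It is a valuation ring of its field of fractions `ramField p`, with maximal ideal generated by
`ω - 1`, and it maps onto the residue field at `M`.
-/

set_option autoImplicit false
set_option linter.unusedSectionVars false

namespace CfsgLib.Char.SmallDegree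

open Cfsg CfsgLib.Block CfsgLib.Block.Cyclic

/-- The roots of unity of order not divisible by `p ^ 2`. -/
def ramRoots (p : ℕ) : Set ℂ := {z | ∃ m : ℕ, ¬ p ^ 2 ∣ m ∧ z ^ m = 1}

/-- The ring generated by them. -/
def ramBase (p : ℕ) : Subring ℂ := Subring.closure (ramRoots p)

/-- The field generated by them. -/
noncomputable def ramField (p : ℕ) : Subfield ℂ := Subfield.closure (ramRoots p)

variable {p : ℕ} [hpf : Fact p.Prime]

theorem ramBase_isIntegral {z : ℂ} (hz : z ∈ ramBase p) : IsIntegral ℤ z := by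
  refine Subring.closure_induction (p := fun x _ => IsIntegral ℤ x) ?_ isIntegral_zero
    isIntegral_one (fun _ _ _ _ ha hb => ha.add hb) (fun _ _ ha => ha.neg)
    (fun _ _ _ _ ha hb => ha.mul hb) hz
  rintro x ⟨m, hm, hx⟩
  have hm0 : m ≠ 0 := fun h => hm (by rw [h]; exact dvd_zero _)
  exact CfsgLib.Block.isIntegral_of_pow_eq_one (Nat.pos_of_ne_zero hm0) hx

theorem regRing_le_ramBase : regRing p ≤ ramBase p :=
  Subring.closure_le.mpr fun _ ⟨m, hm, hz⟩ =>
    Subring.subset_closure ⟨m, fun h => hm ((dvd_pow_self p two_ne_zero).trans h), hz⟩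

variable (p) in
/-- The standard primitive `p`-th root of unity. -/
noncomputable def omega : ℂ := stdPsi p 1

theorem omega_pow : omega p ^ p = 1 := stdPsi_pow p 1

theorem omega_ne_one : omega p ≠ 1 := fun h1 => by
  apply stdPsi_primitive p (one_ne_zero (α := ZMod p))
  refine DFunLike.ext _ _ fun j => ?_
  rw [AddChar.mulShift_apply, AddChar.one_apply, one_mul, ← ZMod.natCast_zmod_val j, ← nsmul_one j.val,
    AddChar.map_nsmul_eq_pow, show stdPsi p 1 = 1 from h1, one_pow]

theorem omega_primitive : IsPrimitiveRoot (omega p) p := by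
  rw [IsPrimitiveRoot.iff_orderOf]
  exact orderOf_eq_prime omega_pow omega_ne_one

theorem stdPsi_eq_omega (i : ZMod p) : stdPsi p i = omega p ^ i.val := by
  conv_lhs => rw [← ZMod.natCast_zmod_val i, ← nsmul_one i.val]
  rw [AddChar.map_nsmul_eq_pow]
  rfl

theorem not_sq_dvd_self : ¬ p ^ 2 ∣ p := fun h => by
  have := Nat.le_of_dvd hpf.out.pos h
  have := hpf.out.two_le
  rw [sq] at *
  nlinarith

theorem omega_mem : omega p ∈ ramBase p :=
  Subring.subset_closure ⟨p, not_sq_dvd_self, omega_pow⟩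

variable (p) in
/-- The uniformiser, in the base ring. -/
noncomputable def piB : ramBase p := ⟨omega p - 1, sub_mem omega_mem (one_mem _)⟩

theorem coe_piB : (piB p : ℂ) = omega p - 1 := rfl

/-- Every element of the base ring is an element of `regRing p` modulo `π`. -/
theorem exists_reg_add (x : ramBase p) : ∃ u : regRing p, ∃ w : ramBase p, (x : ℂ) = u + piB p * w := by
  obtain ⟨x, hx⟩ := x
  refine Subring.closure_induction (p := fun x _ => ∃ u : regRing p, ∃ w : ramBase p,
    x = (u : ℂ) + piB p * w) ?_ ?_ ?_ ?_ ?_ ?_ hx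
  · rintro z ⟨m, hm, hz⟩
    have hp := hpf.out
    have hm0 : m ≠ 0 := fun h => hm (h ▸ dvd_zero _)
    by_cases hpm : p ∣ m
    · obtain ⟨m', rfl⟩ := hpm
      have hm' : ¬ p ∣ m' := fun h => hm (by rw [sq]; exact Nat.mul_dvd_mul_left p h)
      obtain ⟨a, ha⟩ : ∃ a : ℕ, z ^ m' = omega p ^ a := by
        obtain ⟨i, -, hi⟩ := omega_primitive.eq_pow_of_pow_eq_one (ξ := z ^ m')
          (by rw [← pow_mul, mul_comm, hz])
        exact ⟨i, hi.symm⟩
      obtain ⟨b, hb⟩ : ∃ b : ℕ, m' * b ≡ 1 [MOD p] := by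
        refine ⟨((m' : ZMod p)⁻¹).val, ?_⟩
        rw [← ZMod.natCast_eq_natCast_iff, Nat.cast_mul, ZMod.natCast_zmod_val, Nat.cast_one,
          mul_inv_cancel₀ (by rwa [Ne, ZMod.natCast_eq_zero_iff])]
      -- `z = u * ω ^ j`
      set j := a * b with hj
      set u := z * (omega p ^ j)⁻¹ with hu
      have hω0 : omega p ≠ 0 := omega_primitive.ne_zero hp.ne_zero
      have hum : u ^ m' = 1 := by
        rw [hu, mul_pow, inv_pow, ha, mul_inv_eq_one₀ (pow_ne_zero _ (pow_ne_zero _ hω0)), ← pow_mul]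
        have h1 : a * b * m' ≡ a [MOD p] := by
          have h2 := hb.mul_left a
          rw [mul_one] at h2
          rwa [show a * b * m' = a * (m' * b) by ring]
        rw [pow_eq_pow_mod (j * m') omega_pow, pow_eq_pow_mod a omega_pow, hj, h1]
      have hgeom : (omega p - 1) * ∑ i ∈ Finset.range j, omega p ^ i = omega p ^ j - 1 := mul_geom_sum _ _
      refine ⟨⟨u, root_mem_regRing hm' hum⟩, ⟨u * ∑ i ∈ Finset.range j, omega p ^ i,
        mul_mem (regRing_le_ramBase (root_mem_regRing hm' hum))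
          (sum_mem fun i _ => pow_mem omega_mem i)⟩, ?_⟩
      show z = u + (omega p - 1) * (u * _)
      rw [mul_left_comm, hgeom, hu]
      field_simp
      ring
    · exact ⟨⟨z, root_mem_regRing hpm hz⟩, 0, by simp⟩
  · exact ⟨0, 0, by simp⟩
  · exact ⟨1, 0, by simp⟩
  · rintro _ _ _ _ ⟨u, w, rfl⟩ ⟨u', w', rfl⟩
    exact ⟨u + u', w + w', by push_cast; ring⟩
  · rintro _ _ ⟨u, w, rfl⟩
    exact ⟨-u, -w, by push_cast; ring⟩
  · rintro _ _ _ _ ⟨u, w, rfl⟩ ⟨u', w', rfl⟩
    exact ⟨u * u', ⟨(u : ℂ) * w' + (u' : ℂ) * w + piB p * w * w',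
      add_mem (add_mem (mul_mem (regRing_le_ramBase u.2) w'.2) (mul_mem (regRing_le_ramBase u'.2) w.2))
        (mul_mem (mul_mem (piB p).2 w.2) w'.2)⟩, by push_cast; ring⟩

section loc

variable (p) (M : Ideal AlgInt) [M.IsMaximal]

theorem ramBase_le : ramBase p ≤ locRing M := fun _ hz => integral_mem M (ramBase_isIntegral hz)

/-- The residue map on the base ring. -/
noncomputable def resB : ramBase p →+* ResField M :=
  (res M).comp (Subring.inclusion (ramBase_le p M))

variable {p M} in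
theorem coe_ne_zero_of_resB {v : ramBase p} (hv : resB p M v ≠ 0) : (v : ℂ) ≠ 0 := by
  intro h
  apply hv
  rw [show v = 0 from Subtype.ext h, map_zero]

/-- The local ring. -/
noncomputable def ram : Subring ℂ where
  carrier := {z | ∃ u v : ramBase p, resB p M v ≠ 0 ∧ z = (u : ℂ) / (v : ℂ)}
  zero_mem' := ⟨0, 1, by simp, by simp⟩
  one_mem' := ⟨1, 1, by simp, by simp⟩
  add_mem' := by
    rintro _ _ ⟨u, v, hv, rfl⟩ ⟨u', v', hv', rfl⟩
    refine ⟨u * v' + v * u', v * v', by rw [map_mul]; exact mul_ne_zero hv hv', ?_⟩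
    push_cast
    rw [div_add_div _ _ (coe_ne_zero_of_resB hv) (coe_ne_zero_of_resB hv')]
  mul_mem' := by
    rintro _ _ ⟨u, v, hv, rfl⟩ ⟨u', v', hv', rfl⟩
    exact ⟨u * u', v * v', by rw [map_mul]; exact mul_ne_zero hv hv', by
      push_cast; rw [div_mul_div_comm]⟩
  neg_mem' := by
    rintro _ ⟨u, v, hv, rfl⟩
    exact ⟨-u, v, hv, by push_cast; rw [neg_div]⟩

theorem ramBase_le_ram : ramBase p ≤ ram p M := fun z hz => ⟨⟨z, hz⟩, 1, by simp, by simp⟩

theorem ram_le : ram p M ≤ locRing M := by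
  rintro _ ⟨u, v, hv, rfl⟩
  refine ⟨toAlgInt (ramBase_isIntegral u.2), toAlgInt (ramBase_isIntegral v.2), ?_, rfl⟩
  intro h
  apply hv
  rw [← memLocalIdeal_algInt (M := M)] at h
  exact (memLocalIdeal_coe _).mp h

/-- The residue map. -/
noncomputable def resRam : ram p M →+* ResField M :=
  (res M).comp (Subring.inclusion (ram_le p M))

/-- The uniformiser. -/
noncomputable def piR : ram p M := ⟨omega p - 1, ramBase_le_ram p M (piB p).2⟩

/-- The ring structure, by one path. -/
noncomputable instance (priority := high) instCommRingRam : CommRing (ram p M) :=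
  (ram p M).toCommRing

variable {p M}

theorem resRam_base (x : ramBase p) (h : (x : ℂ) ∈ ram p M) : resRam p M ⟨x, h⟩ = resB p M x := rfl

theorem resRam_div {u v : ramBase p} (hv : resB p M v ≠ 0) {x : ram p M}
    (hx : (x : ℂ) = (u : ℂ) / v) : resRam p M x * resB p M v = resB p M u := by
  show res M _ * res M _ = res M _
  rw [← map_mul]
  congr 1
  refine Subtype.ext ?_
  show (x : ℂ) * (v : ℂ) = (u : ℂ)
  rw [hx, div_mul_cancel₀ _ (coe_ne_zero_of_resB hv)]

theorem isUnit_of_res {x : ram p M} (hx : resRam p M x ≠ 0) : IsUnit x := by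
  obtain ⟨u, v, hv, hxe⟩ := x.2
  have hu : resB p M u ≠ 0 := by
    rw [← resRam_div hv hxe]
    exact mul_ne_zero hx hv
  refine IsUnit.of_mul_eq_one ⟨(v : ℂ) / u, v, u, hu, rfl⟩ (Subtype.ext ?_)
  show (x : ℂ) * ((v : ℂ) / u) = 1
  rw [hxe, div_mul_div_comm, mul_comm, div_self
    (mul_ne_zero (coe_ne_zero_of_resB hv) (coe_ne_zero_of_resB hu))]

theorem resRam_surjective (hM : IsPModular p M) : Function.Surjective (resRam p M) := by
  intro x
  obtain ⟨u, hu⟩ := resU_surjective hM x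
  obtain ⟨a, b, hb, he⟩ := u.2
  refine ⟨⟨u, ⟨a, regRing_le_ramBase a.2⟩, ⟨b, regRing_le_ramBase b.2⟩, hb, he⟩, hu⟩

theorem resRam_piR (hM : IsPModular p M) : resRam p M (piR p M) = 0 := by
  have hmem : omega p ∈ locRing M := ramBase_le p M omega_mem
  have h1 : res M ⟨omega p, hmem⟩ = 1 := by
    have hchar := charP_resField hM
    have h : res M ⟨omega p, hmem⟩ ^ p = 1 := by
      rw [← map_pow, show (⟨omega p, hmem⟩ : locRing M) ^ p = 1 from Subtype.ext omega_pow, map_one]
    exact sub_eq_zero.mp (eq_zero_of_pow_eq_zero (n := p) (by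
      rw [sub_pow_char, h, one_pow, sub_self]))
  show res M ⟨omega p - 1, _⟩ = 0
  rw [show (⟨omega p - 1, ram_le p M (piR p M).2⟩ : locRing M) = ⟨omega p, hmem⟩ - 1 from rfl,
    map_sub, h1, map_one, sub_self]

theorem piR_ne_zero : piR p M ≠ 0 := fun h =>
  omega_ne_one (p := p) (sub_eq_zero.mp (congrArg Subtype.val h))

/-- `p` is a unit times `π ^ (p - 1)`. -/
theorem exists_natCast_eq (hM : IsPModular p M) :
    ∃ w : ram p M, resRam p M w ≠ 0 ∧ (p : ram p M) = piR p M ^ (p - 1) * w := by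
  have hp : p.Prime := hpf.out
  set S : ℕ → ram p M := fun i => ∑ j ∈ Finset.range i,
    (⟨omega p, ramBase_le_ram p M omega_mem⟩ : ram p M) ^ j with hS
  set o : ram p M := ⟨omega p, ramBase_le_ram p M omega_mem⟩ with ho
  have hπ : piR p M = o - 1 := rfl
  refine ⟨(-1) ^ (p - 1) * ∏ i ∈ Finset.range (p - 1), S (i + 1), ?_, ?_⟩
  · have hchar := charP_resField hM
    have ho1 : resRam p M o = 1 := by
      rw [← sub_eq_zero, ← map_one (resRam p M), ← map_sub, ← hπ, resRam_piR hM]
    rw [map_mul, map_pow, map_neg, map_one, map_prod]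
    refine mul_ne_zero (pow_ne_zero _ (neg_ne_zero.mpr one_ne_zero)) (Finset.prod_ne_zero_iff.mpr ?_)
    intro i hi
    simp only [hS, map_sum, map_pow, ho1, one_pow, Finset.sum_const, Finset.card_range, nsmul_eq_mul, mul_one]
    rw [Ne, CharP.cast_eq_zero_iff (ResField M) p]
    exact Nat.not_dvd_of_pos_of_lt (by omega) (by have := Finset.mem_range.mp hi; omega)
  · have hprim : IsPrimitiveRoot (omega p) ((p - 1) + 1) := by
      rw [Nat.sub_add_cancel hp.pos]; exact omega_primitive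
    have key := IsPrimitiveRoot.prod_one_sub_pow_eq_order hprim
    refine Subtype.ext ?_
    push_cast
    rw [show ((p : ℂ)) = ((p - 1 + 1 : ℕ) : ℂ) by rw [Nat.sub_add_cancel hp.pos], Nat.cast_add,
      Nat.cast_one, ← key, ← mul_assoc, ← mul_pow]
    rw [Finset.pow_eq_prod_const, ← Finset.prod_mul_distrib]
    refine Finset.prod_congr rfl fun i _ => ?_
    simp only [hS, AddSubmonoidClass.coe_finsetSum, SubmonoidClass.coe_pow]
    show (1 : ℂ) - omega p ^ (i + 1) =
      (omega p - 1) * -1 * ∑ j ∈ Finset.range (i + 1), omega p ^ j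
    rw [mul_comm (omega p - 1) (-1), mul_assoc, mul_geom_sum]
    ring

theorem piR_dvd_natCast (hM : IsPModular p M) : piR p M ∣ (p : ram p M) := by
  obtain ⟨w, -, hw⟩ := exists_natCast_eq hM
  rw [hw, show p - 1 = (p - 2) + 1 by have := hpf.out.two_le; omega, pow_succ']
  exact Dvd.intro _ (mul_assoc _ _ _).symm

theorem res_eq_zero_iff (hM : IsPModular p M) (x : ram p M) :
    resRam p M x = 0 ↔ piR p M ∣ x := by
  refine ⟨fun hx => ?_, fun ⟨y, hy⟩ => by rw [hy, map_mul, resRam_piR hM, zero_mul]⟩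
  obtain ⟨u, v, hv, hxe⟩ := x.2
  have hu : resB p M u = 0 := by rw [← resRam_div hv hxe, hx, zero_mul]
  obtain ⟨a, w, haw⟩ := exists_reg_add u
  have hau : u = ⟨(a : ℂ), regRing_le_ramBase a.2⟩ + piB p * w := Subtype.ext haw
  have hπB : resB p M (piB p) = 0 := resRam_piR hM
  rw [hau, map_add, map_mul, hπB, zero_mul, add_zero] at hu
  have ha : resU p M ⟨a, regRing_le_unr p M a.2⟩ = 0 := hu
  obtain ⟨⟨y, hy⟩, hya⟩ := (resU_eq_zero_iff hM _).mp ha
  obtain ⟨q, hq⟩ := piR_dvd_natCast hM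
  obtain ⟨b, c, hc, hbc⟩ := hy
  have hy' : y ∈ ram p M := ⟨⟨b, regRing_le_ramBase b.2⟩, ⟨c, regRing_le_ramBase c.2⟩, hc, hbc⟩
  have hvinv : ((v : ℂ))⁻¹ ∈ ram p M := ⟨1, v, hv, by simp⟩
  refine ⟨(q * ⟨y, hy'⟩ + ⟨w, ramBase_le_ram p M w.2⟩) * ⟨_, hvinv⟩, Subtype.ext ?_⟩
  push_cast
  have e1 : (a : ℂ) = (p : ℂ) * y := congrArg Subtype.val hya
  have e2 : (p : ℂ) = (piR p M : ℂ) * q := by
    have := congrArg Subtype.val hq
    push_cast at this
    exact this
  rw [hxe, haw, e1, e2, div_eq_mul_inv]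
  show _ = (piR p M : ℂ) * _
  rw [show (piB p : ℂ) = piR p M from rfl]
  ring

theorem exists_dvd_natCast {x : ram p M} (hx : x ≠ 0) :
    ∃ N : ℕ, N ≠ 0 ∧ x ∣ (N : ram p M) := by
  obtain ⟨u, v, hv, hxe⟩ := x.2
  have hu : (u : ℂ) ≠ 0 := by
    intro h
    apply hx
    refine Subtype.ext ?_
    rw [hxe, h, zero_div]
    rfl
  have hint := ramBase_isIntegral u.2
  set q := minpoly ℤ (u : ℂ) with hq
  have hq0 : q.coeff 0 ≠ 0 := by
    intro h
    have hd := ((Polynomial.irreducible_X (R := ℤ)).associated_of_dvd (minpoly.irreducible hint)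
      (Polynomial.X_dvd_iff.mpr h)).symm.dvd
    obtain ⟨c, hc⟩ := hd
    apply hu
    have := congrArg (Polynomial.aeval (u : ℂ)) hc
    rwa [Polynomial.aeval_X, map_mul, minpoly.aeval, zero_mul] at this
  have he := minpoly.aeval ℤ (u : ℂ)
  rw [← hq, ← Polynomial.X_mul_divX_add q, map_add, map_mul, Polynomial.aeval_X,
    Polynomial.aeval_C] at he
  have hmem : ∀ f : Polynomial ℤ, Polynomial.aeval (u : ℂ) f ∈ ramBase p := by
    intro f
    induction f using Polynomial.induction_on' with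
    | add a b ha hb => rw [map_add]; exact add_mem ha hb
    | monomial n c =>
      rw [Polynomial.aeval_monomial, algebraMap_int_eq, eq_intCast]
      exact mul_mem (intCast_mem _ c) (pow_mem u.2 n)
  refine ⟨(q.coeff 0).natAbs, Int.natAbs_ne_zero.mpr hq0, ?_⟩
  have hd : x ∣ ((q.coeff 0 : ℤ) : ram p M) := by
    refine ⟨⟨-(Polynomial.aeval (u : ℂ) q.divX * v),
      neg_mem (mul_mem (ramBase_le_ram p M (hmem _)) (ramBase_le_ram p M v.2))⟩, Subtype.ext ?_⟩
    show ((q.coeff 0 : ℤ) : ℂ) = (x : ℂ) * _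
    rw [hxe, mul_neg, div_mul_eq_mul_div, ← mul_assoc, mul_div_assoc,
      div_self (coe_ne_zero_of_resB hv), mul_one, eq_neg_iff_add_eq_zero, add_comm]
    exact_mod_cast he
  rcases Int.natAbs_eq (q.coeff 0) with h | h
  · rw [h, Int.cast_natCast] at hd
    exact hd
  · rw [h, Int.cast_neg, Int.cast_natCast] at hd
    exact dvd_neg.mp hd

theorem exists_eq_pow_mul (hM : IsPModular p M) {x : ram p M} (hx : x ≠ 0) :
    ∃ n : ℕ, ∃ y : ram p M, resRam p M y ≠ 0 ∧ x = piR p M ^ n * y := by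
  classical
  have hp := hM.1
  obtain ⟨N, hN, hdvd⟩ := exists_dvd_natCast hx
  obtain ⟨a, N', hN', rfl⟩ := Nat.exists_eq_pow_mul_and_not_dvd hN p hp.ne_one
  obtain ⟨w, hw, hpw⟩ := exists_natCast_eq (p := p) hM
  have hfin : ∃ n, ¬ piR p M ^ n ∣ x := by
    refine ⟨(p - 1) * a + 1, fun h => ?_⟩
    obtain ⟨z, hz⟩ := h.trans hdvd
    push_cast at hz
    rw [hpw, mul_pow, ← pow_mul, pow_succ, mul_assoc, mul_assoc,
      mul_right_inj' (pow_ne_zero _ piR_ne_zero)] at hz
    have h0 := congrArg (resRam p M) hz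
    rw [map_mul, map_mul, map_pow, map_natCast, resRam_piR hM, zero_mul] at h0
    have := charP_resField hM
    rcases mul_eq_zero.mp h0 with h1 | h1
    · exact hw (eq_zero_of_pow_eq_zero h1)
    · exact hN' ((CharP.cast_eq_zero_iff (ResField M) p N').mp h1)
  set n := Nat.find hfin with hn
  have hn0 : n ≠ 0 := by
    intro h
    have := Nat.find_spec hfin
    rw [← hn, h, pow_zero] at this
    exact this (one_dvd _)
  obtain ⟨y, hy⟩ : piR p M ^ (n - 1) ∣ x := by
    by_contra h
    have := Nat.find_min' hfin h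
    omega
  refine ⟨n - 1, y, fun h0 => ?_, hy⟩
  obtain ⟨z, rfl⟩ := (res_eq_zero_iff hM y).mp h0
  apply Nat.find_spec hfin
  rw [← hn, hy, ← Nat.sub_add_cancel (Nat.pos_of_ne_zero hn0)]
  exact ⟨z, by rw [Nat.add_sub_cancel, pow_succ, mul_assoc]⟩

theorem isPrincipalIdealRing_ram (hM : IsPModular p M) : IsPrincipalIdealRing (ram p M) := by
  have : IsDiscreteValuationRing (ram p M) := by
    refine IsDiscreteValuationRing.ofHasUnitMulPowIrreducibleFactorization ⟨piR p M, ?_, ?_⟩
    · refine ⟨fun h => ?_, fun a b hab => ?_⟩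
      · exact (h.map (resRam p M)).ne_zero (resRam_piR hM)
      · by_contra hne
        rw [not_or] at hne
        have ha : resRam p M a = 0 := by_contra fun h => hne.1 (isUnit_of_res h)
        have hb : resRam p M b = 0 := by_contra fun h => hne.2 (isUnit_of_res h)
        obtain ⟨a', rfl⟩ := (res_eq_zero_iff hM a).mp ha
        rw [mul_assoc] at hab
        have h1 := (mul_right_eq_self₀.mp hab.symm).resolve_right piR_ne_zero
        have h2 := congrArg (resRam p M) h1
        rw [map_mul, map_one, hb, mul_zero] at h2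
        exact zero_ne_one h2
    · intro x hx
      obtain ⟨n, y, hy, rfl⟩ := exists_eq_pow_mul hM hx
      exact ⟨n, (associated_mul_unit_right _ y (isUnit_of_res hy))⟩
  infer_instance

/-! ### The field of fractions -/

theorem ramBase_le_field {x : ℂ} (hx : x ∈ ramBase p) : x ∈ ramField p :=
  Subring.closure_le.mpr (Subfield.subset_closure (s := ramRoots p)) hx

theorem ram_le_field {x : ℂ} (hx : x ∈ ram p M) : x ∈ ramField p := by
  obtain ⟨u, v, -, rfl⟩ := hx
  exact div_mem (ramBase_le_field u.2) (ramBase_le_field v.2)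

/-- The inclusion in the field. -/
noncomputable def toK : ram p M →+* ramField p where
  toFun x := ⟨x, ram_le_field x.2⟩
  map_one' := rfl
  map_mul' _ _ := rfl
  map_zero' := rfl
  map_add' _ _ := rfl

@[simp] theorem coe_toK (x : ram p M) : ((toK x : ramField p) : ℂ) = x := rfl

theorem toK_injective : Function.Injective (toK (p := p) (M := M)) := fun _ _ h =>
  Subtype.ext (congrArg (Subtype.val : ramField p → ℂ) h)

/-- An element of the field is integral or the inverse of a multiple of `π`. -/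
theorem mem_or_inv (hM : IsPModular p M) (x : ramField p) :
    (x : ℂ) ∈ ram p M ∨ ∃ y : ram p M, (x : ℂ) * ((piR p M : ℂ) * y) = 1 := by
  obtain ⟨a, ha, b, hb, hab⟩ := Subfield.mem_closure_iff.mp x.2
  rcases eq_or_ne b 0 with rfl | hb0
  · left
    rw [← hab, div_zero]
    exact zero_mem _
  rcases eq_or_ne a 0 with rfl | ha0
  · left
    rw [← hab, zero_div]
    exact zero_mem _
  set A : ram p M := ⟨a, ramBase_le_ram p M ha⟩ with hA
  set B : ram p M := ⟨b, ramBase_le_ram p M hb⟩ with hB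
  have hA0 : A ≠ 0 := fun h => ha0 (congrArg Subtype.val h)
  have hB0 : B ≠ 0 := fun h => hb0 (congrArg Subtype.val h)
  obtain ⟨m, u, hu, hAu⟩ := exists_eq_pow_mul hM hA0
  obtain ⟨n, v, hv, hBv⟩ := exists_eq_pow_mul hM hB0
  obtain ⟨u', hu'⟩ := isUnit_iff_exists_inv.mp (isUnit_of_res hu)
  obtain ⟨v', hv'⟩ := isUnit_iff_exists_inv.mp (isUnit_of_res hv)
  have ea := congrArg Subtype.val hAu
  have eb := congrArg Subtype.val hBv
  have eu := congrArg Subtype.val hu'
  have ev := congrArg Subtype.val hv'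
  simp only [hA, hB, Subring.coe_mul, SubmonoidClass.coe_pow, Subring.coe_one] at ea eb eu ev
  have hπ : (piR p M : ℂ) ≠ 0 := fun h => piR_ne_zero (p := p) (M := M) (Subtype.ext h)
  have hv0 : (v : ℂ) ≠ 0 := left_ne_zero_of_mul_eq_one ev
  have hu0 : (u : ℂ) ≠ 0 := left_ne_zero_of_mul_eq_one eu
  rcases le_or_gt n m with hnm | hnm
  · left
    have : (x : ℂ) = ((piR p M ^ (m - n) * u * v' : ram p M) : ℂ) := by
      push_cast
      rw [← hab, div_eq_iff hb0, ea, eb]
      obtain ⟨k, rfl⟩ := Nat.exists_eq_add_of_le hnm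
      rw [Nat.add_sub_cancel_left, pow_add]
      linear_combination (-(piR p M : ℂ) ^ n * (piR p M : ℂ) ^ k * u) * ev
    rw [this]
    exact Subtype.prop _
  · right
    refine ⟨piR p M ^ (n - m - 1) * v * u', ?_⟩
    push_cast
    obtain ⟨k, rfl⟩ := Nat.exists_eq_add_of_le (Nat.succ_le_of_lt hnm)
    rw [show m.succ + k - m - 1 = k by omega, ← hab, ea, eb, Nat.succ_eq_add_one, div_mul_eq_mul_div,
      div_eq_one_iff_eq (mul_ne_zero (pow_ne_zero _ hπ) hv0), pow_add, pow_add, pow_one]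
    linear_combination ((piR p M : ℂ) ^ m * (piR p M : ℂ) ^ k * (piR p M : ℂ) * v) * eu

end loc

end CfsgLib.Char.SmallDegree
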