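import Cfsg.Agent.Lib.Char.SmallDegree.Weights

/-!
# The form fixed by the translation

`jmat` is the form preserved by the translation; it turns the square of a representation into a
representation on matrices in which the translation acts by conjugation.
-/

set_option autoImplicit false
set_option linter.unusedSectionVars false

namespace CfsgLib.Char.SmallDegree

open Matrix Finset CfsgLib.Char.HalfDegree

variable {k : Type*} [Field k]

/-- An alternating convolution of binomial coefficients. -/
theorem sum_alt_choose : ∀ n a b : ℕ,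
    ∑ l ∈ range (n + 1), (-1 : k) ^ l * (n.choose l : k) * (l.choose a : k) * ((n - l).choose b : k) =
      if a + b = n then (-1 : k) ^ a * (n.choose a : k) else 0
  | 0, a, b => by
    rcases a with _ | a <;> rcases b with _ | b <;> simp
  | n + 1, a, b => by
    have ih := fun a b => sum_alt_choose n a b
    have hsplit : ∑ l ∈ range (n + 2),
        (-1 : k) ^ l * ((n + 1).choose l : k) * (l.choose a : k) * ((n + 1 - l).choose b : k) =
        ∑ l ∈ range (n + 1), (-1 : k) ^ l * (n.choose l : k) * (l.choose a : k) * ((n - l + 1).choose b : k) -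
        ∑ l ∈ range (n + 1), (-1 : k) ^ l * (n.choose l : k) * ((l + 1).choose a : k) * ((n - l).choose b : k) := by
      rw [Finset.sum_range_succ', Nat.choose_zero_right, ← Finset.sum_sub_distrib]
      conv_rhs => rw [Finset.sum_range_succ']
      rw [Finset.sum_range_succ, Finset.sum_congr rfl (g := fun l =>
        (-1 : k) ^ (l + 1) * (n.choose (l + 1) : k) * ((l + 1).choose a : k) * ((n - (l + 1) + 1).choose b : k) -
        (-1 : k) ^ (l + 1) * (n.choose (l + 1) : k) * ((l + 1 + 1).choose a : k) * ((n - (l + 1)).choose b : k) -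
        ((-1 : k) ^ l * (n.choose l : k) * ((l + 1).choose a : k) * ((n - l).choose b : k) -
          (-1 : k) ^ (l + 1) * (n.choose (l + 1) : k) * ((l + 1 + 1).choose a : k) * ((n - (l + 1)).choose b : k)))
        fun l hl => ?_]
      · have htel := Finset.sum_range_sub'
          (fun l => (-1 : k) ^ l * (n.choose l : k) * ((l + 1).choose a : k) * ((n - l).choose b : k)) n
        rw [Finset.sum_sub_distrib, htel]
        simp only [Nat.choose_self, Nat.sub_self, pow_zero, Nat.choose_zero_right, Nat.sub_zero, pow_succ]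
        push_cast
        ring
      · rw [mem_range] at hl
        rw [Nat.choose_succ_succ' n l, show n + 1 - (l + 1) = n - l by omega,
          show n - (l + 1) + 1 = n - l by omega]
        push_cast
        ring
    rw [hsplit]
    rcases a with _ | a
    · rcases b with _ | b
      · simp only [Nat.choose_zero_right]
        simp
      · simp only [Nat.choose_zero_right, Nat.choose_succ_succ' _ b, Nat.cast_add, Nat.cast_one, mul_one,
          mul_add, Finset.sum_add_distrib]
        have h1 := ih 0 b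
        simp only [Nat.choose_zero_right, Nat.cast_one, mul_one, zero_add, pow_zero] at h1
        rw [h1]
        split_ifs <;> first | omega | ring
    · rcases b with _ | b
      · simp only [Nat.choose_zero_right, Nat.choose_succ_succ' _ a, Nat.cast_add, Nat.cast_one, mul_one,
          mul_add, Finset.sum_add_distrib]
        have h1 := ih a 0
        simp only [Nat.choose_zero_right, Nat.cast_one, mul_one, add_zero] at h1
        rw [h1]
        split_ifs with h2 h3
        · subst h2
          simp [pow_succ]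
        · omega
        · omega
        · ring
      · simp only [Nat.choose_succ_succ' _ a, Nat.choose_succ_succ' _ b, Nat.cast_add, mul_add, add_mul,
          Finset.sum_add_distrib, ih]
        split_ifs <;> first | omega | skip
        all_goals simp_all [pow_succ]
        all_goals ring

variable {c : ℕ}

local notation "Mat" => Matrix (Fin (c + 1)) (Fin (c + 1)) k

/-- The form. -/
noncomputable def jmat : Mat :=
  Matrix.of fun l m => if (l : ℕ) + m = c then (-1 : k) ^ (l : ℕ) * (c.choose l : k) else 0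

/-- Its inverse. -/
noncomputable def jinv : Mat :=
  Matrix.of fun l m => if (l : ℕ) + m = c then ((-1 : k) ^ (m : ℕ) * (c.choose m : k))⁻¹ else 0

/-- The partner position. -/
def opp (l : Fin (c + 1)) : Fin (c + 1) := ⟨c - l, by omega⟩

theorem opp_opp (l : Fin (c + 1)) : opp (opp l) = l := Fin.ext (by simp [opp]; omega)

theorem opp_involutive : Function.Involutive (opp (c := c)) := opp_opp

theorem add_eq_iff (l m : Fin (c + 1)) : (l : ℕ) + m = c ↔ m = opp l := by
  simp [opp, Fin.ext_iff]; omega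

theorem sum_ite_opp {M : Type*} [AddCommMonoid M] (l : Fin (c + 1)) (f : Fin (c + 1) → M) :
    ∑ m : Fin (c + 1), (if (l : ℕ) + m = c then f m else 0) = f (opp l) := by
  simp only [add_eq_iff, Finset.sum_ite_eq', mem_univ, if_true]

theorem jmat_mul_apply (f : Mat) (l m : Fin (c + 1)) :
    (jmat * f : Mat) l m = (-1 : k) ^ (l : ℕ) * (c.choose l : k) * f (opp l) m := by
  simp only [Matrix.mul_apply, jmat, of_apply, ite_mul, zero_mul]
  exact sum_ite_opp l fun i => (-1 : k) ^ (l : ℕ) * (c.choose l : k) * f i m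

theorem mul_jmat_apply (f : Mat) (l m : Fin (c + 1)) :
    (f * jmat : Mat) l m = f l (opp m) * ((-1 : k) ^ (opp m : ℕ) * (c.choose (opp m) : k)) := by
  simp only [Matrix.mul_apply, jmat, of_apply, mul_ite, mul_zero, add_comm _ (m : ℕ)]
  exact sum_ite_opp m fun i => f l i * ((-1 : k) ^ (i : ℕ) * (c.choose i : k))

theorem mul_jinv_apply (f : Mat) (l m : Fin (c + 1)) :
    (f * jinv : Mat) l m = f l (opp m) * ((-1 : k) ^ (m : ℕ) * (c.choose m : k))⁻¹ := by
  simp only [Matrix.mul_apply, jinv, of_apply, mul_ite, mul_zero, add_comm _ (m : ℕ)]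
  exact sum_ite_opp m fun i => f l i * ((-1 : k) ^ (m : ℕ) * (c.choose m : k))⁻¹

variable {p : ℕ} [hp : Fact p.Prime] [CharP k p]

theorem choose_ne_zero (hc : c < p) (l : Fin (c + 1)) :
    (-1 : k) ^ (l : ℕ) * (c.choose l : k) ≠ 0 := by
  refine mul_ne_zero (pow_ne_zero _ (neg_ne_zero.mpr one_ne_zero)) ?_
  rw [Ne, CharP.cast_eq_zero_iff k p]
  exact fun hdvd => (hp.out.coprime_iff_not_dvd.mp
    (Nat.Prime.coprime_choose_of_lt hp.out hc (by omega))) hdvd

theorem jmat_mul_jinv (hc : c < p) : (jmat * jinv : Mat) = 1 := by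
  ext l m
  rw [mul_jinv_apply, jmat, of_apply, Matrix.one_apply]
  by_cases h : l = m
  · subst h
    rw [if_pos (by simp [opp]; omega), if_pos rfl, mul_inv_cancel₀ (choose_ne_zero (p := p) hc l)]
  · rw [if_neg fun e => h (Fin.ext (by simp [opp] at e; omega)), zero_mul, if_neg h]

theorem jinv_mul_jmat (hc : c < p) : (jinv * jmat : Mat) = 1 :=
  mul_eq_one_comm.mp (jmat_mul_jinv (p := p) hc)

theorem jmat_transpose : (jmatᵀ : Mat) = (-1 : k) ^ c • jmat := by
  ext l m
  rw [transpose_apply, Matrix.smul_apply, jmat, of_apply, of_apply, smul_eq_mul, add_comm (m : ℕ)]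
  split_ifs with h
  · rw [show (c.choose (m : ℕ)) = c.choose l by rw [← Nat.choose_symm (show (l : ℕ) ≤ c by omega), show c - (l : ℕ) = m by omega],
      show (-1 : k) ^ c = (-1 : k) ^ (l : ℕ) * (-1 : k) ^ (m : ℕ) by rw [← pow_add, h]]
    have hsq : (-1 : k) ^ (l : ℕ) * (-1 : k) ^ (l : ℕ) = 1 := by rw [← mul_pow]; simp
    linear_combination (-((-1 : k) ^ (m : ℕ) * (c.choose l : k))) * hsq
  · rw [mul_zero]

theorem tmat_jmat : (tmat 1 * jmat * (tmat 1)ᵀ : Mat) = jmat := by
  ext a b
  rw [Matrix.mul_apply]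
  simp only [mul_jmat_apply, transpose_apply, tmat, of_apply, tc_one]
  rw [← Equiv.sum_comp (Function.Involutive.toPerm opp opp_involutive), jmat, of_apply]
  simp only [Function.Involutive.coe_toPerm, opp_opp]
  rw [← sum_alt_choose c (a : ℕ) (b : ℕ),
    ← Fin.sum_univ_eq_sum_range (fun l => (-1 : k) ^ l * (c.choose l : k) * (l.choose (a : ℕ) : k) *
      ((c - l).choose (b : ℕ) : k))]
  refine Finset.sum_congr rfl fun l _ => ?_
  simp only [opp]
  ring

theorem jmat_tmat (hc : c < p) : (jmat * (tmat 1)ᵀ * jinv : Mat) = tmat (-1) := by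
  calc (jmat * (tmat 1)ᵀ * jinv : Mat) = tmat (-1) * (tmat 1 * jmat * (tmat 1)ᵀ) * jinv := by
        simp only [← mul_assoc, tmat_neg_mul_one, one_mul]
    _ = tmat (-1) := by rw [tmat_jmat, mul_assoc, jmat_mul_jinv (p := p) hc, mul_one]

theorem jmat_mmat (hc : c < p) {r : k} (hr : r ≠ 0) :
    (jmat * (mmat r : Mat)ᵀ * jinv : Mat) = r⁻¹ ^ c • mmat r⁻¹ := by
  have h : (jmat * (mmat r : Mat)ᵀ : Mat) = (r⁻¹ ^ c • mmat r⁻¹) * jmat := by
    ext l m
    rw [jmat_mul_apply, smul_mul_assoc, Matrix.smul_apply, mmat, mmat, Matrix.diagonal_transpose,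
      Matrix.diagonal_mul, inv_inv, jmat, of_apply, Matrix.diagonal_apply, smul_eq_mul]
    by_cases h : opp l = m
    · subst h
      rw [if_pos rfl, if_pos ((add_eq_iff l _).mpr rfl)]
      have : r⁻¹ ^ c = r⁻¹ ^ (opp l : ℕ) * r⁻¹ ^ (l : ℕ) := by
        rw [← pow_add]; congr 1; simp [opp]; omega
      rw [this]
      have h1 : r⁻¹ ^ (l : ℕ) * r ^ (l : ℕ) = 1 := by rw [← mul_pow, inv_mul_cancel₀ hr, one_pow]
      linear_combination (-((-1 : k) ^ (l : ℕ) * (c.choose l : k) * r⁻¹ ^ (opp l : ℕ))) * h1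
    · rw [if_neg h, if_neg fun e => h ((add_eq_iff l m).mp e).symm]
      ring
  rw [h, mul_assoc, jmat_mul_jinv (p := p) hc, mul_one]

/-- The adjoint for the form. -/
noncomputable def adjJ : Module.End k Mat where
  toFun f := jmat * fᵀ * jinv
  map_add' f g := by rw [transpose_add, mul_add, add_mul]
  map_smul' a f := by rw [transpose_smul, mul_smul_comm, smul_mul_assoc, RingHom.id_apply]

theorem adjJ_apply (f : Mat) : adjJ f = jmat * fᵀ * jinv := rfl

theorem adjJ_mul (hc : c < p) (f g : Mat) : adjJ (f * g) = adjJ g * adjJ f := by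
  rw [adjJ_apply, adjJ_apply, adjJ_apply, transpose_mul]
  simp only [mul_assoc]
  rw [← mul_assoc jinv jmat, jinv_mul_jmat (p := p) hc, one_mul]

theorem adjJ_one (hc : c < p) : adjJ (1 : Mat) = 1 := by
  rw [adjJ_apply, transpose_one, mul_one, jmat_mul_jinv (p := p) hc]

theorem jinv_transpose (hc : c < p) : (jinvᵀ : Mat) = (-1 : k) ^ c • jinv := by
  have h : (jmatᵀ : Mat) * jinvᵀ = 1 := by
    rw [← transpose_mul, jinv_mul_jmat (p := p) hc, transpose_one]
  rw [jmat_transpose, smul_mul_assoc] at h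
  have hs : (-1 : k) ^ c * (-1 : k) ^ c = 1 := by rw [← mul_pow]; simp
  have h2 := congrArg (fun X : Mat => jinv * X) h
  simp only [mul_smul_comm, ← mul_assoc, jinv_mul_jmat (p := p) hc, one_mul, mul_one] at h2
  calc (jinvᵀ : Mat) = ((-1 : k) ^ c * (-1 : k) ^ c) • jinvᵀ := by rw [hs, one_smul]
    _ = _ := by rw [mul_smul, h2]

theorem adjJ_adjJ (hc : c < p) (f : Mat) : adjJ (adjJ f) = f := by
  rw [adjJ_apply, adjJ_apply, transpose_mul, transpose_mul, transpose_transpose, jmat_transpose,
    jinv_transpose (p := p) hc]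
  simp only [smul_mul_assoc, mul_smul_comm, smul_smul, ← mul_pow]
  rw [show (-1 : k) * -1 = 1 by ring, one_pow, one_smul]
  simp only [← mul_assoc, jmat_mul_jinv (p := p) hc, one_mul]
  rw [mul_assoc, jmat_mul_jinv (p := p) hc, mul_one]

theorem adjJ_ymat (hc : c < p) : adjJ (ymat : Mat) = -ymat := by
  have h : (jmat * (ymat : Mat)ᵀ : Mat) = -ymat * jmat := by
    ext a b
    rw [jmat_mul_apply, neg_mul, Matrix.neg_apply, mul_jmat_apply, transpose_apply]
    simp only [ymat, of_apply, opp]
    by_cases h : (a : ℕ) + b = c + 1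
    · rw [if_pos (by omega), if_pos (by omega)]
      obtain ⟨a', ha'⟩ : ∃ a', (a : ℕ) = a' + 1 := ⟨(a : ℕ) - 1, by omega⟩
      rw [ha', show c - (b : ℕ) = a' by omega, Nat.cast_sub (show a' + 1 ≤ c by omega)]
      have hch := choose_succ_mul (k := k) c a'
      push_cast
      rw [pow_succ]
      linear_combination (-1 : k) ^ a' * hch
    · rw [if_neg (by omega), if_neg (by omega)]
      ring
  rw [adjJ_apply, h, mul_assoc, jmat_mul_jinv (p := p) hc, mul_one]

theorem adjJ_ymat_pow (hc : c < p) : ∀ s : ℕ, adjJ ((ymat : Mat) ^ s) = (-1 : k) ^ s • ymat ^ s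
  | 0 => by rw [pow_zero, pow_zero, one_smul, adjJ_one (p := p) hc]
  | s + 1 => by
    rw [pow_succ, adjJ_mul (p := p) hc, adjJ_ymat_pow hc s, adjJ_ymat (p := p) hc, mul_smul_comm, neg_mul,
      ← pow_succ', ← pow_succ, pow_succ (-1 : k), mul_neg_one, neg_smul, smul_neg]

theorem adjJ_adX (hc : c < p) (f : Mat) : adjJ (adX f) = adX (adjJ f) := by
  have h1 : adjJ (tmat 1 : Mat) = tmat (-1) := jmat_tmat (p := p) hc
  have h2 : adjJ (tmat (-1) : Mat) = tmat 1 := by rw [← h1, adjJ_adjJ (p := p) hc]
  rw [adX_apply, adX_apply, adjJ_mul (p := p) hc, adjJ_mul (p := p) hc, h1, h2, mul_assoc]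

/-- The highest power of `adA` kills an eigenvector of the adjoint of the wrong parity. -/
theorem adA_pow_top (hp2 : (2 : k) ≠ 0) (hc : c < p) {ε : k} (hε : ε = -((-1 : k) ^ c)) {f : Mat}
    (hf : adjJ f = ε • f) : ((adA : Module.End k Mat) ^ (2 * c)) f = 0 := by
  set g := ((adA : Module.End k Mat) ^ (2 * c)) f with hg
  have hcomm : Commute (adjJ : Module.End k Mat) adA :=
    (show Commute (adjJ : Module.End k Mat) adX from LinearMap.ext fun u => adjJ_adX (p := p) hc u).sub_right
      (Commute.one_right _)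
  have h1 : adjJ g = ε • g := by
    rw [hg, ← Module.End.mul_apply, (hcomm.pow_right (2 * c)).eq, Module.End.mul_apply, hf, map_smul]
  have hdeg : ∀ n : ℕ, ((adA : Module.End k Mat) ^ n) f ∈ supp (degGE (-(c : ℤ) + n)) := by
    intro n
    induction n with
    | zero =>
      intro a b h
      exact absurd (show degGE (-(c : ℤ) + ((0 : ℕ) : ℤ)) a b by unfold degGE; omega) h
    | succ n ih =>
      rw [pow_succ', Module.End.mul_apply, show -(c : ℤ) + ((n + 1 : ℕ) : ℤ) = -(c : ℤ) + n + 1 by
        push_cast; ring]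
      exact adA_mem_degGE ih
  have hsupp : ∀ a b : Fin (c + 1), ¬ ((a : ℕ) = 0 ∧ (b : ℕ) = c) → g a b = 0 := fun a b hab =>
    hdeg (2 * c) a b (by unfold degGE; push_cast; omega)
  set a0 : Fin (c + 1) := ⟨0, Nat.succ_pos c⟩
  set b0 : Fin (c + 1) := Fin.last c
  have hj : adjJ g a0 b0 = (-1 : k) ^ c * g a0 b0 := by
    rw [adjJ_apply, mul_jinv_apply, jmat_mul_apply, transpose_apply,
      show opp b0 = a0 from Fin.ext (by simp [opp, a0, b0]),
      show opp a0 = b0 from Fin.ext (by simp [opp, a0, b0])]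
    simp only [a0, b0, Fin.val_last, pow_zero, Nat.choose_zero_right, Nat.choose_self, Nat.cast_one,
      mul_one, one_mul]
    rw [← inv_pow, inv_neg, inv_one, mul_comm]
  rw [h1, Matrix.smul_apply, smul_eq_mul, hε] at hj
  have h0 : g a0 b0 = 0 := by
    have h2 : ((-1 : k) ^ c * 2) * g a0 b0 = 0 := by linear_combination -hj
    exact (mul_eq_zero.mp h2).resolve_left
      (mul_ne_zero (pow_ne_zero _ (neg_ne_zero.mpr one_ne_zero)) hp2)
  ext a b
  by_cases h : (a : ℕ) = 0 ∧ (b : ℕ) = c
  · rw [show a = a0 from Fin.ext h.1, show b = b0 from Fin.ext h.2, h0]; rfl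
  · rw [hsupp a b h]; rfl

end CfsgLib.Char.SmallDegree
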